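import Cfsg.Agent.Lib.Basics.Tools
import Cfsg.Prelude.Def_Solvable
import Mathlib.GroupTheory.NoncommPiCoprod
import Mathlib.GroupTheory.Frattini

/-!
Facts on `Cfsg.pCore`, `Cfsg.pPrimeCore` and `Cfsg.fittingSubgroup` of finite groups.
-/

set_option autoImplicit false
set_option linter.style.haveILetI false
set_option linter.unusedSectionVars false

open scoped Pointwise commutatorElement

namespace Cfsg.Agent.Basics

variable {G : Type*} [Group G]

theorem isPGroup_map_equiv {G' : Type*} [Group G'] {p : ℕ} {N : Subgroup G} (hN : IsPGroup p N)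
    (φ : G ≃* G') : IsPGroup p (N.map φ.toMonoidHom) :=
  hN.map _

theorem normal_map_equiv {G' : Type*} [Group G'] {N : Subgroup G} (hN : N.Normal)
    (φ : G ≃* G') : (N.map φ.toMonoidHom).Normal :=
  hN.map _ φ.surjective

theorem sSup_map_le {P : Subgroup G → Prop} (φ : G ≃* G)
    (h : ∀ N, P N → P (N.map φ.toMonoidHom)) :
    (sSup {N | P N}).map φ.toMonoidHom ≤ sSup {N | P N} := by
  rw [sSup_eq_iSup, Subgroup.map_iSup]
  refine iSup_le fun N => ?_
  rw [Subgroup.map_iSup]
  refine iSup_le fun hN => ?_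
  rw [← sSup_eq_iSup]
  exact le_sSup (h N hN)

instance pCore_characteristic (p : ℕ) : (Cfsg.pCore p G).Characteristic := by
  rw [Subgroup.characteristic_iff_map_le]
  exact fun φ => sSup_map_le φ fun N hN => ⟨normal_map_equiv hN.1 φ, isPGroup_map_equiv hN.2 φ⟩

instance pPrimeCore_characteristic (p : ℕ) : (Cfsg.pPrimeCore p G).Characteristic := by
  rw [Subgroup.characteristic_iff_map_le]
  exact fun φ => sSup_map_le φ fun N hN => ⟨normal_map_equiv hN.1 φ, by
    rw [Subgroup.card_map_of_injective φ.injective]; exact hN.2⟩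

instance fittingSubgroup_characteristic : (Cfsg.fittingSubgroup G).Characteristic := by
  rw [Subgroup.characteristic_iff_map_le]
  refine fun φ => sSup_map_le φ fun N hN => ⟨normal_map_equiv hN.1 φ, ?_⟩
  have := hN.2
  exact Group.nilpotent_of_surjective (φ.toMonoidHom.subgroupMap N)
    (φ.toMonoidHom.subgroupMap_surjective N)

instance pCore_normal (p : ℕ) : (Cfsg.pCore p G).Normal := Subgroup.normal_of_characteristic _

instance pPrimeCore_normal (p : ℕ) : (Cfsg.pPrimeCore p G).Normal :=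
  Subgroup.normal_of_characteristic _

instance fittingSubgroup_normal : (Cfsg.fittingSubgroup G).Normal :=
  Subgroup.normal_of_characteristic _

theorem pCore_isPGroup (p : ℕ) [Fact p.Prime] : IsPGroup p (Cfsg.pCore p G) := by
  refine Sylow.sSup_of_normal _ (fun H hH => hH.2) (fun H hH => hH.1)

theorem le_pCore {p : ℕ} {N : Subgroup G} [hN : N.Normal] (h : IsPGroup p N) :
    N ≤ Cfsg.pCore p G :=
  le_sSup ⟨hN, h⟩

theorem pCore_le_sylow (p : ℕ) [Fact p.Prime] (P : Sylow p G) : Cfsg.pCore p G ≤ P :=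
  (pCore_isPGroup p).le_sylow_of_normal P

variable [Finite G]

theorem pCore_eq_iInf_sylow (p : ℕ) [Fact p.Prime] :
    Cfsg.pCore p G = ⨅ P : Sylow p G, (P : Subgroup G) := by
  refine le_antisymm (le_iInf (pCore_le_sylow p)) ?_
  have : (⨅ P : Sylow p G, (P : Subgroup G)).Normal := by
    constructor
    intro x hx g
    rw [Subgroup.mem_iInf] at hx ⊢
    intro P
    have h := hx (g⁻¹ • P)
    rw [Sylow.coe_subgroup_smul, mem_conj_smul, inv_inv] at h
    exact h
  exact le_pCore ((default : Sylow p G).isPGroup'.to_le (iInf_le _ default))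

theorem pPrimeCore_coprime (p : ℕ) : (Nat.card (Cfsg.pPrimeCore p G)).Coprime p := by
  obtain ⟨M, -, ⟨hMn, hMc⟩, hmax⟩ := Finite.exists_le_maximal
    (p := fun N : Subgroup G => N.Normal ∧ (Nat.card N).Coprime p) (a := ⊥)
    ⟨inferInstance, by simp⟩
  have : Cfsg.pPrimeCore p G = M := by
    refine le_antisymm (sSup_le fun N hN => ?_) (le_sSup ⟨hMn, hMc⟩)
    have := hN.1
    have hc : (Nat.card (N ⊔ M : Subgroup G)).Coprime p := by
      refine Nat.Coprime.coprime_dvd_left ?_ (hN.2.mul_left hMc)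
      rw [card_mul_card_eq_card_sup_mul_card_inf (Subgroup.le_normalizer_of_normal (H := N))]
      exact dvd_mul_right _ _
    exact le_sup_left.trans (hmax ⟨inferInstance, hc⟩ le_sup_right)
  rw [this]; exact hMc

theorem le_pPrimeCore {p : ℕ} {N : Subgroup G} [hN : N.Normal] (h : (Nat.card N).Coprime p) :
    N ≤ Cfsg.pPrimeCore p G :=
  le_sSup ⟨hN, h⟩

theorem not_dvd_card_pPrimeCore (p : ℕ) [hp : Fact p.Prime] :
    ¬ p ∣ Nat.card (Cfsg.pPrimeCore p G) :=
  (hp.out.coprime_iff_not_dvd).mp (pPrimeCore_coprime p).symm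

theorem card_comap_mk' {N : Subgroup G} [N.Normal] (K : Subgroup (G ⧸ N)) :
    Nat.card (K.comap (QuotientGroup.mk' N)) = Nat.card N * Nat.card K := by
  refine (QuotientGroup.card_preimage_mk N (K : Set (G ⧸ N))).trans ?_
  rfl

theorem pCore_quotient_eq_bot (p : ℕ) [Fact p.Prime] :
    Cfsg.pCore p (G ⧸ Cfsg.pCore p G) = ⊥ := by
  set N := Cfsg.pCore p G
  set K := Cfsg.pCore p (G ⧸ N)
  have hle : K.comap (QuotientGroup.mk' N) ≤ N :=
    le_pCore ((pCore_isPGroup p).comap_of_ker_isPGroup _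
      (by rw [QuotientGroup.ker_mk']; exact pCore_isPGroup p))
  have h1 := card_comap_mk' (N := N) K
  have h2 := Subgroup.card_le_of_le hle
  have h3 : Nat.card K ≤ 1 :=
    Nat.le_of_mul_le_mul_left (by rw [mul_one, ← h1]; exact h2) Nat.card_pos
  exact Subgroup.card_le_one_iff_eq_bot K |>.mp h3

theorem pPrimeCore_quotient_eq_bot (p : ℕ) :
    Cfsg.pPrimeCore p (G ⧸ Cfsg.pPrimeCore p G) = ⊥ := by
  set N := Cfsg.pPrimeCore p G
  set K := Cfsg.pPrimeCore p (G ⧸ N)
  have h1 := card_comap_mk' (N := N) K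
  have hle : K.comap (QuotientGroup.mk' N) ≤ N :=
    le_pPrimeCore (h1 ▸ (pPrimeCore_coprime p).mul_left (pPrimeCore_coprime p))
  have h2 := Subgroup.card_le_of_le hle
  have h3 : Nat.card K ≤ 1 :=
    Nat.le_of_mul_le_mul_left (by rw [mul_one, ← h1]; exact h2) Nat.card_pos
  exact Subgroup.card_le_one_iff_eq_bot K |>.mp h3

theorem commute_pCore {p q : ℕ} [Fact p.Prime] [Fact q.Prime] (hpq : p ≠ q) {x y : G}
    (hx : x ∈ Cfsg.pCore p G) (hy : y ∈ Cfsg.pCore q G) : Commute x y :=
  Subgroup.commute_of_normal_of_disjoint (Cfsg.pCore p G) (Cfsg.pCore q G) inferInstance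
    inferInstance (IsPGroup.disjoint_of_ne (G := G) p q hpq (H₁ := Cfsg.pCore p G)
      (H₂ := Cfsg.pCore q G) (pCore_isPGroup p) (pCore_isPGroup q)) x y hx hy

theorem iSup_primeFactors_pCore :
    (⨆ p : (Nat.card G).primeFactors, Cfsg.pCore (p : ℕ) G) =
      ⨆ p : Nat.Primes, Cfsg.pCore (p : ℕ) G := by
  refine le_antisymm (iSup_le fun p => ?_) (iSup_le fun p => ?_)
  · exact le_iSup (fun q : Nat.Primes => Cfsg.pCore (q : ℕ) G)
      ⟨p, Nat.prime_of_mem_primeFactors p.2⟩
  · by_cases hd : (p : ℕ) ∣ Nat.card G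
    · exact le_iSup (fun q : (Nat.card G).primeFactors => Cfsg.pCore (q : ℕ) G)
        ⟨p, Nat.mem_primeFactors.mpr ⟨p.2, hd, Nat.card_pos.ne'⟩⟩
    · have : Fact (p : ℕ).Prime := ⟨p.2⟩
      rcases (pCore_isPGroup (G := G) p).card_eq_or_dvd with h | h
      · rw [Subgroup.card_eq_one.mp h]; exact bot_le
      · exact absurd (h.trans (Subgroup.card_subgroup_dvd_card _)) hd

theorem isNilpotent_iSup_pCore :
    Group.IsNilpotent (⨆ p : Nat.Primes, Cfsg.pCore (p : ℕ) G : Subgroup G) := by
  classical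
  rw [← iSup_primeFactors_pCore]
  let H : (Nat.card G).primeFactors → Subgroup G := fun p => Cfsg.pCore (p : ℕ) G
  have hf : ∀ p : (Nat.card G).primeFactors, Fact (p : ℕ).Prime :=
    fun p => ⟨Nat.prime_of_mem_primeFactors p.2⟩
  have hcomm : Pairwise fun i j => ∀ x y : G, x ∈ H i → y ∈ H j → Commute x y :=
    fun i j hij x y hx hy => commute_pCore (fun h => hij (Subtype.ext h)) hx hy
  have hn : ∀ i, Group.IsNilpotent (H i) := fun i => (pCore_isPGroup (i : ℕ)).isNilpotent
  have h : (Subgroup.noncommPiCoprod hcomm).range =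
      ⨆ p : (Nat.card G).primeFactors, Cfsg.pCore (p : ℕ) G := Subgroup.noncommPiCoprod_range
  rw [← h]
  exact Group.nilpotent_of_surjective _ (Subgroup.noncommPiCoprod hcomm).rangeRestrict_surjective

theorem le_iSup_pCore {N : Subgroup G} [N.Normal] (hN : Group.IsNilpotent N) :
    N ≤ ⨆ p : Nat.Primes, Cfsg.pCore (p : ℕ) G := by
  set J := ⨆ p : Nat.Primes, Cfsg.pCore (p : ℕ) G
  have key : Nat.card N ∣ Nat.card (N ⊓ J : Subgroup G) := by
    rw [← Nat.factorization_le_iff_dvd Nat.card_pos.ne' Nat.card_pos.ne']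
    intro p
    by_cases hp : p.Prime
    · have : Fact p.Prime := ⟨hp⟩
      let P : Sylow p N := default
      have hPc : (P : Subgroup N).Characteristic := P.characteristic_of_normal inferInstance
      have hPn : ((P : Subgroup N).map N.subtype).Normal :=
        ConjAct.normal_of_characteristic_of_normal
      have hle : (P : Subgroup N).map N.subtype ≤ N ⊓ J :=
        le_inf (Subgroup.map_subtype_le _)
          ((le_pCore (P.isPGroup'.map _)).trans
            (le_iSup (fun q : Nat.Primes => Cfsg.pCore (q : ℕ) G) ⟨p, hp⟩))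
      have hd := Subgroup.card_dvd_of_le hle
      rw [Subgroup.card_map_of_injective N.subtype_injective, P.card_eq_multiplicity] at hd
      exact (Nat.Prime.pow_dvd_iff_le_factorization hp Nat.card_pos.ne').mp hd
    · simp [Nat.factorization_eq_zero_of_not_prime _ hp]
  have := Subgroup.eq_of_le_of_card_ge (inf_le_left : N ⊓ J ≤ N) (Nat.le_of_dvd Nat.card_pos key)
  exact this ▸ inf_le_right

theorem fittingSubgroup_eq_iSup_pCore :
    Cfsg.fittingSubgroup G = ⨆ p : Nat.Primes, Cfsg.pCore (p : ℕ) G := by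
  refine le_antisymm (sSup_le fun N hN => ?_) (iSup_le fun p => le_sSup ⟨inferInstance, ?_⟩)
  · have := hN.1
    exact le_iSup_pCore hN.2
  · have : Fact (p : ℕ).Prime := ⟨p.2⟩
    exact (pCore_isPGroup (p : ℕ)).isNilpotent

/-- Fitting's theorem. -/
instance fittingSubgroup_isNilpotent : Group.IsNilpotent (Cfsg.fittingSubgroup G) := by
  rw [fittingSubgroup_eq_iSup_pCore]; exact isNilpotent_iSup_pCore

theorem le_fittingSubgroup {N : Subgroup G} [hN : N.Normal] (h : Group.IsNilpotent N) :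
    N ≤ Cfsg.fittingSubgroup G :=
  le_sSup ⟨hN, h⟩

theorem pCore_le_fittingSubgroup (p : ℕ) [Fact p.Prime] :
    Cfsg.pCore p G ≤ Cfsg.fittingSubgroup G :=
  le_fittingSubgroup (pCore_isPGroup p).isNilpotent

/-- A normal subgroup with `[M, M] ≤ D ≤ Z(M)` is nilpotent. -/
theorem isNilpotent_of_commutator_le {M D : Subgroup G} (hMM : ⁅M, M⁆ ≤ D)
    (hD : M ≤ Subgroup.centralizer (D : Set G)) : Group.IsNilpotent M := by
  refine (Subgroup.isNilpotent_iff_lowerCentralSeries M).mpr ⟨2, ?_⟩
  simp only [Subgroup.lowerCentralSeries_succ, Subgroup.lowerCentralSeries_zero]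
  rw [eq_bot_iff, ← Subgroup.commutator_eq_bot_iff_le_centralizer.mpr hD,
    Subgroup.commutator_comm M D]
  exact Subgroup.commutator_mono hMM le_rfl

/-- `C(F(G)) ≤ F(G)` for solvable groups (more generally: the solvable normal part of `C(F)`). -/
theorem le_fittingSubgroup_of_solvable_le_centralizer {C : Subgroup G} [C.Normal]
    (hs : Group.IsSolvable C) (hC : C ≤ Subgroup.centralizer (Cfsg.fittingSubgroup G : Set G)) :
    C ≤ Cfsg.fittingSubgroup G := by
  by_contra hne
  set D := C ⊓ Cfsg.fittingSubgroup G with hD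
  set π := QuotientGroup.mk' D with hπ
  have hC' : (C.map π).Normal := Subgroup.Normal.map inferInstance π (QuotientGroup.mk'_surjective D)
  have hCne : C.map π ≠ ⊥ := by
    rw [Ne, Subgroup.map_eq_bot_iff, QuotientGroup.ker_mk']
    exact fun h => hne (h.trans inf_le_right)
  obtain ⟨p, E, -, hEn, hEC, hEne, hEab, -⟩ := exists_elementary_normal hCne (isSolvable_map π hs)
  set M := E.comap π with hM
  have hMC : M ≤ C := by
    have h := Subgroup.comap_mono (f := π) hEC
    rwa [Subgroup.comap_map_eq, QuotientGroup.ker_mk', sup_eq_left.mpr inf_le_left] at h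
  have hMM : ⁅M, M⁆ ≤ D := by
    rw [← QuotientGroup.ker_mk' D, ← Subgroup.map_eq_bot_iff, Subgroup.map_commutator, eq_bot_iff,
      ← Subgroup.commutator_self_eq_bot_iff.mpr hEab]
    exact Subgroup.commutator_mono (Subgroup.map_comap_le _ _) (Subgroup.map_comap_le _ _)
  have hMD : M ≤ Subgroup.centralizer (D : Set G) :=
    hMC.trans (hC.trans (Subgroup.centralizer_le inf_le_right))
  have hMF : M ≤ Cfsg.fittingSubgroup G :=
    le_fittingSubgroup (hN := hEn.comap π) (isNilpotent_of_commutator_le hMM hMD)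
  apply hEne
  have hMle : M ≤ D := le_inf hMC hMF
  have h1 := Subgroup.map_mono (f := π) hMle
  rw [hM, Subgroup.map_comap_eq_self_of_surjective (QuotientGroup.mk'_surjective D), hπ,
    QuotientGroup.map_mk'_self] at h1
  exact le_bot_iff.mp h1

theorem centralizer_fittingSubgroup_le [Group.IsSolvable G] :
    Subgroup.centralizer (Cfsg.fittingSubgroup G : Set G) ≤ Cfsg.fittingSubgroup G := by
  have : (Subgroup.centralizer (Cfsg.fittingSubgroup G : Set G)).Normal :=
    Subgroup.normal_centralizer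
  exact le_fittingSubgroup_of_solvable_le_centralizer inferInstance le_rfl

theorem fittingSubgroup_eq_pCore {p : ℕ} [Fact p.Prime] (h : Cfsg.pPrimeCore p G = ⊥) :
    Cfsg.fittingSubgroup G = Cfsg.pCore p G := by
  refine le_antisymm ?_ (pCore_le_fittingSubgroup p)
  rw [fittingSubgroup_eq_iSup_pCore]
  refine iSup_le fun q => ?_
  rcases eq_or_ne (q : ℕ) p with hq | hq
  · rw [hq]
  · have : Fact (q : ℕ).Prime := ⟨q.2⟩
    refine le_trans (le_of_le_of_eq (le_pPrimeCore ?_) h) bot_le
    obtain ⟨k, hk⟩ := IsPGroup.iff_card.mp (pCore_isPGroup (G := G) (q : ℕ))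
    rw [hk]
    exact Nat.Coprime.pow_left _ ((Nat.coprime_primes q.2 Fact.out).mpr hq)

theorem centralizer_pCore_le [Group.IsSolvable G] {p : ℕ} [Fact p.Prime]
    (h : Cfsg.pPrimeCore p G = ⊥) :
    Subgroup.centralizer (Cfsg.pCore p G : Set G) ≤ Cfsg.pCore p G := by
  rw [← fittingSubgroup_eq_pCore h]; exact centralizer_fittingSubgroup_le

theorem fittingSubgroup_ne_bot [Group.IsSolvable G] [Nontrivial G] :
    Cfsg.fittingSubgroup G ≠ ⊥ := by
  obtain ⟨p, E, hp, hEn, hEne, hEp⟩ := exists_normal_pGroup (G := G)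
  have : Fact p.Prime := ⟨hp⟩
  exact fun h => hEne (le_bot_iff.mp (h ▸ le_fittingSubgroup hEp.isNilpotent))

theorem frattini_le_fittingSubgroup : frattini G ≤ Cfsg.fittingSubgroup G :=
  le_fittingSubgroup frattini_nilpotent

end Cfsg.Agent.Basics
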