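import Cfsg.Agent.Lib.Basics.SchurZassenhaus
import Cfsg.Agent.Lib.Basics.Cores

/-!
Frattini subgroup and nilpotent group facts.
-/

set_option autoImplicit false
set_option linter.style.haveILetI false
set_option linter.unusedSectionVars false

open scoped Pointwise commutatorElement

namespace Cfsg.Agent.Basics

variable {G : Type*} [Group G]

theorem le_of_not_le_sup_eq_top {M N : Subgroup G} (hM : IsCoatom M) (h : ¬ N ≤ M) :
    M ⊔ N = ⊤ :=
  hM.2 _ (lt_of_le_of_ne le_sup_left fun he => h (he ▸ le_sup_right))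

/-- A normal subgroup of `G` inside the Frattini subgroup of some subgroup lies in `Φ(G)`. -/
theorem le_frattini_of_le_frattini_subgroup [Finite G] {D K : Subgroup G} [D.Normal] (hDK : D ≤ K)
    (h : D.subgroupOf K ≤ frattini K) : D ≤ frattini G := by
  refine le_iInf₂ fun M hM => ?_
  by_contra hne
  have hsup := le_of_not_le_sup_eq_top hM hne
  have h1 : M.subgroupOf K ⊔ frattini K = ⊤ := by
    rw [eq_top_iff]
    rintro ⟨k, hk⟩ -
    have hkt : k ∈ M ⊔ D := by rw [hsup]; trivial
    rw [sup_comm, mem_sup_of_le_normalizer' (N := D) (H := M) Subgroup.le_normalizer_of_normal] at hkt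
    obtain ⟨m, hm, d, hd, rfl⟩ := hkt
    have hmK : m ∈ K := by simpa using mul_mem hk (inv_mem (hDK hd))
    have := mul_mem (Subgroup.mem_sup_left (T := frattini K)
      (show (⟨m, hmK⟩ : K) ∈ M.subgroupOf K from hm))
      (Subgroup.mem_sup_right (h (show (⟨d, hDK hd⟩ : K) ∈ D.subgroupOf K from hd)))
    exact this
  have h2 := frattini_nongenerating h1
  exact hne (fun d hd => (Subgroup.subgroupOf_eq_top.mp h2) (hDK hd))

theorem map_frattini_le [Finite G] (H : Subgroup G) [H.Normal] :
    (frattini H).map H.subtype ≤ frattini G := by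
  have : ((frattini H).map H.subtype).Normal := ConjAct.normal_of_characteristic_of_normal
  refine le_frattini_of_le_frattini_subgroup (Subgroup.map_subtype_le _) ?_
  rw [Subgroup.subgroupOf, Subgroup.comap_map_eq_self_of_injective H.subtype_injective]

/-- A maximal subgroup of a finite nilpotent group is normal of prime index. -/
theorem coatom_normal_prime [Finite G] [Group.IsNilpotent G] {M : Subgroup G} (hM : IsCoatom M) :
    M.Normal ∧ M.index.Prime := by
  have hn : M.Normal :=
    ((Group.isNilpotent_of_finite_tfae (G := G)).out 0 2 :).mp inferInstance M hM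
  refine ⟨hn, ?_⟩
  have : IsSimpleGroup (G ⧸ M) := by
    have : Nontrivial (G ⧸ M) := QuotientGroup.nontrivial_iff.mpr hM.1
    refine ⟨fun N _ => ?_⟩
    have hle : M ≤ N.comap (QuotientGroup.mk' M) := by
      intro x hx
      simp [Subgroup.mem_comap, (QuotientGroup.eq_one_iff x).mpr hx, one_mem]
    rcases eq_or_lt_of_le hle with h | h
    · left
      rw [← Subgroup.map_comap_eq_self_of_surjective (QuotientGroup.mk'_surjective M) N, ← h,
        QuotientGroup.map_mk'_self]
    · right
      rw [← Subgroup.map_comap_eq_self_of_surjective (QuotientGroup.mk'_surjective M) N, hM.2 _ h,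
        Subgroup.map_top_of_surjective _ (QuotientGroup.mk'_surjective M)]
  rw [Subgroup.index_eq_card]
  exact IsSimpleGroup.prime_card

theorem commutator_le_frattini [Finite G] [Group.IsNilpotent G] : commutator G ≤ frattini G := by
  refine le_iInf₂ fun M hM => ?_
  obtain ⟨hn, hp⟩ := coatom_normal_prime hM
  haveI := hn
  rw [← Subgroup.Normal.quotient_commutative_iff_commutator_le]
  rw [Subgroup.index_eq_card] at hp
  have := Fact.mk hp
  have hc : IsCyclic (G ⧸ M) := isCyclic_of_prime_card rfl
  exact IsCyclic.isMulCommutative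

theorem pow_mem_frattini [Finite G] {p : ℕ} [hp : Fact p.Prime] (hG : IsPGroup p G) (x : G) :
    x ^ p ∈ frattini G := by
  have := hG.isNilpotent
  rw [frattini, Order.radical, Subgroup.mem_iInf]
  intro M
  rw [Subgroup.mem_iInf]
  intro hM
  obtain ⟨hn, hpi⟩ := coatom_normal_prime hM
  obtain ⟨k, hk⟩ := hG.index M
  have hidx : M.index = p := by
    have h1 : (p ^ k).Prime := hk ▸ hpi
    rw [hk, Nat.Prime.eq_one_of_pow h1, pow_one]
  haveI := hn
  exact hidx ▸ M.pow_index_mem x

/-- Adjoining one element whose `p`-th power lies in a normalised subgroup. -/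
theorem card_sup_zpowers [Finite G] {p : ℕ} [hp : Fact p.Prime] {W : Subgroup G} {t : G}
    (ht : t ∈ Subgroup.normalizer (W : Set G)) (htp : t ^ p ∈ W) :
    Nat.card (W ⊔ Subgroup.zpowers t : Subgroup G) ≤ p * Nat.card W ∧
      (t ∉ W → Nat.card (W ⊔ Subgroup.zpowers t : Subgroup G) = p * Nat.card W) := by
  have hle : Subgroup.zpowers t ≤ Subgroup.normalizer (W : Set G) := Subgroup.zpowers_le.mpr ht
  set D := W.subgroupOf (W ⊔ Subgroup.zpowers t) with hD
  haveI := normal_subgroupOf_sup hle
  have hcard := D.card_mul_index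
  rw [card_subgroupOf le_sup_left] at hcard
  let u : ↥(W ⊔ Subgroup.zpowers t) := ⟨t, Subgroup.mem_sup_right (Subgroup.mem_zpowers t)⟩
  have hgen : ∀ q : ↥(W ⊔ Subgroup.zpowers t) ⧸ D, q ∈ Subgroup.zpowers (QuotientGroup.mk u) := by
    intro q
    obtain ⟨⟨x, hx⟩, rfl⟩ := QuotientGroup.mk_surjective q
    obtain ⟨w, hw, s, hs, rfl⟩ := (mem_sup_of_le_normalizer hle).mp hx
    obtain ⟨i, rfl⟩ := Subgroup.mem_zpowers_iff.mp hs
    refine Subgroup.mem_zpowers_iff.mpr ⟨i, ?_⟩
    rw [← QuotientGroup.mk_zpow]
    apply QuotientGroup.eq.mpr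
    have h1 := (conj_mem_iff_of_mem_normalizer (inv_mem (hle hs))).mpr hw
    rw [inv_inv, mul_assoc] at h1
    show ((u ^ i)⁻¹ * ⟨w * t ^ i, hx⟩ : ↥(W ⊔ Subgroup.zpowers t)).1 ∈ W
    simpa [u] using h1
  have hp1 : (QuotientGroup.mk u : ↥(W ⊔ Subgroup.zpowers t) ⧸ D) ^ p = 1 := by
    rw [← QuotientGroup.mk_pow, QuotientGroup.eq_one_iff]
    exact htp
  have hidx : D.index = orderOf (QuotientGroup.mk u : ↥(W ⊔ Subgroup.zpowers t) ⧸ D) := by
    rw [Subgroup.index_eq_card, ← Nat.card_zpowers]
    exact (Nat.card_congr ((Equiv.subtypeUnivEquiv hgen))).symm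
  rw [hidx] at hcard
  refine ⟨?_, fun htW => ?_⟩
  · rw [← hcard, mul_comm]
    exact Nat.mul_le_mul_right _ (Nat.le_of_dvd hp.out.pos (orderOf_dvd_of_pow_eq_one hp1))
  · rw [← hcard, mul_comm, orderOf_eq_prime hp1 fun h => htW ((QuotientGroup.eq_one_iff u).mp h)]

/-- Gaschütz: `A/B` nilpotent and `B ≤ Φ(G)` imply `A` nilpotent. -/
theorem isNilpotent_of_map_quotient [Finite G] (A B : Subgroup G) [A.Normal] [B.Normal]
    (hB : B ≤ frattini G) (h : Group.IsNilpotent (A.map (QuotientGroup.mk' B))) :
    Group.IsNilpotent A := by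
  refine ((Group.isNilpotent_of_finite_tfae (G := A)).out 0 3 :).mpr ?_
  intro p hp P
  set π := QuotientGroup.mk' B
  let f := π.subgroupMap A
  have hf : Function.Surjective f := π.subgroupMap_surjective A
  set Q := P.mapSurjective hf with hQ
  have hQc : (Q : Subgroup (A.map π)).Characteristic := Q.characteristic_of_normal inferInstance
  have hAn : (A.map π).Normal := Subgroup.Normal.map inferInstance π (QuotientGroup.mk'_surjective B)
  have hQn : ((Q : Subgroup (A.map π)).map (A.map π).subtype).Normal :=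
    ConjAct.normal_of_characteristic_of_normal
  set P' := (P : Subgroup A).map A.subtype with hP'
  have hPn : (P'.map π).Normal := by
    have : (Q : Subgroup (A.map π)).map (A.map π).subtype = P'.map π := by
      rw [hQ, Sylow.coe_mapSurjective, hP', Subgroup.map_map, Subgroup.map_map]
      rfl
    rwa [this] at hQn
  set W := (P'.map π).comap π with hW
  have hWn : W.Normal := hPn.comap π
  have hWeq : W = P' ⊔ B := by rw [hW, Subgroup.comap_map_eq, QuotientGroup.ker_mk']
  set N := W ⊓ A with hN
  have hP'N : P' ≤ N := le_inf (hWeq ▸ le_sup_left) (Subgroup.map_subtype_le _)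
  have hcard : Nat.card (P'.subgroupOf N) = p ^ (Nat.card N).factorization p := by
    have h1 : Nat.card P' = p ^ (Nat.card A).factorization p := by
      rw [hP', Subgroup.card_map_of_injective A.subtype_injective, P.card_eq_multiplicity]
    rw [card_subgroupOf hP'N, h1]
    congr 1
    refine le_antisymm ?_ ?_
    · rw [← Nat.Prime.pow_dvd_iff_le_factorization hp.out Nat.card_pos.ne', ← h1]
      exact Subgroup.card_dvd_of_le hP'N
    · exact (Nat.factorization_le_iff_dvd Nat.card_pos.ne' Nat.card_pos.ne').mpr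
        (Subgroup.card_dvd_of_le (inf_le_right : N ≤ A)) p
  have hfr := Sylow.normalizer_sup_eq_top (Sylow.ofCard (P'.subgroupOf N) hcard)
  rw [Sylow.coe_ofCard, Subgroup.map_subgroupOf_eq_of_le hP'N] at hfr
  have hsup : Subgroup.normalizer (P' : Set G) ⊔ frattini G = ⊤ := by
    rw [eq_top_iff, ← hfr]
    refine sup_le le_sup_left ((inf_le_left.trans hWeq.le).trans ?_)
    exact sup_le (Subgroup.le_normalizer.trans le_sup_left) (hB.trans le_sup_right)
  have hnorm := frattini_nongenerating hsup
  rw [Subgroup.normalizer_eq_top_iff] at hnorm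
  exact hnorm.of_map_subtype

end Cfsg.Agent.Basics
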