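import Cfsg.Agent.Lib.Basics.CoprimeAction
import Mathlib.GroupTheory.SpecificGroups.ZGroup
import Mathlib.GroupTheory.Abelianization.Defs

/-!
Thompson's `P × Q` lemma and generation by centralisers under coprime action of an abelian group.
-/

set_option autoImplicit false
set_option linter.style.haveILetI false
set_option linter.unusedSectionVars false

open scoped Pointwise commutatorElement

namespace Cfsg.Agent.Basics

variable {G : Type*} [Group G]

/-- `[U, P] ≠ U` inside a nilpotent subgroup, for `U ≠ 1`. -/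
theorem commutator_ne_self_of_isNilpotent {U P M : Subgroup G} (hM : Group.IsNilpotent M)
    (hU : U ≤ M) (hP : P ≤ M) (hne : U ≠ ⊥) : ⁅U, P⁆ ≠ U := by
  obtain ⟨n, hn⟩ := (Subgroup.isNilpotent_iff_lowerCentralSeries M).mp hM
  intro h
  have : ∀ k, U ≤ M.lowerCentralSeries k := by
    intro k
    induction k with
    | zero => exact hU
    | succ k ih =>
      rw [← h, Subgroup.lowerCentralSeries_succ]
      exact Subgroup.commutator_mono ih hP
  exact hne (le_bot_iff.mp ((this n).trans hn.le))

/-- In a nilpotent group, a nontrivial normal subgroup has `[N, G] < N`. -/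
theorem commutator_top_lt_of_isNilpotent [Group.IsNilpotent G] {N : Subgroup G} [N.Normal]
    (hne : N ≠ ⊥) : ⁅N, (⊤ : Subgroup G)⁆ < N :=
  lt_of_le_of_ne (Subgroup.commutator_le_left _ _)
    (commutator_ne_self_of_isNilpotent (Group.isNilpotent_top.mpr ‹_›) le_top le_rfl hne)

variable [Finite G]

/-- Thompson's `P × Q` lemma. -/
theorem pq_lemma (p : ℕ) [Fact p.Prime] (P Q U : Subgroup G) (hP : IsPGroup p P)
    (hQ : (Nat.card Q).Coprime p) (hU : IsPGroup p U)
    (hPQ : P ≤ Subgroup.centralizer (Q : Set G))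
    (hPU : P ≤ Subgroup.normalizer (U : Set G)) (hQU : Q ≤ Subgroup.normalizer (U : Set G))
    (hC : U ⊓ Subgroup.centralizer (P : Set G) ≤ Subgroup.centralizer (Q : Set G)) :
    Q ≤ Subgroup.centralizer (U : Set G) := by
  induction U using WellFoundedLT.induction with
  | _ U ih =>
  rcases eq_or_ne U ⊥ with rfl | hne
  · intro q _
    simp [Subgroup.mem_centralizer_iff]
  set V := ⁅U, P⁆ with hV
  have hVU : V ≤ U := Subgroup.le_normalizer_iff_commutator_le_left.mp hPU
  have hPUp : IsPGroup p (P ⊔ U : Subgroup G) := hP.to_sup_of_normal_right' hU hPU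
  have hlt : V < U := lt_of_le_of_ne hVU
    (commutator_ne_self_of_isNilpotent hPUp.isNilpotent le_sup_right le_sup_left hne)
  have hQP : ∀ q ∈ Q, MulAut.conj q • P = P := fun q hq => by
    have hqP : ∀ x ∈ P, q * x = x * q := fun x hx => Subgroup.mem_centralizer_iff.mp (hPQ hx) q hq
    ext x
    rw [mem_conj_smul]
    constructor
    · intro h
      have h1 := hqP _ h
      rw [mul_assoc q⁻¹ x q, mul_inv_cancel_left] at h1
      rwa [mul_assoc, ← mul_right_cancel h1] at h
    · intro h
      rwa [mul_assoc, ← hqP x h, inv_mul_cancel_left]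
  have hQV : Q ≤ Subgroup.centralizer (V : Set G) := by
    refine ih V hlt (hU.to_le hVU) (Subgroup.normalizer_commutator_ge_right _ _) ?_
      (le_trans (inf_le_inf_right _ hVU) hC)
    intro q hq
    rw [← conj_smul_eq_self_iff]
    refine (Subgroup.map_commutator U P (MulAut.conj q).toMonoidHom).trans ?_
    show ⁅MulAut.conj q • U, MulAut.conj q • P⁆ = V
    rw [conj_smul_eq_self_iff.mpr (hQU hq), hQP q hq]
  have h1 : ⁅⁅U, P⁆, Q⁆ = ⊥ := by
    rw [Subgroup.commutator_comm]
    exact Subgroup.commutator_eq_bot_iff_le_centralizer.mpr hQV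
  have h2 : ⁅⁅P, Q⁆, U⁆ = ⊥ := by
    rw [Subgroup.commutator_eq_bot_iff_le_centralizer.mpr hPQ, Subgroup.commutator_bot_left]
  have h3 := Subgroup.commutator_eq_bot_iff_le_centralizer.mp
    (Subgroup.commutator_commutator_eq_bot_of_rotate h1 h2)
  have h4 : ⁅U, Q⁆ ≤ Subgroup.centralizer (Q : Set G) := by
    refine le_trans (le_inf (Subgroup.le_normalizer_iff_commutator_le_left.mp hQU) ?_) hC
    rwa [Subgroup.commutator_comm]
  have hcop : (Nat.card Q).Coprime (Nat.card U) := by
    obtain ⟨k, hk⟩ := IsPGroup.iff_card.mp hU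
    rw [hk]; exact hQ.pow_right k
  haveI := hU.isNilpotent
  exact le_centralizer_of_commutator_commutator_eq_bot Q U hQU hcop (Or.inr inferInstance)
    (Subgroup.commutator_eq_bot_iff_le_centralizer.mpr h4)

/-- The averaging identity behind generation by centralisers. -/
theorem pow_mem_of_commuting_auts {V : Type*} [CommGroup V] (p : ℕ) [Fact p.Prime]
    (a b : MulAut V) (hab : Commute a b) (ha : a ^ p = 1) (hb : b ^ p = 1) (W : Subgroup V)
    (hW : ∀ g : MulAut V, ((∃ j : ℕ, g = a * b ^ j) ∨ g = b) → ∀ v, g v = v → v ∈ W)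
    (v : V) : v ^ p ∈ W := by
  classical
  have hadd : ∀ g : MulAut V, g ^ p = 1 → ∀ s t : ZMod p,
      g ^ s.val * g ^ t.val = g ^ (s + t).val := by
    intro g hg s t
    rw [← pow_add, ZMod.val_add]
    exact pow_eq_pow_mod _ hg
  let S : MulAut V → V → V := fun g w => ∏ t : ZMod p, (g ^ t.val) w
  have hS : ∀ g : MulAut V, g ^ p = 1 → ∀ w, g (S g w) = S g w := by
    intro g hg w
    simp only [S, map_prod]
    conv_rhs => rw [← Equiv.prod_comp (Equiv.addLeft (1 : ZMod p))]
    refine Finset.prod_congr rfl fun t _ => ?_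
    simp only [Equiv.coe_addLeft]
    rw [← hadd g hg, MulAut.mul_apply, ZMod.val_one, pow_one]
  have hmem : ∀ g : MulAut V, ((∃ j : ℕ, g = a * b ^ j) ∨ g = b) → g ^ p = 1 →
      ∀ w, S g w ∈ W := fun g hg hgp w => hW g hg _ (hS g hgp w)
  have hgp : ∀ j : ℕ, (a * b ^ j) ^ p = 1 := fun j => by
    rw [(hab.pow_right j).mul_pow, ha, ← pow_mul, mul_comm, pow_mul, hb, one_pow, one_mul]
  have hmain : (∏ j : ZMod p, S (a * b ^ j.val) v) * S b v = v ^ p * S a (S b v) := by
    simp only [S, map_prod]
    rw [Finset.prod_comm, ← Finset.mul_prod_erase _ _ (Finset.mem_univ (0 : ZMod p)),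
      ← Finset.mul_prod_erase _ (fun t : ZMod p => ∏ s : ZMod p, (a ^ t.val) ((b ^ s.val) v))
        (Finset.mem_univ (0 : ZMod p))]
    have h0 : (∏ j : ZMod p, ((a * b ^ j.val) ^ (0 : ZMod p).val) v) = v ^ p := by
      simp [ZMod.val_zero, Finset.card_univ, ZMod.card]
    have h1 : ∀ t ∈ Finset.univ.erase (0 : ZMod p),
        (∏ j : ZMod p, ((a * b ^ j.val) ^ t.val) v) =
          ∏ s : ZMod p, (a ^ t.val) ((b ^ s.val) v) := by
      intro t ht
      refine Fintype.prod_equiv (Equiv.mulRight₀ t (Finset.ne_of_mem_erase ht)) _ _ fun j => ?_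
      rw [(hab.pow_right _).mul_pow, MulAut.mul_apply, ← pow_mul]
      congr 2
      rw [Equiv.mulRight₀_apply, ZMod.val_mul]
      exact congrArg (fun f : MulAut V => f) (pow_eq_pow_mod _ hb)
    rw [h0, Finset.prod_congr rfl h1]
    simp only [ZMod.val_zero, pow_zero, MulAut.one_apply]
    ac_rfl
  have hWa : S a (S b v) ∈ W :=
    hmem a (Or.inl ⟨0, by rw [pow_zero, mul_one]⟩) ha _
  have hWl : (∏ j : ZMod p, S (a * b ^ j.val) v) * S b v ∈ W :=
    mul_mem (W.prod_mem fun j _ => hmem _ (Or.inl ⟨_, rfl⟩) (hgp _) v) (hmem b (Or.inr rfl) hb v)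
  rw [hmain] at hWl
  exact (mul_mem_cancel_right hWa).mp hWl

theorem abelianization_of_surjective {H : Type*} [Group H] :
    Function.Surjective (Abelianization.of : H → Abelianization H) :=
  QuotientGroup.mk'_surjective (commutator H)

/-- The subgroup generated by the centralisers in `K` of the elements `a * b ^ j` and `b`. -/
noncomputable def genCent (a b : G) (K : Subgroup G) : Subgroup G :=
  (⨆ j : ℕ, K ⊓ Subgroup.centralizer {a * b ^ j}) ⊔ (K ⊓ Subgroup.centralizer {b})

theorem genCent_mono {a b : G} {K L : Subgroup G} (h : K ≤ L) :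
    genCent a b K ≤ genCent a b L :=
  sup_le_sup (iSup_mono fun _ => inf_le_inf_right _ h) (inf_le_inf_right _ h)

private theorem le_genCent_solvable (A : Subgroup G) [IsMulCommutative A] (p : ℕ) [Fact p.Prime]
    (a b : G) (ha : a ∈ A) (hb : b ∈ A) (K : Subgroup G) (hs : Group.IsSolvable K)
    (hAK : A ≤ Subgroup.normalizer (K : Set G)) (hcop : (Nat.card A).Coprime (Nat.card K))
    (hp : p.Coprime (Nat.card K))
    (hap : a ^ p ∈ Subgroup.centralizer (K : Set G))
    (hbp : b ^ p ∈ Subgroup.centralizer (K : Set G)) : K ≤ genCent a b K := by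
  induction K using WellFoundedLT.induction with
  | _ K ih =>
  rcases eq_or_ne K ⊥ with rfl | hne
  · exact bot_le
  set D := ⁅K, K⁆ with hD
  have hDK : D ≤ K := K.commutator_le_self
  have hDlt : D < K := by
    refine lt_of_le_of_ne hDK fun h => ?_
    have : Nontrivial K := K.nontrivial_iff_ne_bot.mpr hne
    apply (Group.IsSolvable.commutator_lt_top_of_nontrivial K).ne
    apply Subgroup.map_injective K.subtype_injective
    rw [Subgroup.map_subtype_commutator, ← MonoidHom.range_eq_map, Subgroup.range_subtype]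
    exact h
  have hAD : A ≤ Subgroup.normalizer (D : Set G) := by
    intro x hx
    rw [← conj_smul_eq_self_iff]
    refine (Subgroup.map_commutator K K (MulAut.conj x).toMonoidHom).trans ?_
    show ⁅MulAut.conj x • K, MulAut.conj x • K⁆ = D
    rw [conj_smul_eq_self_iff.mpr (hAK hx)]
  have hIH : D ≤ genCent a b K :=
    (ih D hDlt (isSolvable_of_le hDK hs) hAD
      (hcop.coprime_dvd_right (Subgroup.card_dvd_of_le hDK))
      (hp.coprime_dvd_right (Subgroup.card_dvd_of_le hDK))
      (Subgroup.centralizer_le (SetLike.coe_subset_coe.mpr hDK) hap)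
      (Subgroup.centralizer_le (SetLike.coe_subset_coe.mpr hDK) hbp)).trans (genCent_mono hDK)
  set W := genCent a b K
  let φ : Subgroup.normalizer (K : Set G) →* MulAut (Abelianization K) :=
    MonoidHom.mk' (fun x => MulEquiv.abelianizationCongr (K.normalizerMonoidHom x)) (fun x y => by
      ext z
      obtain ⟨z, rfl⟩ := abelianization_of_surjective z
      simp [map_mul])
  have hφ : ∀ (x : Subgroup.normalizer (K : Set G)) (k : K), φ x (Abelianization.of k) =
      Abelianization.of ⟨(x : G) * k * (x : G)⁻¹,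
        (conj_mem_iff_of_mem_normalizer x.2).mpr k.2⟩ := fun x k => rfl
  have hof : ∀ k l : K, Abelianization.of k = Abelianization.of l → (k : G) * (l : G)⁻¹ ∈ D := by
    intro k l h
    have h1 : k * l⁻¹ ∈ commutator K := by
      rw [← Abelianization.ker_of, MonoidHom.mem_ker, map_mul, map_inv, h, mul_inv_cancel]
    have h2 := Subgroup.mem_map_of_mem K.subtype h1
    rw [Subgroup.map_subtype_commutator] at h2
    exact h2
  have htriv : ∀ x : Subgroup.normalizer (K : Set G),
      (x : G) ∈ Subgroup.centralizer (K : Set G) → φ x = 1 := by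
    intro x hx
    ext z
    obtain ⟨k, rfl⟩ := abelianization_of_surjective z
    change φ x (Abelianization.of k) = Abelianization.of k
    rw [hφ]
    congr 1
    apply Subtype.ext
    show (x : G) * k * (x : G)⁻¹ = k
    rw [← Subgroup.mem_centralizer_iff.mp hx k k.2, mul_inv_cancel_right]
  let a' : Subgroup.normalizer (K : Set G) := ⟨a, hAK ha⟩
  let b' : Subgroup.normalizer (K : Set G) := ⟨b, hAK hb⟩
  have hcomm : Commute a' b' :=
    Subtype.ext (congrArg Subtype.val (IsMulCommutative.is_comm.comm (⟨a, ha⟩ : A) ⟨b, hb⟩) :)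
  set Wb := (W.subgroupOf K).map Abelianization.of with hWb
  have hW : ∀ (g : Subgroup.normalizer (K : Set G)), (g : G) ∈ A →
      K ⊓ Subgroup.centralizer {(g : G)} ≤ W → ∀ z, φ g z = z → z ∈ Wb := by
    intro g hgA hgW z hz
    obtain ⟨k, rfl⟩ := abelianization_of_surjective z
    change φ g (Abelianization.of k) = Abelianization.of k at hz
    obtain ⟨c, hc, hcD⟩ := exists_centralizer_mem_coset (Subgroup.zpowers (g : G)) D
      (Subgroup.zpowers_le.mpr (hAD hgA))
      (Nat.Coprime.of_dvd (Subgroup.card_dvd_of_le (Subgroup.zpowers_le.mpr hgA))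
        (Subgroup.card_dvd_of_le hDK) hcop)
      (Or.inl (Group.isSolvable_of_comm IsMulCommutative.is_comm.comm)) (k : G)
      ((Subgroup.normalizer_commutator_ge_left K K) k.2) (fun x hx => by
        obtain ⟨n, rfl⟩ := Subgroup.mem_zpowers_iff.mp hx
        have hn : φ (g ^ n) (Abelianization.of k) = Abelianization.of k := by
          rw [map_zpow]
          induction n with
          | zero => simp
          | succ i hi =>
            rw [zpow_add_one, MulAut.mul_apply, hz]
            exact hi (Subgroup.mem_zpowers_iff.mpr ⟨_, rfl⟩)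
          | pred i hi =>
            rw [zpow_sub_one, MulAut.mul_apply]
            conv_lhs => rw [← hz]; rw [MulAut.inv_apply_self]
            exact hi (Subgroup.mem_zpowers_iff.mpr ⟨_, rfl⟩)
        rw [hφ] at hn
        have := hof _ _ hn
        simpa only [SubgroupClass.coe_zpow] using this)
    have hcK : c ∈ K := by simpa using mul_mem k.2 (hDK hcD)
    have hkW : (k : G) ∈ W := by
      have h1 : c ∈ W := hgW ⟨hcK, by
        show c ∈ Subgroup.centralizer {(g : G)}
        rw [Subgroup.mem_centralizer_singleton_iff]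
        exact (Subgroup.mem_centralizer_iff.mp hc _ (Subgroup.mem_zpowers _)).symm⟩
      have h2 := mul_mem h1 (inv_mem (hIH hcD))
      simpa using h2
    exact Subgroup.mem_map_of_mem _ hkW
  intro k hk
  have hkp : Abelianization.of (⟨k, hk⟩ : K) ^ p ∈ Wb := by
    refine pow_mem_of_commuting_auts p (φ a') (φ b') (hcomm.map φ) ?_ ?_ Wb ?_ _
    · rw [← map_pow]; exact htriv _ (by simpa [a'] using hap)
    · rw [← map_pow]; exact htriv _ (by simpa [b'] using hbp)
    · intro g hg
      rcases hg with ⟨j, rfl⟩ | rfl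
      · rw [← map_pow, ← map_mul]
        refine hW _ (by simpa [a', b'] using mul_mem ha (pow_mem hb j)) ?_
        have h1 : K ⊓ Subgroup.centralizer {a * b ^ j} ≤ W :=
          (le_iSup (fun j => K ⊓ Subgroup.centralizer {a * b ^ j}) j).trans le_sup_left
        exact h1
      · exact hW _ hb le_sup_right
  rw [← map_pow, hWb, Subgroup.mem_map] at hkp
  obtain ⟨w, hw, hwk⟩ := hkp
  have h1 : k ^ p ∈ W := by
    have h2 := mul_mem (inv_mem (hIH (hof _ _ hwk))) (show (w : G) ∈ W from hw)
    simpa using h2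
  have hc : (orderOf k).Coprime p :=
    (hp.coprime_dvd_right (Subgroup.orderOf_dvd_natCard _ hk)).symm
  obtain ⟨m, hm⟩ := exists_pow_eq_self_of_coprime hc.symm
  rw [← hm]
  exact pow_mem h1 m

/-- Generation by centralisers, two element form: `a`, `b` lie in an abelian group `A` acting
coprimely on `K` and `a ^ p`, `b ^ p` act trivially. -/
theorem le_genCent (A : Subgroup G) [IsMulCommutative A] (p : ℕ) [Fact p.Prime]
    (a b : G) (ha : a ∈ A) (hb : b ∈ A) (K : Subgroup G)
    (hAK : A ≤ Subgroup.normalizer (K : Set G)) (hcop : (Nat.card A).Coprime (Nat.card K))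
    (hp : p.Coprime (Nat.card K))
    (hap : a ^ p ∈ Subgroup.centralizer (K : Set G))
    (hbp : b ^ p ∈ Subgroup.centralizer (K : Set G)) : K ≤ genCent a b K := by
  have key : Nat.card K ∣ Nat.card (genCent a b K ⊓ K : Subgroup G) := by
    rw [← Nat.factorization_le_iff_dvd Nat.card_pos.ne' Nat.card_pos.ne']
    intro q
    by_cases hq : q.Prime
    · haveI : Fact q.Prime := ⟨hq⟩
      obtain ⟨S, hS, hSA⟩ := exists_invariant_isSylowIn A K hAK hcop
        (Or.inl (Group.isSolvable_of_comm IsMulCommutative.is_comm.comm)) q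
      haveI := hS.isPGroup.isNilpotent
      have h1 := le_genCent_solvable A p a b ha hb S inferInstance hSA
        (hcop.coprime_dvd_right (Subgroup.card_dvd_of_le hS.1))
        (hp.coprime_dvd_right (Subgroup.card_dvd_of_le hS.1))
        (Subgroup.centralizer_le (SetLike.coe_subset_coe.mpr hS.1) hap)
        (Subgroup.centralizer_le (SetLike.coe_subset_coe.mpr hS.1) hbp)
      have hd := Subgroup.card_dvd_of_le (le_inf (h1.trans (genCent_mono hS.1)) hS.1)
      rw [hS.2] at hd
      exact (Nat.Prime.pow_dvd_iff_le_factorization hq Nat.card_pos.ne').mp hd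
    · simp [Nat.factorization_eq_zero_of_not_prime _ hq]
  exact (Subgroup.eq_of_le_of_card_ge inf_le_right (Nat.le_of_dvd Nat.card_pos key)).symm.le.trans
    inf_le_left

/-- A noncyclic abelian `p`-group has two independent elements of order `p`. -/
theorem exists_two_of_not_isCyclic_pGroup {P : Type*} [CommGroup P] [Finite P] {p : ℕ}
    [hp : Fact p.Prime] (hP : IsPGroup p P) (hc : ¬ IsCyclic P) :
    ∃ a b : P, a ^ p = 1 ∧ b ^ p = 1 ∧ b ≠ 1 ∧ a ∉ Subgroup.zpowers b := by
  obtain ⟨x, hx⟩ := Finite.exists_max (fun g : P => orderOf g)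
  have hne : ∃ y, y ∉ Subgroup.zpowers x := by
    by_contra h
    push Not at h
    exact hc ⟨x, h⟩
  obtain ⟨y, hy⟩ := hne
  obtain ⟨n, hn⟩ := hP y
  have hex : ∃ m, y ^ p ^ m ∈ Subgroup.zpowers x := ⟨n, by rw [hn]; exact one_mem _⟩
  have hm0 : Nat.find hex ≠ 0 := fun h => hy (by simpa [h] using Nat.find_spec hex)
  obtain ⟨m, hm⟩ := Nat.exists_eq_succ_of_ne_zero hm0
  set z := y ^ p ^ m with hz
  have hz1 : z ∉ Subgroup.zpowers x := Nat.find_min hex (by omega)
  have hz2 : z ^ p ∈ Subgroup.zpowers x := by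
    rw [hz, ← pow_mul, ← pow_succ]
    have h := Nat.find_spec hex
    rwa [hm] at h
  rw [← (isOfFinOrder_of_finite x).mem_powers_iff_mem_zpowers] at hz2
  obtain ⟨i, hi⟩ := hz2
  obtain ⟨ex, hex'⟩ := IsPGroup.iff_orderOf.mp hP x
  have hex0 : ex ≠ 0 := by
    intro h
    have h1 := hx y
    rw [hex', h, pow_zero] at h1
    have hy1 : y = 1 := orderOf_eq_one_iff.mp
      (le_antisymm h1 (orderOf_pos y))
    exact hy (hy1 ▸ one_mem _)
  have hpi : p ∣ i := by
    by_contra hpi
    have h1 : orderOf (x ^ i) = orderOf x :=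
      Nat.Coprime.orderOf_pow (hex' ▸ ((hp.out.coprime_iff_not_dvd.mpr hpi).pow_left ex))
    have h2 : orderOf (z ^ p) * p ≤ orderOf x := by
      have hdvd : p ∣ orderOf z := hP.dvd_orderOf (fun h => hz1 (h ▸ one_mem _))
      rw [orderOf_pow_of_dvd hp.out.ne_zero hdvd, Nat.div_mul_cancel hdvd]
      exact hx z
    rw [← hi, h1] at h2
    exact absurd h2 (not_le.mpr (lt_mul_of_one_lt_right (orderOf_pos x) hp.out.one_lt))
  obtain ⟨j, rfl⟩ := hpi
  obtain ⟨f, hf⟩ := Nat.exists_eq_succ_of_ne_zero hex0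
  refine ⟨z * (x ^ j)⁻¹, x ^ p ^ f, ?_, ?_, ?_, ?_⟩
  · rw [mul_pow, inv_pow, ← pow_mul x, mul_comm j p]
    simp only at hi
    rw [hi, mul_inv_cancel]
  · rw [← pow_mul, ← pow_succ, ← Nat.succ_eq_add_one, ← hf, ← hex', pow_orderOf_eq_one]
  · intro h
    have := orderOf_dvd_of_pow_eq_one h
    rw [hex', hf, Nat.pow_dvd_pow_iff_le_right hp.out.one_lt] at this
    omega
  · intro h
    apply hz1
    have h1 : z * (x ^ j)⁻¹ ∈ Subgroup.zpowers x :=
      (Subgroup.zpowers_le.mpr (pow_mem (Subgroup.mem_zpowers x) _)) h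
    simpa using mul_mem h1 (pow_mem (Subgroup.mem_zpowers x) j)

/-- A noncyclic finite abelian subgroup has two independent elements of some prime order. -/
theorem exists_two_of_not_isCyclic (A : Subgroup G) [IsMulCommutative A] (hA : ¬ IsCyclic A) :
    ∃ (p : ℕ) (a b : G), p.Prime ∧ a ∈ A ∧ b ∈ A ∧ a ^ p = 1 ∧ b ^ p = 1 ∧ b ≠ 1 ∧
      a ∉ Subgroup.zpowers b ∧ p ∣ Nat.card A := by
  letI : CommGroup A := { (inferInstance : Group A) with mul_comm := IsMulCommutative.is_comm.comm }
  have hZ : ¬ IsZGroup A := fun h => hA inferInstance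
  obtain ⟨p, hp, P, hP⟩ : ∃ p : ℕ, p.Prime ∧ ∃ P : Sylow p A, ¬ IsCyclic P := by
    by_contra h
    push Not at h
    exact hZ ⟨fun p hp P => h p hp P⟩
  haveI : Fact p.Prime := ⟨hp⟩
  letI : CommGroup (P : Subgroup A) := Subgroup.toCommGroup _
  obtain ⟨a, b, ha, hb, hb1, hab⟩ := exists_two_of_not_isCyclic_pGroup P.isPGroup' hP
  let f : (P : Subgroup A) →* G := A.subtype.comp (P : Subgroup A).subtype
  have hf : Function.Injective f :=
    A.subtype_injective.comp (P : Subgroup A).subtype_injective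
  refine ⟨p, f a, f b, hp, (a : A).2, (b : A).2, by rw [← map_pow, ha, map_one],
    by rw [← map_pow, hb, map_one], fun h => hb1 (hf (h.trans (map_one f).symm)), ?_, ?_⟩
  · intro h
    rw [Subgroup.mem_zpowers_iff] at h
    obtain ⟨n, hn⟩ := h
    exact hab (Subgroup.mem_zpowers_iff.mpr ⟨n, hf (by rw [map_zpow, hn])⟩)
  · refine dvd_trans ?_ (Subgroup.card_subgroup_dvd_card (P : Subgroup A))
    exact (P.isPGroup'.card_eq_or_dvd).resolve_left fun h => hP (by
      have := (Nat.card_eq_one_iff_unique.mp h).1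
      infer_instance)

/-- Generation by centralisers for a noncyclic abelian coprime acting group. -/
theorem iSup_inf_centralizer_eq (A K : Subgroup G) [IsMulCommutative A] (hA : ¬ IsCyclic A)
    (hAK : A ≤ Subgroup.normalizer (K : Set G)) (hcop : (Nat.card A).Coprime (Nat.card K)) :
    (⨆ a ∈ {a : G | a ∈ A ∧ a ≠ 1}, K ⊓ Subgroup.centralizer {a}) = K := by
  refine le_antisymm (iSup₂_le fun a _ => inf_le_left) ?_
  obtain ⟨p, a, b, hp, ha, hb, hap, hbp, hb1, hab, hpA⟩ := exists_two_of_not_isCyclic A hA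
  haveI : Fact p.Prime := ⟨hp⟩
  refine (le_genCent A p a b ha hb K hAK hcop (hcop.coprime_dvd_left hpA)
    (by rw [hap]; exact one_mem _) (by rw [hbp]; exact one_mem _)).trans ?_
  refine sup_le (iSup_le fun j => ?_) ?_
  · refine le_iSup₂_of_le (a * b ^ j) ⟨mul_mem ha (pow_mem hb j), fun h => hab ?_⟩ le_rfl
    rw [eq_inv_of_mul_eq_one_left h]
    exact inv_mem (pow_mem (Subgroup.mem_zpowers b) j)
  · exact le_iSup₂_of_le b ⟨hb, hb1⟩ le_rfl

/-- `K` is generated by the centralisers of the `B ≤ A` with `A / B` cyclic. -/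
theorem le_iSup_inf_centralizer_cyclic (A K : Subgroup G) [IsMulCommutative A]
    (hAK : A ≤ Subgroup.normalizer (K : Set G)) (hcop : (Nat.card A).Coprime (Nat.card K)) :
    K ≤ ⨆ B ∈ {B : Subgroup G | B ≤ A ∧ ∃ x ∈ A, B ⊔ Subgroup.zpowers x = A},
      K ⊓ Subgroup.centralizer (B : Set G) := by
  set T := ⨆ B ∈ {B : Subgroup G | B ≤ A ∧ ∃ x ∈ A, B ⊔ Subgroup.zpowers x = A},
      K ⊓ Subgroup.centralizer (B : Set G) with hT
  suffices H : ∀ B : Subgroup G, B ≤ A → ∀ L : Subgroup G, L ≤ K →
      A ≤ Subgroup.normalizer (L : Set G) → L ≤ Subgroup.centralizer (B : Set G) → L ≤ T from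
    H ⊥ bot_le K le_rfl hAK (fun x _ => by simp [Subgroup.mem_centralizer_iff])
  intro B
  induction B using WellFoundedGT.induction with
  | _ B ih =>
  intro hB L hLK hAL hLB
  by_cases hcyc : ∃ x ∈ A, B ⊔ Subgroup.zpowers x = A
  · exact le_iSup₂_of_le B ⟨hB, hcyc⟩ (le_inf hLK hLB)
  · haveI : (B.subgroupOf A).Normal := by
      constructor
      intro n hn g
      rw [IsMulCommutative.is_comm.comm g n, mul_inv_cancel_right]
      exact hn
    let Q := A ⧸ B.subgroupOf A
    letI : CommGroup Q :=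
      { (inferInstance : Group Q) with
        mul_comm := fun u v => QuotientGroup.induction_on u fun u => QuotientGroup.induction_on v
          fun v => congrArg _ (IsMulCommutative.is_comm.comm u v) }
    have hQc : ¬ IsCyclic Q := by
      rintro ⟨g, hg⟩
      obtain ⟨x, rfl⟩ := QuotientGroup.mk_surjective g
      refine hcyc ⟨x, x.2, le_antisymm (sup_le hB (Subgroup.zpowers_le.mpr x.2)) fun y hy => ?_⟩
      obtain ⟨n, hn⟩ := Subgroup.mem_zpowers_iff.mp (hg (QuotientGroup.mk (⟨y, hy⟩ : A)))
      rw [← QuotientGroup.mk_zpow, QuotientGroup.eq, Subgroup.mem_subgroupOf] at hn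
      have := mul_mem (Subgroup.mem_sup_right (S := B)
        (Subgroup.zpow_mem_zpowers (x : G) n)) (Subgroup.mem_sup_left hn)
      simpa using this
    haveI : Fact (1 < 2) := ⟨one_lt_two⟩
    obtain ⟨p, a, b, hp, -, -, hap, hbp, hb1, hab, hpA⟩ :=
      exists_two_of_not_isCyclic (⊤ : Subgroup Q)
        (fun h => hQc (isCyclic_of_surjective (Subgroup.topEquiv (G := Q)).toMonoidHom
          (Subgroup.topEquiv (G := Q)).surjective))
    haveI : Fact p.Prime := ⟨hp⟩
    obtain ⟨a, rfl⟩ := QuotientGroup.mk_surjective a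
    obtain ⟨b, rfl⟩ := QuotientGroup.mk_surjective b
    have hpow : ∀ x : A, (QuotientGroup.mk x : Q) ^ p = 1 →
        (x : G) ^ p ∈ Subgroup.centralizer (L : Set G) := by
      intro x hx
      rw [← QuotientGroup.mk_pow, QuotientGroup.eq_one_iff, Subgroup.mem_subgroupOf] at hx
      rw [Subgroup.mem_centralizer_iff]
      intro l hl
      exact (Subgroup.mem_centralizer_iff.mp (hLB hl) _ (by simpa using hx)).symm
    rw [Subgroup.card_top] at hpA
    have hpK : p.Coprime (Nat.card L) :=
      Nat.Coprime.of_dvd (hpA.trans (Subgroup.card_quotient_dvd_card _))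
        (Subgroup.card_dvd_of_le hLK) hcop
    refine (le_genCent A p (a : G) (b : G) a.2 b.2 L hAL
      (hcop.coprime_dvd_right (Subgroup.card_dvd_of_le hLK)) hpK (hpow a hap) (hpow b hbp)).trans ?_
    have step : ∀ g : A, (QuotientGroup.mk g : Q) ≠ 1 →
        L ⊓ Subgroup.centralizer {(g : G)} ≤ T := by
      intro g hg
      have hgB : (g : G) ∉ B := fun h => hg ((QuotientGroup.eq_one_iff g).mpr h)
      refine ih (B ⊔ Subgroup.zpowers (g : G)) ?_ (sup_le hB (Subgroup.zpowers_le.mpr g.2)) _
        (inf_le_left.trans hLK) ?_ ?_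
      · refine lt_of_le_of_ne le_sup_left fun h => hgB ?_
        rw [h]; exact Subgroup.mem_sup_right (Subgroup.mem_zpowers _)
      · intro x hx
        rw [← conj_smul_eq_self_iff, Subgroup.smul_inf, conj_smul_eq_self_iff.mpr (hAL hx)]
        congr 1
        rw [conj_smul_eq_self_iff]
        have hc : x * (g : G) = (g : G) * x :=
          congrArg Subtype.val (IsMulCommutative.is_comm.comm (⟨x, hx⟩ : A) g)
        exact Subgroup.le_normalizer (Subgroup.mem_centralizer_iff.mpr (fun y hy => by
          rw [Set.mem_singleton_iff.mp hy]; exact hc.symm))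
      · rintro y ⟨hyL, hyg⟩
        rw [Subgroup.mem_centralizer_iff]
        have hle : B ⊔ Subgroup.zpowers (g : G) ≤ Subgroup.centralizer {y} := by
          refine sup_le (fun z hz => ?_) (Subgroup.zpowers_le.mpr ?_)
          · rw [Subgroup.mem_centralizer_singleton_iff]
            exact Subgroup.mem_centralizer_iff.mp (hLB hyL) z hz
          · rw [Subgroup.mem_centralizer_singleton_iff]
            exact Subgroup.mem_centralizer_iff.mp hyg _ rfl
        intro z hz
        exact Subgroup.mem_centralizer_singleton_iff.mp (hle hz)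
    refine sup_le (iSup_le fun j => ?_) (step b hb1)
    have := step (a * b ^ j) (fun h => hab ?_)
    · simpa using this
    · rw [QuotientGroup.mk_mul, QuotientGroup.mk_pow] at h
      rw [eq_inv_of_mul_eq_one_left h]
      exact inv_mem (pow_mem (Subgroup.mem_zpowers _) j)

end Cfsg.Agent.Basics
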