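import Mathlib.GroupTheory.SchurZassenhaus
import Mathlib.GroupTheory.Solvable
import Mathlib.GroupTheory.Nilpotent
import Mathlib.GroupTheory.Sylow
import Mathlib.GroupTheory.Complement
import Mathlib.Tactic

/-!
Small generic tools for finite group arguments (conjugates of subgroups, products `N ⊔ H` with
`H` normalising `N`, minimal normal subgroups, normal `p`-subgroups of solvable groups).
-/

set_option autoImplicit false
set_option linter.style.haveILetI false

open scoped Pointwise

namespace Cfsg.Agent.Basics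

variable {G : Type*} [Group G]

theorem mem_conj_smul {g x : G} {H : Subgroup G} :
    x ∈ MulAut.conj g • H ↔ g⁻¹ * x * g ∈ H := by
  rw [Subgroup.mem_pointwise_smul_iff_inv_smul_mem, ← map_inv, MulAut.smul_def,
    MulAut.conj_apply, inv_inv]

theorem conj_mem_conj_smul {g x : G} {H : Subgroup G} (h : x ∈ H) :
    g * x * g⁻¹ ∈ MulAut.conj g • H := by
  rw [mem_conj_smul]
  convert h using 1
  group

theorem conj_smul_conj_smul (a b : G) (H : Subgroup G) :
    MulAut.conj a • (MulAut.conj b • H) = MulAut.conj (a * b) • H := by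
  rw [smul_smul, map_mul]

theorem conj_smul_one (H : Subgroup G) : MulAut.conj (1 : G) • H = H := by
  rw [map_one, one_smul]

theorem conj_smul_inv_eq {a : G} {H K : Subgroup G} (h : MulAut.conj a • H = K) :
    MulAut.conj a⁻¹ • K = H := by
  rw [← h, conj_smul_conj_smul, inv_mul_cancel, conj_smul_one]

theorem card_conj_smul (g : G) (H : Subgroup G) :
    Nat.card (MulAut.conj g • H : Subgroup G) = Nat.card H :=
  Nat.card_congr (Subgroup.equivSMul (MulAut.conj g) H).toEquiv.symm

theorem isPGroup_conj_smul {p : ℕ} (g : G) {H : Subgroup G} (h : IsPGroup p H) :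
    IsPGroup p (MulAut.conj g • H : Subgroup G) :=
  h.of_equiv (Subgroup.equivSMul (MulAut.conj g) H)

theorem map_conj_smul {G' : Type*} [Group G'] (f : G →* G') (g : G) (H : Subgroup G) :
    (MulAut.conj g • H).map f = MulAut.conj (f g) • H.map f := by
  ext y
  simp only [Subgroup.mem_map, mem_conj_smul]
  constructor
  · rintro ⟨x, hx, rfl⟩
    exact ⟨_, hx, by simp⟩
  · rintro ⟨x, hx, hxy⟩
    refine ⟨g * x * g⁻¹, by convert hx using 1; group, ?_⟩
    rw [map_mul, map_mul, hxy, map_inv]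
    group

theorem conj_smul_eq_self_iff {g : G} {H : Subgroup G} :
    MulAut.conj g • H = H ↔ g ∈ Subgroup.normalizer (H : Set G) := by
  rw [Subgroup.mem_normalizer_iff'' (G := G)]
  constructor
  · intro h x
    conv_lhs => rw [← h]
    exact mem_conj_smul
  · intro h
    ext x
    rw [mem_conj_smul]
    exact (h x).symm

theorem normalizer_conj_smul (g : G) (H : Subgroup G) :
    Subgroup.normalizer ((MulAut.conj g • H : Subgroup G) : Set G) =
      MulAut.conj g • Subgroup.normalizer (H : Set G) := by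
  ext x
  rw [mem_conj_smul, ← conj_smul_eq_self_iff, ← conj_smul_eq_self_iff]
  constructor
  · intro h
    rw [← conj_smul_conj_smul, ← conj_smul_conj_smul, h, conj_smul_conj_smul, inv_mul_cancel,
      conj_smul_one]
  · intro h
    conv_rhs => rw [← h]
    simp only [conj_smul_conj_smul]
    group

theorem conj_mem_iff_of_mem_normalizer {g x : G} {H : Subgroup G}
    (hg : g ∈ Subgroup.normalizer (H : Set G)) : g * x * g⁻¹ ∈ H ↔ x ∈ H :=
  ((Subgroup.mem_normalizer_iff (G := G)).mp hg x).symm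

theorem mem_sup_of_le_normalizer {N H : Subgroup G} (h : H ≤ Subgroup.normalizer (N : Set G))
    {x : G} : x ∈ N ⊔ H ↔ ∃ n ∈ N, ∃ a ∈ H, x = n * a := by
  rw [← SetLike.mem_coe, Subgroup.coe_mul_of_right_le_normalizer_left N H h, Set.mem_mul]
  simp only [SetLike.mem_coe]
  constructor
  · rintro ⟨a, ha, b, hb, rfl⟩
    exact ⟨a, ha, b, hb, rfl⟩
  · rintro ⟨a, ha, b, hb, rfl⟩
    exact ⟨a, ha, b, hb, rfl⟩

theorem mem_sup_of_le_normalizer' {N H : Subgroup G} (h : H ≤ Subgroup.normalizer (N : Set G))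
    {x : G} : x ∈ N ⊔ H ↔ ∃ a ∈ H, ∃ n ∈ N, x = a * n := by
  rw [sup_comm, ← SetLike.mem_coe, Subgroup.coe_mul_of_left_le_normalizer_right H N h, Set.mem_mul]
  simp only [SetLike.mem_coe]
  constructor
  · rintro ⟨a, ha, b, hb, rfl⟩
    exact ⟨a, ha, b, hb, rfl⟩
  · rintro ⟨a, ha, b, hb, rfl⟩
    exact ⟨a, ha, b, hb, rfl⟩

theorem normal_subgroupOf_sup {N H : Subgroup G} (h : H ≤ Subgroup.normalizer (N : Set G)) :
    (N.subgroupOf (N ⊔ H)).Normal :=
  (Subgroup.normal_subgroupOf_iff_le_normalizer le_sup_left).mpr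
    (sup_le Subgroup.le_normalizer h)

theorem card_subgroupOf {H K : Subgroup G} (h : H ≤ K) :
    Nat.card (H.subgroupOf K) = Nat.card H :=
  Nat.card_congr (Subgroup.subgroupOfEquivOfLe h).toEquiv

theorem isSolvable_subgroupOf {H K : Subgroup G} (h : H ≤ K) (hH : Group.IsSolvable H) :
    Group.IsSolvable (H.subgroupOf K) :=
  Group.isSolvable_of_surjective (f := (Subgroup.subgroupOfEquivOfLe h).symm.toMonoidHom)
    (Subgroup.subgroupOfEquivOfLe h).symm.surjective

theorem isSolvable_of_le {H K : Subgroup G} (h : H ≤ K) (hK : Group.IsSolvable K) :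
    Group.IsSolvable H :=
  Group.isSolvable_of_isSolvable_injective (Subgroup.inclusion_injective h)

theorem isSolvable_map {G' : Type*} [Group G'] (f : G →* G') {H : Subgroup G}
    (hH : Group.IsSolvable H) : Group.IsSolvable (H.map f) :=
  Group.isSolvable_of_surjective (f := f.subgroupMap H) (f.subgroupMap_surjective H)

theorem card_quotient_lt [Finite G] {N : Subgroup G} (h : N ≠ ⊥) :
    Nat.card (G ⧸ N) < Nat.card G := by
  rw [N.card_eq_card_quotient_mul_card_subgroup]
  have := Subgroup.one_lt_card_iff_ne_bot N |>.mpr h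
  exact lt_mul_of_one_lt_right Nat.card_pos this

theorem card_lt_of_lt [Finite G] {H K : Subgroup G} (h : H < K) : Nat.card H < Nat.card K := by
  refine lt_of_le_of_ne (Subgroup.card_le_of_le h.le) fun hc => h.ne ?_
  exact Subgroup.eq_of_le_of_card_ge h.le hc.ge

theorem card_lt_card_of_ne_top [Finite G] {H : Subgroup G} (h : H ≠ ⊤) :
    Nat.card H < Nat.card G := by
  have := card_lt_of_lt (lt_top_iff_ne_top.mpr h)
  rwa [Subgroup.card_top] at this

theorem card_mul_card_eq_card_sup_mul_card_inf [Finite G] {N H : Subgroup G}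
    (h : H ≤ Subgroup.normalizer (N : Set G)) :
    Nat.card N * Nat.card H = Nat.card (N ⊔ H : Subgroup G) * Nat.card (N ⊓ H : Subgroup G) := by
  have h1 := Subgroup.card_mul_index (N.subgroupOf (N ⊔ H))
  rw [card_subgroupOf le_sup_left] at h1
  have : (N.subgroupOf (N ⊔ H)).index = N.relIndex H := by
    have := normal_subgroupOf_sup h
    have hH : H.subgroupOf (N ⊔ H) ⊔ N.subgroupOf (N ⊔ H) = ⊤ := by
      rw [← Subgroup.subgroupOf_sup le_sup_right le_sup_left, sup_comm, Subgroup.subgroupOf_self]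
    have h2 := Subgroup.relIndex_sup_right (H.subgroupOf (N ⊔ H)) (N.subgroupOf (N ⊔ H))
    rw [hH, Subgroup.relIndex_top_right] at h2
    rw [h2, Subgroup.relIndex_subgroupOf le_sup_right]
  rw [this] at h1
  have h3 := Subgroup.card_mul_index (N.subgroupOf H)
  have h4 : Nat.card (N.subgroupOf H) = Nat.card (N ⊓ H : Subgroup G) := by
    rw [← Subgroup.inf_subgroupOf_right, card_subgroupOf inf_le_right]
  rw [h4, ← Subgroup.relIndex] at h3
  rw [← h1, ← h3]
  ring

theorem card_sup_of_coprime [Finite G] {N H : Subgroup G}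
    (h : H ≤ Subgroup.normalizer (N : Set G)) (hcop : (Nat.card N).Coprime (Nat.card H)) :
    Nat.card (N ⊔ H : Subgroup G) = Nat.card N * Nat.card H := by
  rw [card_mul_card_eq_card_sup_mul_card_inf h, (Subgroup.disjoint_of_coprime_natCard hcop).eq_bot,
    Subgroup.card_bot, mul_one]

/-- The minimal normal subgroup predicate as it is spelled in the statements. -/
theorem exists_minimal_normal [Finite G] {N : Subgroup G} [N.Normal] (hN : N ≠ ⊥) :
    ∃ M : Subgroup G, M.Normal ∧ M ≤ N ∧ M ≠ ⊥ ∧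
      ∀ K : Subgroup G, K.Normal → K ≤ M → K = ⊥ ∨ K = M := by
  obtain ⟨M, ⟨hMn, hMN, hMne⟩, hmin⟩ :=
    WellFounded.has_min (wellFounded_lt (α := Subgroup G))
      {M : Subgroup G | M.Normal ∧ M ≤ N ∧ M ≠ ⊥} ⟨N, inferInstance, le_rfl, hN⟩
  refine ⟨M, hMn, hMN, hMne, fun K hK hKM => ?_⟩
  rcases eq_or_ne K ⊥ with h | h
  · exact Or.inl h
  · right
    by_contra hne
    exact hmin K ⟨hK, hKM.trans hMN, h⟩ (lt_of_le_of_ne hKM hne)

/-- A nontrivial finite solvable normal subgroup contains a nontrivial abelian normal subgroup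
of exponent a prime. -/
theorem exists_elementary_normal [Finite G] {N : Subgroup G} [N.Normal] (hN : N ≠ ⊥)
    (hs : Group.IsSolvable N) :
    ∃ (p : ℕ) (E : Subgroup G), p.Prime ∧ E.Normal ∧ E ≤ N ∧ E ≠ ⊥ ∧ IsMulCommutative E ∧
      ∀ x ∈ E, x ^ p = 1 := by
  obtain ⟨M, hMn, hMN, hMne, hmin⟩ := exists_minimal_normal hN
  have := hMn
  have hMs : Group.IsSolvable M := isSolvable_of_le hMN hs
  have hab : IsMulCommutative M := by
    rw [← Subgroup.commutator_self_eq_bot_iff]
    rcases hmin ⁅M, M⁆ inferInstance M.commutator_le_self with h | h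
    · exact h
    · exfalso
      have : Nontrivial M := M.nontrivial_iff_ne_bot.mpr hMne
      have h1 := Group.IsSolvable.commutator_lt_top_of_nontrivial M
      apply h1.ne
      apply Subgroup.map_injective M.subtype_injective
      rw [Subgroup.map_subtype_commutator, h, ← MonoidHom.range_eq_map, Subgroup.range_subtype]
  set p := (Nat.card M).minFac with hp
  have hMcard : Nat.card M ≠ 1 := by rwa [Ne, Subgroup.card_eq_one]
  have hpp : p.Prime := Nat.minFac_prime hMcard
  have : Fact p.Prime := ⟨hpp⟩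
  let E : Subgroup G :=
    { carrier := {x | x ∈ M ∧ x ^ p = 1}
      mul_mem' := by
        rintro a b ⟨ha, ha'⟩ ⟨hb, hb'⟩
        refine ⟨mul_mem ha hb, ?_⟩
        have hc : Commute a b :=
          congrArg Subtype.val (IsMulCommutative.is_comm.comm (⟨a, ha⟩ : M) ⟨b, hb⟩)
        rw [hc.mul_pow, ha', hb', one_mul]
      one_mem' := ⟨one_mem M, one_pow p⟩
      inv_mem' := by
        rintro a ⟨ha, ha'⟩
        exact ⟨inv_mem ha, by rw [inv_pow, ha', inv_one]⟩ }
  have hEn : E.Normal := ⟨fun x hx g => ⟨hMn.conj_mem x hx.1 g, by rw [conj_pow, hx.2]; group⟩⟩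
  have hEne : E ≠ ⊥ := by
    obtain ⟨x, hx⟩ := exists_prime_orderOf_dvd_card' p (Nat.minFac_dvd (Nat.card M))
    intro hE
    have : (x : G) ∈ E := ⟨x.2, by rw [← SubgroupClass.coe_pow, ← hx, pow_orderOf_eq_one]; rfl⟩
    rw [hE, Subgroup.mem_bot] at this
    have : x = 1 := Subtype.ext this
    rw [this, orderOf_one] at hx
    exact hpp.ne_one hx.symm
  refine ⟨p, E, hpp, hEn, fun x hx => hMN hx.1, hEne, ⟨⟨fun a b => ?_⟩⟩, fun x hx => hx.2⟩
  have h := congrArg Subtype.val (IsMulCommutative.is_comm.comm (⟨a, a.2.1⟩ : M) ⟨b, b.2.1⟩)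
  exact Subtype.ext h

theorem isPGroup_of_pow_eq_one {p : ℕ} {E : Subgroup G} (h : ∀ x ∈ E, x ^ p = 1) :
    IsPGroup p E :=
  fun x => ⟨1, by rw [pow_one]; exact Subtype.ext (h x x.2)⟩

/-- A minimal normal solvable subgroup is abelian of prime exponent. -/
theorem minimal_normal_solvable [Finite G] {N : Subgroup G} [N.Normal] (hN : N ≠ ⊥)
    (hs : Group.IsSolvable N)
    (hmin : ∀ M : Subgroup G, M.Normal → M ≤ N → M = ⊥ ∨ M = N) :
    IsMulCommutative N ∧ ∃ p : ℕ, p.Prime ∧ (∀ x ∈ N, x ^ p = 1) ∧ IsPGroup p N := by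
  obtain ⟨p, E, hp, hEn, hEN, hEne, hab, hexp⟩ := exists_elementary_normal hN hs
  obtain rfl : E = N := (hmin E hEn hEN).resolve_left hEne
  exact ⟨hab, p, hp, hexp, isPGroup_of_pow_eq_one hexp⟩

/-- A nontrivial finite solvable group has a nontrivial normal `p`-subgroup for some prime `p`. -/
theorem exists_normal_pGroup [Finite G] [Nontrivial G] [Group.IsSolvable G] :
    ∃ (p : ℕ) (E : Subgroup G), p.Prime ∧ E.Normal ∧ E ≠ ⊥ ∧ IsPGroup p E := by
  obtain ⟨p, E, hp, hEn, -, hEne, -, hexp⟩ :=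
    exists_elementary_normal (N := (⊤ : Subgroup G)) top_ne_bot inferInstance
  exact ⟨p, E, hp, hEn, hEne, isPGroup_of_pow_eq_one hexp⟩

end Cfsg.Agent.Basics
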