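import Cfsg.Agent.Lib.Fpf.Prime
import Cfsg.Agent.Lib.Transfer.Thompson

/-!
Thompson: a finite group with a fixed-point-free automorphism of prime order is nilpotent.
-/

set_option autoImplicit false

namespace Cfsg.Agent.Basics

open Cfsg
open scoped Pointwise

universe u v

theorem hasNormalPComplement_of_nilpotent {G : Type u} [Group G] [Finite G] [Group.IsNilpotent G]
    (p : ℕ) [hp : Fact p.Prime] : HasNormalPComplement p G := by
  obtain ⟨e⟩ := (Group.isNilpotent_of_finite_tfae (G := G)).out 0 4 rfl rfl |>.mp inferInstance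
  classical
  by_cases hd : p ∣ Nat.card G
  · let i : (Nat.card G).primeFactors :=
      ⟨p, Nat.mem_primeFactors.mpr ⟨hp.out, hd, Nat.card_pos.ne'⟩⟩
    let P : Sylow p G := default
    rw [Cfsg.Agent.Transfer.hasNormalPComplement_iff]
    intro hdiv
    obtain ⟨x, hx⟩ := exists_prime_orderOf_dvd_card' (G := ↥(pResidual p G)) p hdiv
    let π : G →* ((r : (Sylow (i : ℕ) G)) → (r : Subgroup G)) :=
      (Pi.evalMonoidHom _ i).comp e.symm.toMonoidHom
    have hle : pResidual p G ≤ π.ker := by
      refine Subgroup.closure_le _ |>.mpr fun g hg => ?_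
      refine MonoidHom.mem_ker.mpr (funext fun r => ?_)
      show (π g r) = 1
      have h1 : (π g r) ^ orderOf g = 1 := by
        rw [← Pi.pow_apply, ← map_pow, pow_orderOf_eq_one, map_one]; rfl
      obtain ⟨k, hk⟩ := (r.2 : IsPGroup p (r : Subgroup G)) (π g r)
      rw [← orderOf_eq_one_iff]
      exact Nat.eq_one_of_dvd_coprimes ((show Nat.Coprime (orderOf g) p from hg).pow_right k)
        (orderOf_dvd_of_pow_eq_one h1) (orderOf_dvd_of_pow_eq_one hk)
    have hx1 : ∀ (j : (Nat.card G).primeFactors) (r : Sylow (j : ℕ) G),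
        e.symm (x : G) j r = 1 := by
      intro j r
      by_cases hj : j = i
      · subst hj
        exact congrFun (MonoidHom.mem_ker.mp (hle x.2)) r
      · have h1 : (e.symm (x : G) j r) ^ p = 1 := by
          have : (x : G) ^ p = 1 := by
            have h0 := pow_orderOf_eq_one (x : G); rwa [Subgroup.orderOf_coe, hx] at h0
          rw [← Pi.pow_apply, ← Pi.pow_apply, ← map_pow, this, map_one]; rfl
        haveI := Fact.mk (Nat.prime_of_mem_primeFactors j.2)
        obtain ⟨k, hk⟩ := r.2 (e.symm (x : G) j r)
        rw [← orderOf_eq_one_iff]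
        refine Nat.eq_one_of_dvd_coprimes ?_ (orderOf_dvd_of_pow_eq_one h1)
          (orderOf_dvd_of_pow_eq_one hk)
        exact (((Nat.coprime_primes hp.out (Nat.prime_of_mem_primeFactors j.2)).mpr
          fun h => hj (Subtype.ext h.symm))).pow_right k
    have : (x : G) = 1 := e.symm.injective (by
      rw [map_one]; funext j r; exact hx1 j r)
    rw [← Subgroup.orderOf_coe, this, orderOf_one] at hx
    exact hp.out.one_lt.ne hx
  · rw [Cfsg.Agent.Transfer.hasNormalPComplement_iff]
    exact fun h => hd (h.trans (Subgroup.card_subgroup_dvd_card _))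

theorem isSolvable_of_isPGroup {P : Type u} [Group P] [Finite P] {p : ℕ} [Fact p.Prime]
    (h : IsPGroup p P) : Group.IsSolvable P :=
  haveI := h.isNilpotent; inferInstance

theorem isNilpotent_of_fpf_prime {G : Type u} [Group G] [Finite G] {A : Type v} [Group A]
    [Finite A] {p : ℕ} [Fact p.Prime] (hA : Nat.card A = p) (φ : A →* MulAut G)
    (hf : Fpf.Free φ) : Group.IsNilpotent G := by
  induction hc : Nat.card G using Nat.strong_induction_on generalizing G with
  | _ n ih =>
    subst hc
    suffices hs : Group.IsSolvable G from Fpf.isNilpotent_of_prime hA φ hf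
    by_cases h2 : ∀ q : ℕ, q.Prime → q ∣ Nat.card G → q = 2
    · haveI : Fact (Nat.Prime 2) := ⟨Nat.prime_two⟩
      refine isSolvable_of_isPGroup (p := 2) (IsPGroup.of_card (n := (Nat.card G).factorization 2) ?_)
      exact Nat.eq_pow_of_factorization_eq_single Nat.card_pos.ne'
        (Finsupp.ext fun q => by
          by_cases hq : q = 2
          · subst hq; simp
          · rw [Finsupp.single_eq_of_ne hq]
            by_contra hne
            have hm := Finsupp.mem_support_iff.mpr hne
            rw [Nat.support_factorization, Nat.mem_primeFactors] at hm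
            exact hq (h2 q hm.1 hm.2.1))
    push Not at h2
    obtain ⟨q, hq, hqd, hq2⟩ := h2
    haveI := Fact.mk hq
    have hAp : IsPGroup p A := IsPGroup.of_card (n := 1) (by rw [pow_one]; exact hA)
    have hnd : ¬ p ∣ Nat.card G := hf.not_dvd_card hAp
    letI : MulAction A (Sylow q G) := MulAction.compHom (Sylow q G) φ
    obtain ⟨P, hP⟩ := hAp.nonempty_fixed_point_of_prime_not_dvd_card (Sylow q G)
      (fun h => hnd (h.trans ((Sylow.card_dvd_index (default : Sylow q G)).trans
        (Subgroup.index_dvd_card _))))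
    have hinvP : Fpf.Inv φ (P : Subgroup G) := by
      intro a g hg
      have h1 : (φ a) • P = P := hP a
      rw [← h1]
      exact Subgroup.smul_mem_pointwise_smul g (φ a) (P : Subgroup G) hg
    set J := thompsonSubgroupOf q (P : Subgroup G) with hJ
    have hinvJ : Fpf.Inv φ J := by
      intro a g hg
      have h1 := Cfsg.Agent.Transfer.map_thompsonSubgroupOf (p := q) (P : Subgroup G)
        (φ a).toMonoidHom (φ a).injective.injOn
      rw [hinvP.map_eq a] at h1
      exact h1.le (Subgroup.mem_map_of_mem _ hg)
    set Z := (P : Subgroup G) ⊓ Subgroup.centralizer ((P : Subgroup G) : Set G) with hZ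
    have hinvZ : Fpf.Inv φ Z := hinvP.inf hinvP.centralizer
    have hP1 : (P : Subgroup G) ≠ ⊥ := P.ne_bot_of_dvd_card hqd
    have key : ∀ M : Subgroup G, Fpf.Inv φ M → M.Normal → M ≠ ⊥ → M ≤ (P : Subgroup G) →
        Group.IsSolvable G := by
      intro M hM hMn hM1 hMP
      haveI := hMn
      haveI : Group.IsNilpotent (G ⧸ M) := by
        refine ih _ ?_ (Fpf.quot M hM) (hf.quot hAp M hM) rfl
        rw [M.card_eq_card_quotient_mul_card_subgroup]
        exact lt_mul_of_one_lt_right Nat.card_pos ((Subgroup.one_lt_card_iff_ne_bot M).mpr hM1)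
      haveI : Group.IsSolvable M := isSolvable_of_isPGroup (P.2.to_le hMP)
      exact (Group.isSolvable_iff_subgroup_quotient M).mpr ⟨inferInstance, inferInstance⟩
    have proper : ∀ M : Subgroup G, Fpf.Inv φ M → M ≠ ⊤ → HasNormalPComplement q M := by
      intro M hM hM1
      haveI : Group.IsNilpotent M :=
        ih _ (card_lt_card_of_ne_top hM1) (Fpf.restrict M hM) (hf.restrict hM) rfl
      exact hasNormalPComplement_of_nilpotent q
    by_cases hN : Subgroup.normalizer (J : Set G) = ⊤
    · exact key J hinvJ (Subgroup.normalizer_eq_top_iff.mp hN)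
        (Cfsg.Agent.Transfer.thompsonSubgroupOf_ne_bot P.2 hP1)
        (Cfsg.Agent.Transfer.thompsonSubgroupOf_le _)
    by_cases hC : Subgroup.centralizer (Z : Set G) = ⊤
    · refine key Z hinvZ ⟨fun z hz g => ?_⟩ (Cfsg.Agent.Transfer.center_ne_bot P.2 hP1) inf_le_left
      have hg : g ∈ Subgroup.centralizer (Z : Set G) := hC ▸ Subgroup.mem_top g
      rw [← (Subgroup.mem_centralizer_iff.mp hg) z hz, mul_inv_cancel_right]
      exact hz
    have hnc : HasNormalPComplement q G := by
      refine Cfsg.Agent.Transfer.hasNormalPComplement_of_thompsonHyp_aux hq hq2 (Nat.card G) rfl P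
        ⟨proper _ ?_ hN, proper _ hinvZ.centralizer hC⟩
      intro a g hg
      rw [Subgroup.mem_normalizer_iff] at hg ⊢
      intro x
      obtain ⟨y, rfl⟩ := (φ a).surjective x
      rw [← map_mul, ← map_inv, ← map_mul]
      constructor
      · intro hy
        refine hinvJ a _ ((hg y).mp ?_)
        have := hinvJ a⁻¹ _ hy
        rwa [← MulAut.mul_apply, ← map_mul, inv_mul_cancel, map_one, MulAut.one_apply] at this
      · intro hy
        refine hinvJ a _ ((hg y).mpr ?_)
        have := hinvJ a⁻¹ _ hy
        rwa [← MulAut.mul_apply, ← map_mul, inv_mul_cancel, map_one, MulAut.one_apply] at this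
    haveI := Cfsg.Agent.Transfer.pResidual_characteristic G q
    set K := pResidual q G
    have hK : K ≠ ⊤ := by
      intro h
      have h1 := Cfsg.Agent.Transfer.hasNormalPComplement_iff.mp hnc
      exact h1 (by rw [show pResidual q G = ⊤ from h, Subgroup.card_top]; exact hqd)
    haveI : Group.IsNilpotent K :=
      ih _ (card_lt_card_of_ne_top hK) (Fpf.restrict K (Fpf.inv_char φ K))
        (hf.restrict _) rfl
    haveI : Group.IsSolvable (G ⧸ K) :=
      isSolvable_of_isPGroup (p := q) (Cfsg.Agent.Transfer.isPGroup_quotient_pResidual)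
    exact (Group.isSolvable_iff_subgroup_quotient K).mpr ⟨inferInstance, inferInstance⟩

/-- The kernel form: a group normalised by an element of prime order centralising no element. -/
theorem isNilpotent_of_conj_fpf {G : Type u} [Group G] [Finite G] (N : Subgroup G) [N.Normal]
    {x : G} {p : ℕ} [Fact p.Prime] (hx : orderOf x = p)
    (hf : ∀ n ∈ N, x * n = n * x → n = 1) : Group.IsNilpotent N := by
  refine isNilpotent_of_fpf_prime (A := Subgroup.zpowers x) (p := p)
    (by rw [Nat.card_zpowers, hx])
    ((MulAut.conjNormal (H := N)).comp (Subgroup.zpowers x).subtype) fun n hn => ?_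
  have h := congrArg Subtype.val (hn ⟨x, Subgroup.mem_zpowers x⟩)
  simp only [MonoidHom.comp_apply, MulAut.conjNormal_apply, Subgroup.coe_subtype] at h
  exact Subtype.ext (hf n n.2 (mul_inv_eq_iff_eq_mul.mp h))

end Cfsg.Agent.Basics
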