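import Cfsg.Agent.Lib.Basics.FrobeniusBasic
import Cfsg.Agent.Lib.Basics.CoprimeGen
import Cfsg.Agent.Lib.Basics.ThompsonFpf
import Cfsg.Agent.Lib.InvChar.OneSubgroup

/-!
Fixed-point-free groups of automorphisms: coprimality, abelian and `pq` subgroups are cyclic,
Sylow subgroups are cyclic or quaternion.
-/

set_option autoImplicit false

namespace Cfsg.Agent.Basics

open Cfsg

variable {G : Type*} [Group G] [Finite G]

theorem cyclic_subgroup_eq_of_card_eq {S : Type*} [Group S] [Finite S] [IsCyclic S]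
    {A B : Subgroup S} (h : Nat.card A = Nat.card B) : A = B := by
  letI : CommGroup S := IsCyclic.commGroup
  have key : ∀ C : Subgroup S, C = (powMonoidHom (Nat.card C) : S →* S).ker := fun C => by
    refine Subgroup.eq_of_le_of_card_ge (fun x hx => ?_) ?_
    · rw [MonoidHom.mem_ker, powMonoidHom_apply, ← orderOf_dvd_iff_pow_eq_one]
      exact Subgroup.orderOf_dvd_natCard C hx
    · rw [IsCyclic.card_powMonoidHom_ker, Nat.gcd_eq_right (Subgroup.card_subgroup_dvd_card C)]
  exact (key A).trans (by rw [h]; exact (key B).symm)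

theorem fpf_coprime (A V : Subgroup G) (hAV : A ≤ Subgroup.normalizer (V : Set G))
    (hfpf : ∀ a ∈ A, a ≠ 1 → V ⊓ Subgroup.centralizer {a} = ⊥) :
    (Nat.card A).Coprime (Nat.card V) := by
  refine Nat.coprime_of_dvd fun p hp hpA hpV => ?_
  haveI := Fact.mk hp
  obtain ⟨a, ha⟩ := exists_prime_orderOf_dvd_card' (G := A) p hpA
  have ha1 : (a : G) ≠ 1 := fun h => hp.one_lt.ne (by
    rw [← ha, orderOf_eq_one_iff.mpr (OneMemClass.coe_eq_one.mp h)])
  let φ : Subgroup.zpowers a →* MulAut V :=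
    V.normalizerMonoidHom.comp ((Subgroup.inclusion hAV).comp (Subgroup.zpowers a).subtype)
  refine Fpf.Free.not_dvd_card (φ := φ) (IsPGroup.of_card (p := p) (n := 1)
    (by rw [pow_one, Nat.card_zpowers, ha])) (fun v hv => ?_) hpV
  have h : (a : G) * (v : G) * (a : G)⁻¹ = (v : G) :=
    congrArg Subtype.val (hv ⟨a, Subgroup.mem_zpowers a⟩)
  have hm : (v : G) ∈ V ⊓ Subgroup.centralizer {(a : G)} :=
    Subgroup.mem_inf.mpr ⟨v.2,
      Subgroup.mem_centralizer_singleton_iff.mpr (mul_inv_eq_iff_eq_mul.mp h).symm⟩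
  rw [hfpf _ a.2 ha1, Subgroup.mem_bot] at hm
  exact Subtype.ext hm

theorem fpf_abelian_isCyclic (A V : Subgroup G) [IsMulCommutative A] (hV : V ≠ ⊥)
    (hAV : A ≤ Subgroup.normalizer (V : Set G))
    (hfpf : ∀ a ∈ A, a ≠ 1 → V ⊓ Subgroup.centralizer {a} = ⊥) : IsCyclic A := by
  by_contra h
  refine hV (le_bot_iff.mp ?_)
  rw [← iSup_inf_centralizer_eq A V h hAV (fpf_coprime A V hAV hfpf)]
  exact iSup₂_le fun a ha => (hfpf a ha.1 ha.2).le

theorem fpf_pq_commutative (A V : Subgroup G) [IsMulCommutative V] (hV : V ≠ ⊥)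
    (hAV : A ≤ Subgroup.normalizer (V : Set G))
    (hfpf : ∀ a ∈ A, a ≠ 1 → V ⊓ Subgroup.centralizer {a} = ⊥)
    {p q : ℕ} (hp : p.Prime) (hq : q.Prime) (hA : Nat.card A = p * q) : IsMulCommutative A := by
  wlog hpq : p ≤ q generalizing p q
  · exact this hq hp (by rw [hA, mul_comm]) (le_of_lt (not_le.mp hpq))
  haveI := Fact.mk hp
  haveI := Fact.mk hq
  rcases hpq.eq_or_lt with rfl | hlt
  · exact ⟨⟨IsPGroup.commutative_of_card_eq_prime_sq (by rw [sq]; exact hA)⟩⟩
  by_contra hcomm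
  let P : Sylow q A := default
  have hPcard : Nat.card (P : Subgroup A) = q := by
    rw [P.card_eq_multiplicity, hA, Nat.factorization_mul hp.ne_zero hq.ne_zero,
      Finsupp.add_apply, hp.factorization, hq.factorization, Finsupp.single_eq_same,
      Finsupp.single_eq_of_ne (by omega), zero_add, pow_one]
  have hPidx : (P : Subgroup A).index = p := by
    have := Subgroup.card_mul_index (P : Subgroup A)
    rw [hPcard, hA, mul_comm p q] at this
    exact Nat.eq_of_mul_eq_mul_left hq.pos this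
  have hPn : (P : Subgroup A).Normal := Subgroup.normal_of_index_eq_minFac_card (by
    rw [hPidx, hA]
    refine le_antisymm ?_ (Nat.minFac_le_of_dvd hp.two_le (dvd_mul_right p q))
    have h1 := Nat.minFac_prime (n := p * q)
      (Nat.lt_of_lt_of_le hp.one_lt (Nat.le_mul_of_pos_right p hq.pos)).ne'
    rcases (Nat.Prime.dvd_mul h1).mp (Nat.minFac_dvd (p * q)) with h | h
    · exact ((Nat.prime_dvd_prime_iff_eq h1 hp).mp h).ge
    · rw [(Nat.prime_dvd_prime_iff_eq h1 hq).mp h]; exact hlt.le)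
  obtain ⟨b, hb⟩ := exists_prime_orderOf_dvd_card' (G := A) p (hA ▸ dvd_mul_right p q)
  set D : Subgroup G := (P : Subgroup A).map A.subtype with hD
  set B : Subgroup G := Subgroup.zpowers (b : G) with hB
  have hDA : D ≤ A := Subgroup.map_subtype_le _
  have hBA : B ≤ A := Subgroup.zpowers_le.mpr b.2
  have hcD : Nat.card D = q := by
    rw [hD, Subgroup.card_map_of_injective A.subtype_injective, hPcard]
  have hcB : Nat.card B = p := by rw [hB, Nat.card_zpowers, Subgroup.orderOf_coe, hb]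
  have hBD : B ≤ Subgroup.normalizer (D : Set G) := by
    refine Subgroup.zpowers_le.mpr (Subgroup.mem_normalizer_iff.mpr fun x => ?_)
    constructor
    · rintro ⟨y, hy, rfl⟩
      exact ⟨b * y * b⁻¹, hPn.conj_mem y hy b, by simp⟩
    · rintro ⟨y, hy, hxy⟩
      refine ⟨b⁻¹ * y * b, ?_, ?_⟩
      · have := hPn.conj_mem y hy b⁻¹
        rwa [inv_inv] at this
      · simp only [Subgroup.coe_subtype] at hxy
        simp [hxy, mul_assoc]
  have hsup : D ⊔ B = A := by
    refine Subgroup.eq_of_le_of_card_ge (sup_le hDA hBA) ?_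
    rw [card_sup_of_coprime hBD (by
      rw [hcD, hcB]; exact (Nat.coprime_primes hq hp).mpr (by omega)), hcD, hcB, hA, mul_comm]
  have hcent : ∀ d ∈ D, ∀ c ∈ B, c ≠ 1 → d * c = c * d → d = 1 := by
    intro d hd c hc hc1 hdc
    by_contra hd1
    have hzd : Subgroup.zpowers d = D :=
      Subgroup.eq_of_le_of_card_ge (Subgroup.zpowers_le.mpr hd) (by
        rw [Nat.card_zpowers, hcD]
        rcases (Nat.dvd_prime hq).mp (hcD ▸ Subgroup.orderOf_dvd_natCard D hd) with h | h
        · exact absurd (orderOf_eq_one_iff.mp h) hd1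
        · rw [h])
    have hzc : Subgroup.zpowers c = B :=
      Subgroup.eq_of_le_of_card_ge (Subgroup.zpowers_le.mpr hc) (by
        rw [Nat.card_zpowers c, hcB]
        rcases (Nat.dvd_prime hp).mp (hcB ▸ Subgroup.orderOf_dvd_natCard B hc) with h | h
        · exact absurd (orderOf_eq_one_iff.mp h) hc1
        · rw [h])
    refine hcomm ⟨⟨fun x y => Subtype.ext ?_⟩⟩
    have key : ∀ z ∈ A, ∃ i j : ℤ, z = d ^ i * c ^ j := by
      intro z hz
      rw [← hsup] at hz
      obtain ⟨u, hu, v, hv, rfl⟩ := (mem_sup_of_le_normalizer hBD).mp hz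
      rw [← hzd] at hu
      rw [← hzc] at hv
      obtain ⟨i, rfl⟩ := Subgroup.mem_zpowers_iff.mp hu
      obtain ⟨j, rfl⟩ := Subgroup.mem_zpowers_iff.mp hv
      exact ⟨i, j, rfl⟩
    obtain ⟨i, j, hx⟩ := key _ x.2
    obtain ⟨k, l, hy⟩ := key _ y.2
    have hcomm' : Commute d c := hdc
    show (x : G) * y = y * x
    rw [hx, hy]
    exact Commute.mul_left
      (((Commute.refl d).zpow_zpow i k).mul_right (hcomm'.zpow_zpow i l))
      ((hcomm'.symm.zpow_zpow j k).mul_right ((Commute.refl c).zpow_zpow j l))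
  refine hV ((Subgroup.eq_bot_iff_forall V).mpr fun v hv => ?_)
  have h1 := fpf_pow_eq_one V D B (hDA.trans hAV) (hBA.trans hAV) hBD
    (fun h => hq.one_lt.ne (by rw [← hcD, h, Subgroup.card_bot]))
    (fun h => hp.one_lt.ne (by rw [← hcB, h, Subgroup.card_bot]))
    hcent (fun x hx => hfpf x (hsup ▸ hx)) hv
  rw [← orderOf_eq_one_iff]
  refine Nat.eq_one_of_dvd_coprimes ?_ (orderOf_dvd_of_pow_eq_one h1)
    (Subgroup.orderOf_dvd_natCard V hv)
  rw [hcD]
  exact (fpf_coprime A V hAV hfpf).coprime_dvd_left (hA ▸ dvd_mul_left q p)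

/-- A nontrivial normal subgroup acted on fixed-point-freely contains such an abelian one. -/
theorem exists_abelian_fpf (K H : Subgroup G) [K.Normal] (hK : K ≠ ⊥) (hH : H ≠ ⊥)
    (hfpf : ∀ h ∈ H, h ≠ 1 → K ⊓ Subgroup.centralizer {h} = ⊥) :
    ∃ V : Subgroup G, V ≤ K ∧ V ≠ ⊥ ∧ IsMulCommutative V ∧ V.Normal ∧
      ∀ h ∈ H, h ≠ 1 → V ⊓ Subgroup.centralizer {h} = ⊥ := by
  obtain ⟨q, hq, hqd⟩ := Nat.exists_prime_and_dvd
    (fun h : Nat.card H = 1 => hH (H.eq_bot_of_card_eq h))
  haveI := Fact.mk hq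
  obtain ⟨x, hx⟩ := exists_prime_orderOf_dvd_card' (G := H) q hqd
  have hx1 : (x : G) ≠ 1 := fun h => hq.one_lt.ne (by
    rw [← hx, orderOf_eq_one_iff.mpr (OneMemClass.coe_eq_one.mp h)])
  haveI : Group.IsNilpotent K := isNilpotent_of_conj_fpf K (x := (x : G)) (p := q)
    (by rw [Subgroup.orderOf_coe]; exact hx) fun n hn hc => by
      have hm : n ∈ K ⊓ Subgroup.centralizer {(x : G)} :=
        Subgroup.mem_inf.mpr ⟨hn, Subgroup.mem_centralizer_singleton_iff.mpr hc.symm⟩
      rwa [hfpf _ x.2 hx1, Subgroup.mem_bot] at hm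
  refine ⟨K ⊓ Subgroup.centralizer (K : Set G), inf_le_left, ?_, ?_, inferInstance, fun h hh h1 =>
    le_bot_iff.mp ((inf_le_inf_right _ inf_le_left).trans (hfpf h hh h1).le)⟩
  · intro hb
    haveI : Nontrivial K := K.nontrivial_iff_ne_bot.mpr hK
    haveI : Nontrivial (Subgroup.center K) :=
      (Subgroup.center K).nontrivial_iff_ne_bot.mpr (Group.IsNilpotent.center_ne_bot K)
    obtain ⟨z, hz⟩ := exists_ne (1 : Subgroup.center K)
    apply hz
    have : ((z : K) : G) ∈ K ⊓ Subgroup.centralizer (K : Set G) :=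
      Subgroup.mem_inf.mpr ⟨(z : K).2, Subgroup.mem_centralizer_iff.mpr fun y hy =>
        congrArg Subtype.val (Subgroup.mem_center_iff.mp z.2 ⟨y, hy⟩)⟩
    rw [hb, Subgroup.mem_bot] at this
    exact Subtype.ext (Subtype.ext this)
  · exact ⟨⟨fun a b => Subtype.ext ((Subgroup.mem_centralizer_iff.mp b.2.2) a a.2.1)⟩⟩

theorem fpf_sylow_cyclic_or_quaternion (K H : Subgroup G) [K.Normal] (hK : K ≠ ⊥)
    (hfpf : ∀ h ∈ H, h ≠ 1 → K ⊓ Subgroup.centralizer {h} = ⊥) (p : ℕ) [hp : Fact p.Prime]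
    (P : Sylow p H) : IsCyclic P ∨ (p = 2 ∧ ∃ n : ℕ, Nonempty (P ≃* QuaternionGroup (2 ^ n))) := by
  refine InvChar.cyclic_or_quaternion P.isPGroup' fun A B hA hB => ?_
  obtain ⟨a, ha⟩ := exists_prime_orderOf_dvd_card' (G := A) p (by rw [hA])
  haveI : Nontrivial (P : Subgroup H) := ⟨⟨(a : (P : Subgroup H)), 1, fun h => hp.out.one_lt.ne
    (by rw [← ha, orderOf_eq_one_iff.mpr (OneMemClass.coe_eq_one.mp h)])⟩⟩
  have hHne : H ≠ ⊥ := by
    obtain ⟨x, hx⟩ := exists_ne (1 : (P : Subgroup H))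
    exact fun h => hx (Subtype.ext (Subtype.ext (Subgroup.mem_bot.mp (h.le (x : H).2))))
  obtain ⟨V, -, hV, hVc, hVn, hVf⟩ := exists_abelian_fpf K H hK hHne hfpf
  haveI := P.isPGroup'.center_nontrivial
  obtain ⟨z, hz⟩ := exists_prime_orderOf_dvd_card' (G := Subgroup.center (P : Subgroup H)) p
    (((P.isPGroup'.to_subgroup _).card_eq_or_dvd).resolve_left Finite.one_lt_card.ne')
  suffices key : ∀ C : Subgroup (P : Subgroup H), Nat.card C = p →
      C = Subgroup.zpowers (z : (P : Subgroup H)) by rw [key A hA, key B hB]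
  intro C hC
  haveI : IsCyclic C := isCyclic_of_prime_card hC
  set S := C ⊔ Subgroup.zpowers (z : (P : Subgroup H)) with hS
  have hScomm : IsMulCommutative S := by
    rw [hS, Subgroup.zpowers_eq_closure, ← Subgroup.closure_eq C, ← Subgroup.closure_union]
    refine Subgroup.isMulCommutative_closure ?_
    rintro x (hx | rfl) y (hy | rfl)
    · exact congrArg Subtype.val (mul_comm' (⟨x, hx⟩ : C) ⟨y, hy⟩)
    · exact Subgroup.mem_center_iff.mp z.2 x
    · exact (Subgroup.mem_center_iff.mp z.2 y).symm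
    · rfl
  let f : (P : Subgroup H) →* G := H.subtype.comp (P : Subgroup H).subtype
  have hf : Function.Injective f :=
    H.subtype_injective.comp (P : Subgroup H).subtype_injective
  haveI : IsMulCommutative (S.map f) := ⟨⟨by
    rintro ⟨_, x, hx, rfl⟩ ⟨_, y, hy, rfl⟩
    exact Subtype.ext (by
      show f x * f y = f y * f x
      rw [← map_mul, ← map_mul]
      exact congrArg f (congrArg Subtype.val (hScomm.is_comm.comm ⟨x, hx⟩ ⟨y, hy⟩)))⟩⟩
  have hSH : S.map f ≤ H := fun x ⟨y, _, hy⟩ => hy ▸ (y : H).2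
  haveI hcyc : IsCyclic (S.map f) := fpf_abelian_isCyclic (S.map f) V hV
    (Subgroup.le_normalizer_of_normal) (fun x hx => hVf x (hSH hx))
  haveI : IsCyclic S :=
    isCyclic_of_surjective (S.equivMapOfInjective f hf).symm (MulEquiv.surjective _)
  have hzc : Nat.card (Subgroup.zpowers (z : (P : Subgroup H))) = p := by
    rw [Nat.card_zpowers, Subgroup.orderOf_coe, hz]
  have h1 : C.subgroupOf S = (Subgroup.zpowers (z : (P : Subgroup H))).subgroupOf S := by
    refine cyclic_subgroup_eq_of_card_eq ?_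
    rw [card_subgroupOf le_sup_left, card_subgroupOf le_sup_right, hC, hzc]
  have h2 := congrArg (Subgroup.map S.subtype) h1
  rwa [Subgroup.map_subgroupOf_eq_of_le le_sup_left,
    Subgroup.map_subgroupOf_eq_of_le le_sup_right] at h2

end Cfsg.Agent.Basics
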