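import Cfsg.Agent.Lib.Basics.Frattini
import Cfsg.Agent.Lib.Basics.Tools
import Cfsg.Agent.Lib.Transfer.Hall
import Cfsg.Prelude.Def_SolvableStructure

/-!
Schmidt: groups all of whose proper subgroups are nilpotent are solvable, and their structure.
-/

set_option autoImplicit false

namespace Cfsg.Agent.Basics

open Cfsg
open scoped Pointwise

universe u

theorem isNilpotent_of_le' {G : Type u} [Group G] {H K : Subgroup G} (h : H ≤ K)
    (hK : Group.IsNilpotent K) : Group.IsNilpotent H :=
  haveI := hK
  Group.nilpotent_of_mulEquiv (Subgroup.subgroupOfEquivOfLe h)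

theorem commute_of_coprime_le {G : Type u} [Group G] [Finite G] {H : Subgroup G}
    (hH : Group.IsNilpotent H) {x y : G} (hx : x ∈ H) (hy : y ∈ H)
    (hxy : (orderOf x).Coprime (orderOf y)) : Commute x y :=
  congrArg Subtype.val (Cfsg.Agent.Transfer.commute_of_coprime_of_nilpotent (G := H)
    (x := ⟨x, hx⟩) (y := ⟨y, hy⟩) (by rwa [← Subgroup.orderOf_coe, ← Subgroup.orderOf_coe])).eq

theorem eq_top_of_sylow_le {G : Type u} [Group G] [Finite G] (L : Subgroup G)
    (h : ∀ p : ℕ, ∀ _ : Fact p.Prime, p ∣ Nat.card G → ∃ P : Sylow p G, (P : Subgroup G) ≤ L) :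
    L = ⊤ := by
  refine Subgroup.eq_top_of_card_eq _ (Nat.dvd_antisymm (Subgroup.card_subgroup_dvd_card L) ?_)
  rw [Nat.dvd_iff_prime_pow_dvd_dvd]
  intro p k hp hpk
  rcases Nat.eq_zero_or_pos k with rfl | hk
  · simp
  haveI := Fact.mk hp
  obtain ⟨P, hP⟩ := h p inferInstance ((dvd_pow_self p hk.ne').trans hpk)
  refine dvd_trans ?_ (Subgroup.card_dvd_of_le hP)
  rw [P.card_eq_multiplicity]
  exact pow_dvd_pow p ((hp.pow_dvd_iff_le_factorization Nat.card_pos.ne').mp hpk)

theorem conj_smul_top' {G : Type u} [Group G] (g : G) :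
    MulAut.conj g • (⊤ : Subgroup G) = ⊤ :=
  Subgroup.map_top_of_surjective (MulDistribMulAction.toMonoidEnd _ G (MulAut.conj g))
    (MulAut.conj g).surjective

theorem isSolvable_of_proper_nilpotent {G : Type u} [Group G] [Finite G]
    (h : ∀ H : Subgroup G, H ≠ ⊤ → Group.IsNilpotent H) : Group.IsSolvable G := by
  induction hc : Nat.card G using Nat.strong_induction_on generalizing G with
  | _ n ih =>
    subst hc
    by_cases hcomm : ∀ a b : G, a * b = b * a
    · exact Group.isSolvable_of_comm hcomm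
    by_cases hN : ∃ N : Subgroup G, N.Normal ∧ N ≠ ⊥ ∧ N ≠ ⊤
    · obtain ⟨N, hn, hN1, hN2⟩ := hN
      haveI := hn
      haveI := h N hN2
      have : Group.IsSolvable (G ⧸ N) := by
        refine ih _ (card_quotient_lt hN1) (fun K hK => ?_) rfl
        have hK' : K.comap (QuotientGroup.mk' N) ≠ ⊤ := fun e => hK (by
          rw [← Subgroup.map_comap_eq_self_of_surjective (QuotientGroup.mk'_surjective N) K, e,
            Subgroup.map_top_of_surjective _ (QuotientGroup.mk'_surjective N)])
        haveI := h _ hK'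
        exact Group.nilpotent_of_surjective ((QuotientGroup.mk' N).subgroupComap K)
          ((QuotientGroup.mk' N).subgroupComap_surjective_of_surjective K
            (QuotientGroup.mk'_surjective N))
      exact (Group.isSolvable_iff_subgroup_quotient N).mpr ⟨inferInstance, this⟩
    exfalso
    push Not at hN
    haveI : Nontrivial G := not_subsingleton_iff_nontrivial.mp fun _ =>
      hcomm fun a b => Subsingleton.elim _ _
    have hne_bot : ∀ M : Subgroup G, IsCoatom M → M ≠ ⊥ := by
      intro M hM hb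
      subst hb
      obtain ⟨x, hx⟩ := exists_ne (1 : G)
      have h1 : Subgroup.zpowers x = ⊤ := hM.2 _ (bot_lt_iff_ne_bot.mpr (by
        rwa [Ne, Subgroup.zpowers_eq_bot]))
      refine hcomm fun a b => ?_
      obtain ⟨i, rfl⟩ := Subgroup.mem_zpowers_iff.mp (h1 ▸ Subgroup.mem_top a :
        a ∈ Subgroup.zpowers x)
      obtain ⟨j, rfl⟩ := Subgroup.mem_zpowers_iff.mp (h1 ▸ Subgroup.mem_top b :
        b ∈ Subgroup.zpowers x)
      exact ((Commute.refl x).zpow_zpow i j).eq
    -- distinct maximal subgroups intersect trivially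
    have hTI : ∀ M L : Subgroup G, IsCoatom M → IsCoatom L → M ≠ L → M ⊓ L = ⊥ := by
      suffices key : ∀ D : Subgroup G, ∀ M L : Subgroup G, IsCoatom M → IsCoatom L → M ≠ L →
          M ⊓ L = D → D = ⊥ from fun M L hM hL hne => key _ M L hM hL hne rfl
      intro D
      induction D using WellFoundedGT.induction with
      | _ D ihD =>
      intro M L hM hL hne hD
      by_contra hD1
      have hnorm : Subgroup.normalizer (D : Set G) ≠ ⊤ := by
        intro e
        have hDn : D.Normal := Subgroup.normalizer_eq_top_iff.mp e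
        have hDtop := hN D hDn hD1
        exact hM.1 (eq_top_iff.mpr (hDtop ▸ hD ▸ inf_le_left))
      obtain ⟨W, hW, hWle⟩ := (eq_top_or_exists_le_coatom _).resolve_left hnorm
      have step : ∀ M L : Subgroup G, IsCoatom M → IsCoatom L → M ≠ L → M ⊓ L = D → W = M := by
        intro M L hM hL hne hD
        have hlt : D < M := lt_of_le_of_ne (hD ▸ inf_le_left) fun e => hne (by
          have hML : M ≤ L := by rw [← e, ← hD]; exact inf_le_right
          exact (hML.eq_or_lt).resolve_right fun hl => hL.1 (hM.2 _ hl))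
        haveI := h M hM.1
        have hlt' : D.subgroupOf M < ⊤ := by
          refine lt_top_iff_ne_top.mpr fun e => hlt.not_ge ?_
          rwa [Subgroup.subgroupOf_eq_top] at e
        have hgrow := Group.normalizerCondition_of_isNilpotent _ hlt'
        obtain ⟨x, hxN, hxD⟩ := SetLike.exists_of_lt hgrow
        by_contra hWM
        have hmem : (x : G) ∈ M ⊓ W := Subgroup.mem_inf.mpr ⟨x.2, hWle (by
          rw [Subgroup.mem_normalizer_iff] at hxN ⊢
          intro z
          constructor
          · intro hz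
            have := (hxN ⟨z, hlt.le hz⟩).mp (Subgroup.mem_subgroupOf.mpr hz)
            exact Subgroup.mem_subgroupOf.mp this
          · intro hz
            have hzM : z ∈ M := by
              have := mul_mem (mul_mem (inv_mem x.2) (hlt.le hz)) x.2
              simpa [mul_assoc] using this
            have := (hxN ⟨z, hzM⟩).mpr (Subgroup.mem_subgroupOf.mpr hz)
            exact Subgroup.mem_subgroupOf.mp this)⟩
        have hle : D ≤ M ⊓ W := le_inf hlt.le (Subgroup.le_normalizer.trans hWle)
        have hlt2 : D < M ⊓ W := lt_of_le_of_ne hle fun e => hxD (Subgroup.mem_subgroupOf.mpr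
          (e.symm ▸ hmem))
        exact hlt2.ne_bot (ihD _ hlt2 M W hM hW (Ne.symm hWM) rfl)
      exact hne ((step M L hM hL hne hD).symm.trans
        (step L M hL hM hne.symm (by rw [inf_comm, hD])))
    have hnorm : ∀ M : Subgroup G, IsCoatom M → Subgroup.normalizer (M : Set G) = M := by
      intro M hM
      refine ((Subgroup.le_normalizer).eq_or_lt.resolve_right fun hl => ?_).symm
      have hMn := Subgroup.normalizer_eq_top_iff.mp (hM.2 _ hl)
      exact hM.1 (hN M hMn (hne_bot M hM))
    have hconj : ∀ M : Subgroup G, IsCoatom M → ∀ g : G, IsCoatom (MulAut.conj g • M) := by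
      intro M hM g
      refine ⟨fun e => hM.1 ?_, fun K hK => ?_⟩
      · have h0 := congrArg (fun S => MulAut.conj g⁻¹ • S) e
        simp only [conj_smul_conj_smul, inv_mul_cancel, conj_smul_one, conj_smul_top'] at h0
        exact h0
      · have h1 : MulAut.conj g⁻¹ • K = ⊤ := by
          refine hM.2 _ ?_
          have h2 : MulAut.conj g⁻¹ • (MulAut.conj g • M) < MulAut.conj g⁻¹ • K :=
            lt_of_le_of_ne (Subgroup.pointwise_smul_le_pointwise_smul_iff.mpr hK.le)
              fun e => hK.ne (smul_left_cancel _ e)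
          rwa [conj_smul_conj_smul, inv_mul_cancel, conj_smul_one] at h2
        have h0 := congrArg (fun S => MulAut.conj g • S) h1
        simp only [conj_smul_conj_smul, mul_inv_cancel, conj_smul_one, conj_smul_top'] at h0
        exact h0
    let F : ∀ M : Subgroup G, (G ⧸ M) × {m : M // m ≠ 1} → {g : G // g ≠ 1} := fun M x =>
      ⟨x.1.out * ((x.2.1 : M) : G) * x.1.out⁻¹, fun e => x.2.2 (Subtype.ext (conj_eq_one_iff.mp e))⟩
    have hFmem : ∀ (M : Subgroup G) (x), (F M x : G) ∈ MulAut.conj x.1.out • M := fun M x =>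
      conj_mem_conj_smul x.2.1.2
    have hsame : ∀ M L : Subgroup G, IsCoatom M → IsCoatom L → ∀ x y, F M x = F L y →
        MulAut.conj x.1.out • M = MulAut.conj y.1.out • L := by
      intro M L hM hL x y e
      by_contra hne
      have h1 : (F M x : G) ∈ MulAut.conj x.1.out • M ⊓ MulAut.conj y.1.out • L :=
        Subgroup.mem_inf.mpr ⟨hFmem M x, e ▸ hFmem L y⟩
      rw [hTI _ _ (hconj M hM _) (hconj L hL _) hne, Subgroup.mem_bot] at h1
      exact (F M x).2 h1
    have hinj : ∀ M : Subgroup G, IsCoatom M → Function.Injective (F M) := by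
      rintro M hM ⟨c, m⟩ ⟨d, k⟩ e
      have h1 := hsame M M hM hM _ _ e
      have h2 : c = d := by
        have h3 : MulAut.conj (d.out⁻¹ * c.out) • M = M := by
          rw [← conj_smul_conj_smul, h1, conj_smul_conj_smul, inv_mul_cancel, conj_smul_one]
        rw [conj_smul_eq_self_iff, hnorm M hM] at h3
        rw [← QuotientGroup.out_eq' c, ← QuotientGroup.out_eq' d, eq_comm, QuotientGroup.eq]
        exact h3
      subst h2
      have h4 : c.out * ((m : M) : G) * c.out⁻¹ = c.out * ((k : M) : G) * c.out⁻¹ :=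
        congrArg Subtype.val e
      exact Prod.ext rfl (Subtype.ext (Subtype.ext (mul_left_cancel (mul_right_cancel h4))))
    classical
    haveI := Fintype.ofFinite G
    have hG1 : Nat.card {g : G // g ≠ 1} = Nat.card G - 1 := by
      simp [Nat.card_eq_fintype_card, Fintype.card_subtype_compl]
    have hM1 : ∀ M : Subgroup G, IsCoatom M →
        Nat.card ((G ⧸ M) × {m : M // m ≠ 1}) * 2 ≥ Nat.card G := by
      intro M hM
      haveI := Fintype.ofFinite M
      have h1 : Nat.card {m : M // m ≠ 1} = Nat.card M - 1 := by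
        simp [Nat.card_eq_fintype_card, Fintype.card_subtype_compl]
      rw [Nat.card_prod, h1, ← Subgroup.index_eq_card]
      have h2 := (Subgroup.one_lt_card_iff_ne_bot M).mpr (hne_bot M hM)
      rw [← M.index_mul_card, mul_assoc]
      exact Nat.mul_le_mul_left _ (by omega)
    obtain ⟨M, hM, -⟩ := (eq_top_or_exists_le_coatom (⊥ : Subgroup G)).resolve_left bot_ne_top
    by_cases hcov : Function.Surjective (F M)
    · have h1 := Nat.card_le_card_of_surjective _ hcov
      rw [hG1, Nat.card_prod] at h1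
      haveI := Fintype.ofFinite M
      have h1' : Nat.card {m : M // m ≠ 1} = Nat.card M - 1 := by
        simp [Nat.card_eq_fintype_card, Fintype.card_subtype_compl]
      rw [h1', ← Subgroup.index_eq_card, Nat.mul_sub, mul_one, M.index_mul_card] at h1
      have h2 : 1 < M.index := Subgroup.one_lt_index_of_ne_top hM.1
      have h3 := Nat.le_of_dvd Nat.card_pos (Subgroup.index_dvd_card M)
      omega
    simp only [Function.Surjective, not_forall, not_exists] at hcov
    obtain ⟨⟨g, hg⟩, hgn⟩ := hcov
    have hzg : Subgroup.zpowers g ≠ ⊤ := fun e => hcomm fun a b => by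
      obtain ⟨i, rfl⟩ := Subgroup.mem_zpowers_iff.mp (e ▸ Subgroup.mem_top a :
        a ∈ Subgroup.zpowers g)
      obtain ⟨j, rfl⟩ := Subgroup.mem_zpowers_iff.mp (e ▸ Subgroup.mem_top b :
        b ∈ Subgroup.zpowers g)
      exact ((Commute.refl g).zpow_zpow i j).eq
    obtain ⟨L, hL, hgL⟩ := (eq_top_or_exists_le_coatom _).resolve_left hzg
    have hgL' : g ∈ L := hgL (Subgroup.mem_zpowers g)
    have hnc : ∀ d : G, MulAut.conj d • M ≠ L := by
      intro d e
      set c : G ⧸ M := QuotientGroup.mk d with hc'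
      have h1 : MulAut.conj c.out • M = L := by
        rw [← e]
        have h3 : c.out⁻¹ * d ∈ M := QuotientGroup.eq.mp (QuotientGroup.out_eq' c)
        have h4 : MulAut.conj (c.out⁻¹ * d) • M = M :=
          conj_smul_eq_self_iff.mpr (Subgroup.le_normalizer h3)
        refine ((congrArg (fun S => MulAut.conj c.out • S) h4).symm.trans ?_)
        rw [conj_smul_conj_smul, mul_inv_cancel_left]
      rw [← h1, mem_conj_smul] at hgL'
      refine hgn ⟨c, ⟨⟨_, hgL'⟩, fun e0 => hg ?_⟩⟩ (Subtype.ext ?_)
      · have e1 := congrArg Subtype.val e0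
        simp only [OneMemClass.coe_one] at e1
        calc g = c.out * (c.out⁻¹ * g * c.out) * c.out⁻¹ := by group
          _ = 1 := by rw [e1]; group
      · show c.out * (c.out⁻¹ * g * c.out) * c.out⁻¹ = g
        group
    have hdisj : ∀ x y, F M x ≠ F L y := by
      intro x y e
      have h1 := hsame M L hM hL x y e
      refine hnc (y.1.out⁻¹ * x.1.out) ?_
      rw [← conj_smul_conj_smul, h1, conj_smul_conj_smul, inv_mul_cancel, conj_smul_one]
    have hle := Nat.card_le_card_of_injective (Sum.elim (F M) (F L))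
      ((hinj M hM).sumElim (hinj L hL) hdisj)
    rw [Nat.card_sum, hG1] at hle
    have h3 := hM1 M hM
    have h4 := hM1 L hL
    have h5 := Nat.card_pos (α := G)
    omega

/-- Structure of minimal non-nilpotent groups. -/
theorem minimalNonNilpotent_structure {G : Type u} [Group G] [Finite G]
    (hG : IsMinimalNonNilpotent G) : ∃ p q : ℕ, p.Prime ∧ q.Prime ∧ p ≠ q ∧
      ∃ (P : Sylow p G) (Q : Sylow q G), IsCyclic P ∧ (Q : Subgroup G).Normal ∧
        ¬ (P : Subgroup G).Normal ∧ (P : Subgroup G) ⊔ Q = ⊤ := by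
  haveI := isSolvable_of_proper_nilpotent hG.2
  haveI : Nontrivial G := not_subsingleton_iff_nontrivial.mp fun _ => hG.1 inferInstance
  obtain ⟨M, hM, hMle⟩ := (eq_top_or_exists_le_coatom (commutator G)).resolve_left
    (Group.IsSolvable.commutator_lt_top_of_nontrivial G).ne
  have hMn : M.Normal := Subgroup.Normal.of_commutator_le _ hMle
  have hidx1 : M.index ≠ 1 := fun e => hM.1 (Subgroup.index_eq_one.mp e)
  obtain ⟨r, hr, hrd⟩ := Nat.exists_prime_and_dvd hidx1
  haveI := Fact.mk hr
  have hidx : M.index = r := by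
    rw [Subgroup.index_eq_card] at hrd ⊢
    obtain ⟨x, hx⟩ := exists_prime_orderOf_dvd_card' r hrd
    have hlt : M < (Subgroup.zpowers x).comap (QuotientGroup.mk' M) := by
      refine lt_of_le_of_ne (fun m hm => ?_) fun e => ?_
      · rw [Subgroup.mem_comap, QuotientGroup.mk'_apply, (QuotientGroup.eq_one_iff m).mpr hm]
        exact one_mem _
      · obtain ⟨g, rfl⟩ := QuotientGroup.mk'_surjective M x
        have hgM : g ∈ M := by rw [e]; exact Subgroup.mem_zpowers _
        rw [QuotientGroup.mk'_apply, (QuotientGroup.eq_one_iff g).mpr hgM, orderOf_one] at hx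
        exact hr.one_lt.ne hx
    have h1 := congrArg (Subgroup.map (QuotientGroup.mk' M)) (hM.2 _ hlt)
    rw [Subgroup.map_comap_eq_self_of_surjective (QuotientGroup.mk'_surjective M),
      Subgroup.map_top_of_surjective _ (QuotientGroup.mk'_surjective M)] at h1
    rw [← Subgroup.card_top, ← h1, Nat.card_zpowers, hx]
  have hnormal : ∀ q : ℕ, ∀ _ : Fact q.Prime, q ≠ r → ∀ Q : Sylow q G, (Q : Subgroup G).Normal := by
    intro q hq hqr Q
    have hQM : (Q : Subgroup G) ≤ M := by
      intro x hx
      rw [← QuotientGroup.eq_one_iff (N := M), ← orderOf_eq_one_iff]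
      obtain ⟨k, hk⟩ := Q.2 ⟨x, hx⟩
      have hxk : x ^ q ^ k = 1 := congrArg Subtype.val hk
      refine Nat.eq_one_of_dvd_coprimes (((Nat.coprime_primes hq.out hr).mpr hqr).pow_left k)
        (orderOf_dvd_of_pow_eq_one (by rw [← QuotientGroup.mk_pow, hxk]; rfl)) ?_
      rw [← hidx, Subgroup.index_eq_card]
      exact orderOf_dvd_natCard _
    haveI := hG.2 M hM.1
    let S : Sylow q M := Q.subtype hQM
    have hS : (S : Subgroup M).Normal :=
      (Group.isNilpotent_of_finite_tfae (G := M)).out 0 3 rfl rfl |>.mp inferInstance q hq S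
    haveI := Sylow.characteristic_of_normal S hS
    haveI := hMn
    have h1 : ((S : Subgroup M).map M.subtype).Normal := ConjAct.normal_of_characteristic_of_normal
    rwa [Sylow.coe_subtype, Subgroup.map_subgroupOf_eq_of_le hQM] at h1
  obtain ⟨P⟩ := (inferInstance : Nonempty (Sylow r G))
  have hPn : ¬ (P : Subgroup G).Normal := by
    intro hn
    refine hG.1 ((Group.isNilpotent_of_finite_tfae (G := G)).out 0 3 rfl rfl |>.mpr
      fun q hq Q => ?_)
    by_cases hqr : q = r
    · subst hqr
      haveI := Sylow.unique_of_normal P hn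
      rwa [Subsingleton.elim Q P]
    · exact hnormal q hq hqr Q
  obtain ⟨q, hq, hqr, hqd, Q, hsup⟩ : ∃ q : ℕ, ∃ _ : Fact q.Prime, q ≠ r ∧ q ∣ Nat.card G ∧
      ∃ Q : Sylow q G, (P : Subgroup G) ⊔ Q = ⊤ := by
    by_contra hall
    push Not at hall
    refine hPn (Subgroup.normalizer_eq_top_iff.mp (eq_top_of_sylow_le _ fun q hq hqd => ?_))
    by_cases hqr : q = r
    · subst hqr
      exact ⟨P, Subgroup.le_normalizer⟩
    obtain ⟨Q⟩ := (inferInstance : Nonempty (Sylow q G))
    refine ⟨Q, (fun y hy => Subgroup.centralizer_le_normalizer _ ?_)⟩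
    rw [Subgroup.mem_centralizer_iff]
    intro x hx
    refine (commute_of_coprime_le (hG.2 _ (hall q hq hqr hqd Q)) (Subgroup.mem_sup_left hx)
      (Subgroup.mem_sup_right hy) ?_).eq
    obtain ⟨i, hi⟩ := P.2 ⟨x, hx⟩
    obtain ⟨j, hj⟩ := Q.2 ⟨y, hy⟩
    exact (((Nat.coprime_primes hr hq.out).mpr (Ne.symm hqr)).pow i j).coprime_dvd_left
      (orderOf_dvd_of_pow_eq_one (congrArg Subtype.val hi)) |>.coprime_dvd_right
      (orderOf_dvd_of_pow_eq_one (congrArg Subtype.val hj))
  have hQn := hnormal q hq hqr Q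
  have hcop : (Nat.card (P : Subgroup G)).Coprime (Nat.card (Q : Subgroup G)) := by
    rw [P.card_eq_multiplicity, Q.card_eq_multiplicity]
    exact ((Nat.coprime_primes hr hq.out).mpr (Ne.symm hqr)).pow _ _
  obtain ⟨x, hxP, hx⟩ : ∃ x ∈ (P : Subgroup G), Subgroup.zpowers x ⊔ (Q : Subgroup G) = ⊤ := by
    by_contra hall
    push Not at hall
    refine hPn (Subgroup.normalizer_eq_top_iff.mp (eq_top_iff.mpr ?_))
    rw [← hsup]
    refine sup_le Subgroup.le_normalizer fun y hy => Subgroup.centralizer_le_normalizer _ ?_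
    rw [Subgroup.mem_centralizer_iff]
    intro z hz
    refine (commute_of_coprime_le (hG.2 _ (hall z hz))
      (Subgroup.mem_sup_left (Subgroup.mem_zpowers z)) (Subgroup.mem_sup_right hy) ?_).eq
    exact (hcop.coprime_dvd_left (Subgroup.orderOf_dvd_natCard _ hz)).coprime_dvd_right
      (Subgroup.orderOf_dvd_natCard _ hy)
  haveI := hQn
  have hcard := card_sup_of_coprime (N := (Q : Subgroup G)) (H := (P : Subgroup G))
    Subgroup.le_normalizer_of_normal hcop.symm
  have hcard' := card_sup_of_coprime (N := (Q : Subgroup G)) (H := Subgroup.zpowers x)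
    Subgroup.le_normalizer_of_normal
    (hcop.symm.coprime_dvd_right (Subgroup.card_dvd_of_le (Subgroup.zpowers_le.mpr hxP)))
  rw [sup_comm, hsup] at hcard
  rw [sup_comm, hx, hcard] at hcard'
  have hPx : Subgroup.zpowers x = (P : Subgroup G) :=
    Subgroup.eq_of_le_of_card_ge (Subgroup.zpowers_le.mpr hxP)
      (Nat.eq_of_mul_eq_mul_left Nat.card_pos hcard').le
  refine ⟨r, q, hr, hq.out, Ne.symm hqr, P, Q, ?_, hQn, hPn, hsup⟩
  exact (Subgroup.isCyclic_iff_exists_zpowers_eq_top _).mpr ⟨x, hPx⟩

end Cfsg.Agent.Basics
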