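import Mathlib

/-!
Itô: a product of two abelian subgroups is metabelian.
-/

set_option autoImplicit false

namespace Cfsg.Agent.Basics

open scoped commutatorElement

variable {G : Type*} [Group G] (A B : Subgroup G) [IsMulCommutative A] [IsMulCommutative B]

theorem comm_of_mem {H : Subgroup G} [IsMulCommutative H] {a b : G} (ha : a ∈ H) (hb : b ∈ H) :
    Commute a b :=
  congrArg Subtype.val ((inferInstance : IsMulCommutative H).is_comm.comm ⟨a, ha⟩ ⟨b, hb⟩)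

theorem prod_symm (hAB : ∀ g : G, ∃ a ∈ A, ∃ b ∈ B, g = a * b) (g : G) :
    ∃ b ∈ B, ∃ a ∈ A, g = b * a := by
  obtain ⟨a, ha, b, hb, h⟩ := hAB g⁻¹
  exact ⟨b⁻¹, inv_mem hb, a⁻¹, inv_mem ha, by rw [← mul_inv_rev, ← h, inv_inv]⟩

/-- the set of commutators `⁅a, b⁆` -/
def itoSet : Set G := {x : G | ∃ a ∈ A, ∃ b ∈ B, x = ⁅a, b⁆}

variable {A B}

theorem conj_left_comm (hAB : ∀ g : G, ∃ a ∈ A, ∃ b ∈ B, g = a * b) {a1 : G} (ha1 : a1 ∈ A)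
    {b : G} (hb : b ∈ B) :
    ∃ b3 ∈ B, ∀ a ∈ A, a1 * ⁅a, b⁆ * a1⁻¹ = ⁅a, b3⁆ := by
  obtain ⟨b3, hb3, a3, ha3, h⟩ := prod_symm A B hAB (a1 * b * a1⁻¹)
  refine ⟨b3, hb3, fun a ha => ?_⟩
  have e1 : a1 * a * a1⁻¹ = a := by rw [(comm_of_mem ha1 ha).eq, mul_inv_cancel_right]
  calc a1 * ⁅a, b⁆ * a1⁻¹ = ⁅a1 * a * a1⁻¹, a1 * b * a1⁻¹⁆ := by
        simp only [commutatorElement_def]; group
    _ = ⁅a, b3 * a3⁆ := by rw [e1, h]
    _ = ⁅a, b3⁆ := by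
        simp only [commutatorElement_def, mul_inv_rev]
        calc a * (b3 * a3) * a⁻¹ * (a3⁻¹ * b3⁻¹) = a * b3 * (a3 * a⁻¹) * a3⁻¹ * b3⁻¹ := by group
          _ = a * b3 * (a⁻¹ * a3) * a3⁻¹ * b3⁻¹ := by
              rw [(comm_of_mem ha3 (inv_mem ha)).eq]
          _ = a * b3 * a⁻¹ * b3⁻¹ := by group

theorem conj_right_comm (hAB : ∀ g : G, ∃ a ∈ A, ∃ b ∈ B, g = a * b) {b1 : G} (hb1 : b1 ∈ B)
    {a : G} (ha : a ∈ A) :
    ∃ a2 ∈ A, ∀ b ∈ B, b1 * ⁅a, b⁆ * b1⁻¹ = ⁅a2, b⁆ := by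
  obtain ⟨a2, ha2, b2, hb2, h⟩ := hAB (b1 * a * b1⁻¹)
  refine ⟨a2, ha2, fun b hb => ?_⟩
  have e1 : b1 * b * b1⁻¹ = b := by rw [(comm_of_mem hb1 hb).eq, mul_inv_cancel_right]
  calc b1 * ⁅a, b⁆ * b1⁻¹ = ⁅b1 * a * b1⁻¹, b1 * b * b1⁻¹⁆ := by
        simp only [commutatorElement_def]; group
    _ = ⁅a2 * b2, b⁆ := by rw [e1, h]
    _ = ⁅a2, b⁆ := by
        simp only [commutatorElement_def, mul_inv_rev]
        calc a2 * b2 * b * (b2⁻¹ * a2⁻¹) * b⁻¹ = a2 * (b2 * b) * b2⁻¹ * a2⁻¹ * b⁻¹ := by group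
          _ = a2 * (b * b2) * b2⁻¹ * a2⁻¹ * b⁻¹ := by rw [(comm_of_mem hb2 hb).eq]
          _ = a2 * b * a2⁻¹ * b⁻¹ := by group

theorem itoSet_commute (hAB : ∀ g : G, ∃ a ∈ A, ∃ b ∈ B, g = a * b) {x y : G}
    (hx : x ∈ itoSet A B) (hy : y ∈ itoSet A B) : Commute x y := by
  obtain ⟨a, ha, b, hb, rfl⟩ := hx
  obtain ⟨c, hc, d, hd, rfl⟩ := hy
  obtain ⟨b3, hb3, hl⟩ := conj_left_comm hAB (inv_mem hc) hb
  obtain ⟨a2, ha2, hr⟩ := conj_right_comm hAB (inv_mem hd) ha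
  have key : c⁻¹ * d⁻¹ * ⁅a, b⁆ * d * c = d⁻¹ * c⁻¹ * ⁅a, b⁆ * c * d := by
    have e1 := hr b hb
    have e2 := hl a2 ha2
    have e3 := hl a ha
    have e4 := hr b3 hb3
    rw [inv_inv] at e1 e2 e3 e4
    calc c⁻¹ * d⁻¹ * ⁅a, b⁆ * d * c = c⁻¹ * (d⁻¹ * ⁅a, b⁆ * d) * c := by group
      _ = ⁅a2, b3⁆ := by rw [e1, e2]
      _ = d⁻¹ * (c⁻¹ * ⁅a, b⁆ * c) * d := by rw [e3, e4]
      _ = d⁻¹ * c⁻¹ * ⁅a, b⁆ * c * d := by group
  show ⁅a, b⁆ * ⁅c, d⁆ = ⁅c, d⁆ * ⁅a, b⁆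
  calc ⁅a, b⁆ * ⁅c, d⁆ = c * d * (d⁻¹ * c⁻¹ * ⁅a, b⁆ * c * d) * (c⁻¹ * d⁻¹) := by
        simp only [commutatorElement_def]; group
    _ = c * d * (c⁻¹ * d⁻¹ * ⁅a, b⁆ * d * c) * (c⁻¹ * d⁻¹) := by rw [key]
    _ = ⁅c, d⁆ * ⁅a, b⁆ := by simp only [commutatorElement_def]; group

/-- The abelian normal subgroup `[A, B]` with abelian quotient. -/
theorem ito_core (hAB : ∀ g : G, ∃ a ∈ A, ∃ b ∈ B, g = a * b) :
    ∃ K : Subgroup G, K.Normal ∧ IsMulCommutative K ∧ ∀ x y : G, ⁅x, y⁆ ∈ K := by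
  set K := Subgroup.closure (itoSet A B) with hK
  have hsub : itoSet A B ⊆ (K : Set G) := Subgroup.subset_closure
  have gen : ∀ g : G, (∀ s ∈ itoSet A B, g * s * g⁻¹ ∈ K) → ∀ k ∈ K, g * k * g⁻¹ ∈ K := by
    intro g hg k hk
    have h1 : K ≤ K.comap (MulAut.conj g).toMonoidHom := (Subgroup.closure_le _).mpr hg
    exact h1 hk
  have hn : K.Normal := ⟨fun k hk g => by
    obtain ⟨a1, ha1, b1, hb1, rfl⟩ := hAB g
    have h1 : b1 * k * b1⁻¹ ∈ K := by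
      refine gen b1 ?_ k hk
      rintro _ ⟨a, ha, b, hb, rfl⟩
      obtain ⟨a2, ha2, h⟩ := conj_right_comm hAB hb1 ha
      exact hsub ⟨a2, ha2, b, hb, h b hb⟩
    have h2 : a1 * (b1 * k * b1⁻¹) * a1⁻¹ ∈ K := by
      refine gen a1 ?_ _ h1
      rintro _ ⟨a, ha, b, hb, rfl⟩
      obtain ⟨b3, hb3, h⟩ := conj_left_comm hAB ha1 hb
      exact hsub ⟨a, ha, b3, hb3, h a ha⟩
    have e : a1 * (b1 * k * b1⁻¹) * a1⁻¹ = a1 * b1 * k * (a1 * b1)⁻¹ := by group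
    rwa [e] at h2⟩
  refine ⟨K, hn, Subgroup.isMulCommutative_closure fun x hx y hy => itoSet_commute hAB hx hy, ?_⟩
  haveI := hn
  let π := QuotientGroup.mk' K
  have hc : ∀ a ∈ A, ∀ b ∈ B, π a * π b = π b * π a := by
    intro a ha b hb
    rw [← commutatorElement_eq_one_iff_mul_comm, ← map_commutatorElement]
    exact (QuotientGroup.eq_one_iff _).mpr (hsub ⟨a, ha, b, hb, rfl⟩)
  intro x y
  obtain ⟨a, ha, b, hb, rfl⟩ := hAB x
  obtain ⟨c, hc', d, hd, rfl⟩ := hAB y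
  rw [← QuotientGroup.eq_one_iff (N := K)]
  show π ⁅a * b, c * d⁆ = 1
  rw [map_commutatorElement, commutatorElement_eq_one_iff_mul_comm]
  simp only [map_mul]
  have eac : π a * π c = π c * π a := by rw [← map_mul, ← map_mul, (comm_of_mem ha hc').eq]
  have ebd : π b * π d = π d * π b := by rw [← map_mul, ← map_mul, (comm_of_mem hb hd).eq]
  calc π a * π b * (π c * π d) = π a * (π b * π c) * π d := by group
    _ = π a * (π c * π b) * π d := by rw [← hc c hc' b hb]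
    _ = (π a * π c) * (π b * π d) := by group
    _ = (π c * π a) * (π d * π b) := by rw [eac, ebd]
    _ = π c * (π a * π d) * π b := by group
    _ = π c * (π d * π a) * π b := by rw [hc a ha d hd]
    _ = π c * π d * (π a * π b) := by group

theorem ito (hAB : ∀ g : G, ∃ a ∈ A, ∃ b ∈ B, g = a * b) : derivedSeries G 2 = ⊥ := by
  obtain ⟨K, hn, hc, hcomm⟩ := ito_core hAB
  have h1 : derivedSeries G 1 ≤ K := by
    rw [derivedSeries_succ, derivedSeries_zero, Subgroup.commutator_le]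
    exact fun x _ y _ => hcomm x y
  rw [eq_bot_iff, derivedSeries_succ]
  refine (Subgroup.commutator_mono h1 h1).trans ?_
  rw [Subgroup.commutator_le]
  intro x hx y hy
  rw [Subgroup.mem_bot, commutatorElement_eq_one_iff_mul_comm]
  exact (comm_of_mem hx hy).eq

end Cfsg.Agent.Basics
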