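import Cfsg.Agent.Lib.Basics.KegelWielandt
import Cfsg.Agent.Lib.Basics.Ito
import Mathlib

/-!
Products of an abelian subgroup and a subgroup of nilpotency class two.
-/

set_option autoImplicit false
set_option linter.unusedSectionVars false
set_option linter.style.haveILetI false

open scoped Pointwise commutatorElement

namespace Cfsg.Agent.Basics.KW

open Subgroup

universe u

variable {G : Type u} [Group G]

/-- The derived subgroup of `B` is central in `B`. -/
def ClassTwo (B : Subgroup G) : Prop := B ≤ centralizer (⁅B, B⁆ : Subgroup G)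

theorem ClassTwo.map {G' : Type*} [Group G'] {B : Subgroup G} (h : ClassTwo B) (f : G →* G') :
    ClassTwo (B.map f) := by
  rintro _ ⟨b, hb, rfl⟩
  rw [mem_centralizer_iff, ← map_commutator]
  rintro _ ⟨z, hz, rfl⟩
  rw [← map_mul, ← map_mul, mem_centralizer_iff.mp (h hb) z hz]

theorem ClassTwo.of_le {B C : Subgroup G} (h : ClassTwo B) (hC : C ≤ B) : ClassTwo C := fun _ hc =>
  mem_centralizer_iff.mpr fun z hz => mem_centralizer_iff.mp (h (hC hc)) z (commutator_mono hC hC hz)

theorem ClassTwo.subgroupOf {B H : Subgroup G} (h : ClassTwo B) (hle : B ≤ H) :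
    ClassTwo (B.subgroupOf H) := by
  intro b hb
  rw [mem_centralizer_iff]
  intro z hz
  have hz' : (z : G) ∈ ⁅B, B⁆ := by
    have := mem_map_of_mem H.subtype hz
    rwa [map_commutator, map_subgroupOf_eq_of_le hle] at this
  exact Subtype.ext (mem_centralizer_iff.mp (h hb) z hz')

theorem isMulCommutative_map {G' : Type*} [Group G'] (f : G →* G') (A : Subgroup G) [IsMulCommutative A] :
    IsMulCommutative (A.map f) :=
  ⟨⟨fun ⟨_, a, ha, rfl⟩ ⟨_, b, hb, rfl⟩ => Subtype.ext (by
    show f a * f b = f b * f a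
    rw [← map_mul, ← map_mul, (comm_of_mem ha hb).eq])⟩⟩

theorem claim_step {n : ℕ} [Finite G]
    (IH : ∀ (H : Type u) [Group H] [Finite H], Nat.card H < n → ∀ (A B : Subgroup H) [IsMulCommutative A],
      ClassTwo B → Prod ⊤ A B → A ⊔ normalClosure ((⁅B, B⁆ : Subgroup H) : Set H) = ⊤ → ⁅B, B⁆ = ⊥)
    (hn : Nat.card G ≤ n) (A B : Subgroup G) [IsMulCommutative A] (hB : ClassTwo B) (hAB : Prod ⊤ A B)
    (htop : A ⊔ normalClosure ((⁅B, B⁆ : Subgroup G) : Set G) = ⊤) : ⁅B, B⁆ = ⊥ := by
  by_contra hne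
  haveI : Group.IsSolvable G := isSolvable_of_product A B (isNilpotent_of_commutator_le (M := A) (D := ⊥)
      (commutator_self_eq_bot_iff.mpr inferInstance).le fun a _ => mem_centralizer_iff.mpr fun x hx => by
        rw [mem_bot.mp hx, one_mul, mul_one])
    (isNilpotent_of_commutator_le le_rfl hB) fun g => hAB g (mem_top g)
  haveI : Nontrivial G := by
    by_contra h
    haveI := not_nontrivial_iff_subsingleton.mp h
    exact hne (Subsingleton.elim _ _)
  obtain ⟨M, hMn, -, hMne, hmin⟩ := exists_minimal_normal (N := (⊤ : Subgroup G)) top_ne_bot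
  haveI := hMn
  obtain ⟨hMab, -⟩ := minimal_normal_solvable hMne inferInstance hmin
  set π := QuotientGroup.mk' M with hπ
  have hπs : Function.Surjective π := QuotientGroup.mk'_surjective M
  haveI := isMulCommutative_map π A
  have hq := IH (G ⧸ M) (lt_of_lt_of_le (card_quotient_lt hMne) hn) (A.map π) (B.map π) (hB.map π)
    (fun g _ => by
      obtain ⟨g, rfl⟩ := hπs g
      obtain ⟨a, ha, b, hb, rfl⟩ := hAB g (mem_top g)
      exact ⟨_, mem_map_of_mem _ ha, _, mem_map_of_mem _ hb, map_mul _ a b⟩)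
    (by rw [← map_commutator, coe_map, ← map_normalClosure _ _ hπs, ← Subgroup.map_sup, htop,
      map_top_of_surjective _ hπs])
  rw [← map_commutator, Subgroup.map_eq_bot_iff, hπ, QuotientGroup.ker_mk'] at hq
  have hAM : A ⊔ M = ⊤ := top_le_iff.mp (htop.ge.trans (sup_le_sup_left (normalClosure_le_normal hq) _))
  obtain ⟨z, hz, hz1⟩ : ∃ z ∈ (⁅B, B⁆ : Subgroup G), z ≠ 1 := by
    by_contra h
    push Not at h
    exact hne ((eq_bot_iff_forall _).mpr h)
  have hA : ∀ b ∈ B, ∃ a ∈ A, ∃ m ∈ M, b = a * m ∧ ∀ x ∈ M, x * a = a * x := by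
    intro b hb
    have hb' : b ∈ A ⊔ M := by rw [hAM]; exact mem_top b
    rw [mem_sup_of_normal_right] at hb'
    obtain ⟨a, ha, m, hm, rfl⟩ := hb'
    refine ⟨a, ha, m, hm, rfl, ?_⟩
    haveI hF : (M ⊓ centralizer ({a} : Set G)).Normal := by
      refine normalizer_eq_top_iff.mp (top_le_iff.mp (hAM.ge.trans (sup_le (fun c hc => ?_) fun c hc => ?_)))
      · refine conj_smul_eq_self_iff.mp (eq_of_le_of_card_ge ?_ (card_conj_smul c _).ge)
        rintro _ ⟨y, hy, rfl⟩
        refine ⟨hMn.conj_mem y hy.1 c, mem_centralizer_singleton_iff.mpr ?_⟩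
        show c * y * c⁻¹ * a = a * (c * y * c⁻¹)
        have h1 := mem_centralizer_singleton_iff.mp hy.2
        have h2 : Commute c a := comm_of_mem hc ha
        exact ((h2.mul_left (h1 : Commute y a)).mul_left h2.inv_left).eq
      · refine conj_smul_eq_self_iff.mp (eq_of_le_of_card_ge ?_ (card_conj_smul c _).ge)
        rintro _ ⟨y, hy, rfl⟩
        show c * y * c⁻¹ ∈ _
        rw [(comm_of_mem hc hy.1).eq, mul_inv_cancel_right]
        exact hy
    have hza : z * a = a * z := by
      have h1 : z * (a * m) = a * m * z := mem_centralizer_iff.mp (hB hb) z hz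
      have h2 : Commute m z := comm_of_mem hm (hq hz)
      apply mul_right_cancel (b := m)
      rw [mul_assoc z a m, h1, mul_assoc a m z, h2.eq, mul_assoc]
    rcases hmin _ hF inf_le_left with h | h
    · exfalso
      have : z ∈ M ⊓ centralizer ({a} : Set G) := ⟨hq hz, mem_centralizer_singleton_iff.mpr hza⟩
      rw [h, mem_bot] at this
      exact hz1 this
    · exact fun x hx => mem_centralizer_singleton_iff.mp (h.ge hx).2
  refine hne (eq_bot_iff.mpr (commutator_le.mpr fun b hb c hc => ?_))
  obtain ⟨a, ha, m, hm, rfl, hca⟩ := hA b hb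
  obtain ⟨a', ha', m', hm', rfl, hca'⟩ := hA c hc
  rw [mem_bot, commutatorElement_eq_one_iff_mul_comm]
  have c1 : Commute a (a' * m') := (comm_of_mem ha ha').mul_right (Commute.symm (hca m' hm' : Commute m' a))
  have h2 : Commute m a' := hca' m hm
  have c2 : Commute m (a' * m') := h2.mul_right (comm_of_mem hm hm')
  exact (c1.mul_left c2).eq

theorem claim : ∀ (n : ℕ) (G : Type u) [Group G] [Finite G], Nat.card G < n →
    ∀ (A B : Subgroup G) [IsMulCommutative A],
      ClassTwo B → Prod ⊤ A B → A ⊔ normalClosure ((⁅B, B⁆ : Subgroup G) : Set G) = ⊤ → ⁅B, B⁆ = ⊥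
  | 0 => fun _ _ _ h => absurd h (Nat.not_lt_zero _)
  | n + 1 => fun _ _ _ h A B _ hB hAB ht =>
    claim_step (fun H _ _ => claim n H) (Nat.lt_succ_iff.mp h) A B hB hAB ht

theorem derivedSeries_add_le {H : Subgroup G} {i : ℕ} (h : derivedSeries G i ≤ H) (k : ℕ) :
    derivedSeries G (i + k) ≤ (derivedSeries H k).map H.subtype := by
  induction k with
  | zero =>
    rw [Nat.add_zero, derivedSeries_zero, ← MonoidHom.range_eq_map, Subgroup.range_subtype]
    exact h
  | succ k ih =>
    rw [← Nat.add_assoc, derivedSeries_succ, derivedSeries_succ, map_commutator]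
    exact commutator_mono ih ih

theorem dl_le : ∀ (n : ℕ) (G : Type u) [Group G] [Finite G] (A B : Subgroup G) [IsMulCommutative A],
    ClassTwo B → Prod ⊤ A B → (Nat.card (⁅B, B⁆ : Subgroup G)).primeFactorsList.length ≤ n →
    derivedSeries G (2 * (1 + n)) = ⊥ := by
  intro n
  induction n with
  | zero =>
    intro G _ _ A B _ _ hAB hn
    have h1 : Nat.card (⁅B, B⁆ : Subgroup G) = 1 := by
      have := Nat.prod_primeFactorsList (Nat.card_pos (α := (⁅B, B⁆ : Subgroup G))).ne'
      rw [List.eq_nil_of_length_eq_zero (Nat.le_zero.mp hn), List.prod_nil] at this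
      exact this.symm
    haveI : IsMulCommutative B := commutator_self_eq_bot_iff.mp (card_eq_one.mp h1)
    exact ito fun g => hAB g (mem_top g)
  | succ n ih =>
    intro G _ _ A B _ hB hAB hn
    by_cases hbot : ⁅B, B⁆ = ⊥
    · haveI : IsMulCommutative B := commutator_self_eq_bot_iff.mp hbot
      exact eq_bot_iff.mpr ((derivedSeries_antitone G (by omega : 2 ≤ 2 * (1 + (n + 1)))).trans
        (ito fun g => hAB g (mem_top g)).le)
    set N := normalClosure ((⁅B, B⁆ : Subgroup G) : Set G) with hN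
    set H := A ⊔ N with hH
    set B1 := B ⊓ H with hB1
    have hAH : A ≤ H := le_sup_left
    have hB1H : B1 ≤ H := inf_le_right
    haveI : IsMulCommutative (A.subgroupOf H) :=
      ⟨⟨fun x y => Subtype.ext (Subtype.ext (comm_of_mem (H := A) x.2 y.2).eq)⟩⟩
    have hp : Prod ⊤ (A.subgroupOf H) (B1.subgroupOf H) := by
      intro g _
      obtain ⟨a, ha, b, hb, e⟩ := hAB (g : G) (mem_top _)
      have hbH : b ∈ H := by
        have := mul_mem (inv_mem (hAH ha)) g.2
        rwa [e, inv_mul_cancel_left] at this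
      exact ⟨⟨a, hAH ha⟩, ha, ⟨b, hbH⟩, ⟨hb, hbH⟩, Subtype.ext e⟩
    have hc : ClassTwo (B1.subgroupOf H) := (hB.of_le inf_le_left).subgroupOf hB1H
    have hmap : (⁅B1.subgroupOf H, B1.subgroupOf H⁆).map H.subtype = ⁅B1, B1⁆ := by
      rw [map_commutator, map_subgroupOf_eq_of_le hB1H]
    have hlt : ⁅B1, B1⁆ < ⁅B, B⁆ := by
      refine lt_of_le_of_ne (commutator_mono inf_le_left inf_le_left) fun e => hbot ?_
      have h0 : A.subgroupOf H ⊔ normalClosure ((⁅B1.subgroupOf H, B1.subgroupOf H⁆ : Subgroup H) : Set H) = ⊤ := by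
        apply map_injective H.subtype_injective
        rw [← MonoidHom.range_eq_map, Subgroup.range_subtype]
        refine le_antisymm (map_subtype_le _) (sup_le ?_ ?_)
        · intro a ha
          exact ⟨⟨a, hAH ha⟩, mem_sup_left ha, rfl⟩
        · rw [hN, normalClosure, closure_le]
          intro y hy
          obtain ⟨z, hz, hzy⟩ := Group.mem_conjugatesOfSet_iff.mp hy
          obtain ⟨g, hg⟩ := isConj_iff.mp hzy
          obtain ⟨a, ha, b, hb, rfl⟩ := hAB g (mem_top g)
          have hbz : b * z * b⁻¹ = z := by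
            rw [← mem_centralizer_iff.mp (hB hb) z hz, mul_inv_cancel_right]
          rw [show a * b * z * (a * b)⁻¹ = a * (b * z * b⁻¹) * a⁻¹ by group, hbz] at hg
          rw [SetLike.mem_coe, ← e, ← hmap] at hz
          obtain ⟨z', hz', rfl⟩ := hz
          refine ⟨⟨a, hAH ha⟩ * z' * ⟨a, hAH ha⟩⁻¹, mem_sup_right
            (normalClosure_normal.conj_mem _ (subset_normalClosure hz') _), ?_⟩
          rw [← hg]; rfl
      rw [← e, ← hmap, claim _ H (Nat.lt_succ_self _) _ _ hc hp h0, Subgroup.map_bot]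
    have hlen : (Nat.card (⁅B1.subgroupOf H, B1.subgroupOf H⁆ : Subgroup H)).primeFactorsList.length ≤ n := by
      rw [← card_map_of_injective H.subtype_injective, hmap]
      have hs := Nat.primeFactorsList_sublist_of_dvd (card_dvd_of_le hlt.le) Nat.card_pos.ne'
      have h2 : (Nat.card (⁅B1, B1⁆ : Subgroup G)).primeFactorsList.length <
          (Nat.card (⁅B, B⁆ : Subgroup G)).primeFactorsList.length := by
        refine lt_of_le_of_ne hs.length_le fun e => (card_lt_of_lt hlt).ne ?_
        rw [← Nat.prod_primeFactorsList (Nat.card_pos (α := (⁅B1, B1⁆ : Subgroup G))).ne',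
          hs.eq_of_length e, Nat.prod_primeFactorsList Nat.card_pos.ne']
      omega
    have hH0 := ih H (A.subgroupOf H) (B1.subgroupOf H) hc hp hlen
    have hN2 : derivedSeries G 2 ≤ H := by
      refine le_trans ?_ (le_sup_right : N ≤ H)
      set π := QuotientGroup.mk' N
      haveI := isMulCommutative_map π A
      haveI : IsMulCommutative (B.map π) := by
        rw [← commutator_self_eq_bot_iff, ← map_commutator, Subgroup.map_eq_bot_iff, QuotientGroup.ker_mk']
        exact le_normalClosure
      have h1 := map_derivedSeries_le_derivedSeries π 2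
      rw [ito (A := A.map π) (B := B.map π) (fun g => by
        obtain ⟨g, rfl⟩ := QuotientGroup.mk'_surjective N g
        obtain ⟨a, ha, b, hb, rfl⟩ := hAB g (mem_top g)
        exact ⟨_, mem_map_of_mem _ ha, _, mem_map_of_mem _ hb, map_mul _ a b⟩), le_bot_iff,
        Subgroup.map_eq_bot_iff, QuotientGroup.ker_mk'] at h1
      exact h1
    rw [show 2 * (1 + (n + 1)) = 2 + 2 * (1 + n) by ring, eq_bot_iff]
    refine (derivedSeries_add_le hN2 _).trans ?_
    rw [hH0, Subgroup.map_bot]

end Cfsg.Agent.Basics.KW
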