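import Cfsg.Agent.Lib.Basics.SchurZassenhaus
import Mathlib.Data.Nat.Factorization.Basic

/-!
Hall's theorems for finite solvable groups.
-/

set_option autoImplicit false
set_option linter.style.haveILetI false
set_option linter.unusedSectionVars false

open scoped Pointwise

namespace Cfsg.Agent.Basics

universe u

/-- The index of the image, when the subgroup contains the kernel or not. -/
theorem card_map_mk'_mul {G : Type*} [Group G] [Finite G] (N : Subgroup G) [N.Normal]
    (H : Subgroup G) :
    Nat.card (H.map (QuotientGroup.mk' N)) * Nat.card (H ⊓ N : Subgroup G) = Nat.card H := by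
  simpa using card_map_mul_card_inf_ker (QuotientGroup.mk' N) H

private theorem card_comap_quot {G : Type*} [Group G] [Finite G] {N : Subgroup G} [N.Normal]
    (K : Subgroup (G ⧸ N)) :
    Nat.card (K.comap (QuotientGroup.mk' N)) = Nat.card N * Nat.card K := by
  refine (QuotientGroup.card_preimage_mk N (K : Set (G ⧸ N))).trans ?_
  rfl

private theorem card_quot {G : Type*} [Group G] [Finite G] (N : Subgroup G) [N.Normal] :
    Nat.card (G ⧸ N) * Nat.card N = Nat.card G :=
  (N.card_eq_card_quotient_mul_card_subgroup).symm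

private theorem coprime_of_dvd_prime_pow {p m : ℕ} (hp : p.Prime) (hpm : ¬ p ∣ m) {a : ℕ} :
    (p ^ a).Coprime m :=
  ((hp.coprime_iff_not_dvd.mpr hpm)).pow_left a

private theorem hall_exists_aux : ∀ (k : ℕ) (G : Type u) [Group G] [Finite G]
    [Group.IsSolvable G] (m n : ℕ), Nat.card G ≤ k → Nat.card G = m * n → m.Coprime n →
    ∃ H : Subgroup G, Nat.card H = m := by
  intro k
  induction k with
  | zero =>
    intro G _ _ _ m n hk
    exact absurd hk (Nat.not_le.mpr Nat.card_pos)
  | succ k ih =>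
    intro G _ _ _ m n hk hG hmn
    rcases subsingleton_or_nontrivial G with hs | hnt
    · refine ⟨⊥, ?_⟩
      rw [Nat.card_unique] at hG
      rw [Subgroup.card_bot, Nat.eq_one_of_mul_eq_one_right hG.symm]
    obtain ⟨p, N, hp, hNn, hN, hNp⟩ := exists_normal_pGroup (G := G)
    haveI : Fact p.Prime := ⟨hp⟩
    haveI := hNn
    obtain ⟨a, ha⟩ := IsPGroup.iff_card.mp hNp
    have hlt : Nat.card (G ⧸ N) ≤ k := Nat.lt_succ_iff.mp ((card_quotient_lt hN).trans_le hk)
    have hq := card_quot N
    have hpm_or : p ^ a ∣ m ∨ (p ^ a).Coprime m := by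
      by_cases hpm : p ∣ m
      · left
        refine Nat.Coprime.dvd_of_dvd_mul_right ?_ (ha ▸ hG ▸ Subgroup.card_subgroup_dvd_card N)
        exact coprime_of_dvd_prime_pow hp fun h => hp.not_dvd_one (hmn ▸ Nat.dvd_gcd hpm h)
      · exact Or.inr (coprime_of_dvd_prime_pow hp hpm)
    rcases hpm_or with ⟨m', rfl⟩ | hcop
    · have hG' : Nat.card (G ⧸ N) = m' * n := by
        apply Nat.eq_of_mul_eq_mul_right (Nat.card_pos (α := N))
        rw [hq, hG, ha]; ring
      obtain ⟨H, hH⟩ := ih (G ⧸ N) m' n hlt hG' (Nat.Coprime.coprime_mul_left hmn)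
      refine ⟨H.comap (QuotientGroup.mk' N), ?_⟩
      rw [card_comap_quot, ha, hH]
    · obtain ⟨n', rfl⟩ : p ^ a ∣ n :=
        hcop.dvd_of_dvd_mul_left (ha ▸ hG ▸ Subgroup.card_subgroup_dvd_card N)
      have hG' : Nat.card (G ⧸ N) = m * n' := by
        apply Nat.eq_of_mul_eq_mul_right (Nat.card_pos (α := N))
        rw [hq, hG, ha]; ring
      obtain ⟨H, hH⟩ := ih (G ⧸ N) m n' hlt hG' (Nat.Coprime.coprime_mul_left_right hmn)
      set M := H.comap (QuotientGroup.mk' N) with hM
      have hMcard : Nat.card M = p ^ a * m := by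
        rw [hM, card_comap_quot, ha, hH]
      have hNM : N ≤ M := fun x hx => by
        simp [hM, Subgroup.mem_comap, (QuotientGroup.eq_one_iff x).mpr hx, one_mem]
      have hidx : (N.subgroupOf M).index = m := by
        have h := (N.subgroupOf M).card_mul_index
        rw [card_subgroupOf hNM, ha, hMcard] at h
        exact Nat.eq_of_mul_eq_mul_left (pow_pos hp.pos a) h
      obtain ⟨B, hB⟩ := Subgroup.exists_right_complement'_of_coprime (N := N.subgroupOf M) (by
        rw [hidx, card_subgroupOf hNM, ha]; exact hcop)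
      refine ⟨B.map M.subtype, ?_⟩
      rw [Subgroup.card_map_of_injective M.subtype_injective, ← hidx, hB.symm.index_eq_card]

theorem exists_hall_of_card {G : Type u} [Group G] [Finite G] [Group.IsSolvable G] {m n : ℕ}
    (hG : Nat.card G = m * n) (hmn : m.Coprime n) : ∃ H : Subgroup G, Nat.card H = m :=
  hall_exists_aux _ G m n le_rfl hG hmn

private theorem hall_conj_aux : ∀ (k : ℕ) (G : Type u) [Group G] [Finite G]
    [Group.IsSolvable G] (H K : Subgroup G), Nat.card G ≤ k →
    (Nat.card H).Coprime H.index → (Nat.card K).Coprime H.index →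
    ∃ g : G, K ≤ MulAut.conj g • H := by
  intro k
  induction k with
  | zero =>
    intro G _ _ _ H K hk
    exact absurd hk (Nat.not_le.mpr Nat.card_pos)
  | succ k ih =>
    intro G _ _ _ H K hk hH hK
    rcases subsingleton_or_nontrivial G with hs | hnt
    · refine ⟨1, fun x _ => ?_⟩
      rw [Subsingleton.elim x 1]; exact one_mem _
    obtain ⟨p, N, hp, hNn, hN, hNp⟩ := exists_normal_pGroup (G := G)
    haveI : Fact p.Prime := ⟨hp⟩
    haveI := hNn
    obtain ⟨a, ha⟩ := IsPGroup.iff_card.mp hNp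
    have hlt : Nat.card (G ⧸ N) ≤ k := Nat.lt_succ_iff.mp ((card_quotient_lt hN).trans_le hk)
    set π := QuotientGroup.mk' N with hπ
    have hidx : (H.map π).index ∣ H.index :=
      Subgroup.index_map_dvd H (QuotientGroup.mk'_surjective N)
    obtain ⟨x, hx⟩ := ih (G ⧸ N) (H.map π) (K.map π) hlt
      (Nat.Coprime.of_dvd (Subgroup.card_map_dvd H π) hidx hH)
      (Nat.Coprime.of_dvd (Subgroup.card_map_dvd K π) hidx hK)
    obtain ⟨g, rfl⟩ := QuotientGroup.mk'_surjective N x
    rw [← map_conj_smul, Subgroup.map_le_iff_le_comap, Subgroup.comap_map_eq,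
      QuotientGroup.ker_mk'] at hx
    by_cases hNH : N ≤ H
    · refine ⟨g, hx.trans (sup_le le_rfl ?_)⟩
      rw [← Subgroup.Normal.conj_smul_eq_self g N]
      exact Subgroup.pointwise_smul_le_pointwise_smul_iff.mpr hNH
    have hpH : p ∣ H.index := by
      by_contra hpi
      apply hNH
      have hNnorm : H ≤ Subgroup.normalizer (N : Set G) := Subgroup.le_normalizer_of_normal
      have h1 := card_mul_card_eq_card_sup_mul_card_inf hNnorm
      have hd : Nat.card (N ⊔ H : Subgroup G) ∣ Nat.card H * H.index := by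
        rw [H.card_mul_index]; exact Subgroup.card_subgroup_dvd_card _
      have hc : (Nat.card (N ⊔ H : Subgroup G)).Coprime H.index :=
        Nat.Coprime.coprime_dvd_left (Dvd.intro _ h1.symm)
          (Nat.Coprime.mul_left (ha ▸ (coprime_of_dvd_prime_pow hp hpi)) hH)
      have h2 := Nat.le_of_dvd Nat.card_pos (hc.dvd_of_dvd_mul_right hd)
      rw [Subgroup.eq_of_le_of_card_ge (le_sup_right : H ≤ N ⊔ H) h2]
      exact le_sup_left
    have hcH : (Nat.card N).Coprime (Nat.card H) := by
      rw [ha]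
      exact coprime_of_dvd_prime_pow hp fun h => hp.not_dvd_one (hH ▸ Nat.dvd_gcd h hpH)
    have hcK : (Nat.card N).Coprime (Nat.card K) := by
      rw [ha]
      exact coprime_of_dvd_prime_pow hp fun h => hp.not_dvd_one (hK ▸ Nat.dvd_gcd h hpH)
    set K' := MulAut.conj g⁻¹ • K with hK'
    have hK'le : K' ≤ N ⊔ H := by
      have h1 := Subgroup.pointwise_smul_le_pointwise_smul_iff (a := MulAut.conj g⁻¹) |>.mpr hx
      rwa [Subgroup.smul_sup, conj_smul_conj_smul, inv_mul_cancel, conj_smul_one,
        Subgroup.Normal.conj_smul_eq_self g⁻¹ N, sup_comm] at h1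
    set H₁ := H ⊓ (N ⊔ K') with hH₁
    have hnorm : ∀ L : Subgroup G, L ≤ Subgroup.normalizer (N : Set G) :=
      fun L => Subgroup.le_normalizer_of_normal
    have hsup : N ⊔ H₁ = N ⊔ K' := by
      refine le_antisymm (sup_le le_sup_left inf_le_right) (sup_le le_sup_left fun y hy => ?_)
      obtain ⟨b, hb, c, hc, rfl⟩ := (mem_sup_of_le_normalizer (hnorm H)).mp (hK'le hy)
      refine mul_mem (Subgroup.mem_sup_left hb) (Subgroup.mem_sup_right ⟨hc, ?_⟩)
      exact (Subgroup.mul_mem_cancel_left _ (Subgroup.mem_sup_left (T := K') hb)).mp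
        (Subgroup.mem_sup_right hy)
    have hcK' : (Nat.card N).Coprime (Nat.card K') := by rwa [hK', card_conj_smul]
    have hcH₁ : (Nat.card N).Coprime (Nat.card H₁) :=
      hcH.coprime_dvd_right (Subgroup.card_dvd_of_le inf_le_left)
    have hcard : Nat.card K' = Nat.card H₁ := by
      have h1 := card_sup_of_coprime (hnorm H₁) hcH₁
      rw [hsup, card_sup_of_coprime (hnorm K') hcK'] at h1
      exact Nat.eq_of_mul_eq_mul_left Nat.card_pos h1
    obtain ⟨b, hb, hbe⟩ := exists_conj_eq_of_coprime N H₁ K' (hnorm H₁) hcH₁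
      (hsup ▸ le_sup_right) hcard (Or.inl inferInstance)
    refine ⟨g * b, ?_⟩
    rw [← conj_smul_conj_smul, Subgroup.subset_pointwise_smul_iff, ← map_inv, ← hK', ← hbe]
    exact Subgroup.pointwise_smul_le_pointwise_smul_iff.mpr inf_le_left

/-- Hall containment: a subgroup of order prime to the index of a Hall subgroup `H` lies in a
conjugate of `H`. -/
theorem exists_le_conj_hall {G : Type u} [Group G] [Finite G] [Group.IsSolvable G]
    {H K : Subgroup G} (hH : (Nat.card H).Coprime H.index) (hK : (Nat.card K).Coprime H.index) :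
    ∃ g : G, K ≤ MulAut.conj g • H :=
  hall_conj_aux _ G H K le_rfl hH hK

theorem index_eq_of_card {G : Type*} [Group G] [Finite G] {H : Subgroup G} {m n : ℕ}
    (hG : Nat.card G = m * n) (hH : Nat.card H = m) : H.index = n := by
  have h := H.card_mul_index
  rw [hG, hH] at h
  exact Nat.eq_of_mul_eq_mul_left (hH ▸ Nat.card_pos) h

/-- Hall conjugacy. -/
theorem hall_conj {G : Type u} [Group G] [Finite G] [Group.IsSolvable G]
    {H K : Subgroup G} (hH : (Nat.card H).Coprime H.index) (h : Nat.card K = Nat.card H) :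
    ∃ g : G, MulAut.conj g • H = K := by
  obtain ⟨g, hg⟩ := exists_le_conj_hall hH (h ▸ hH : (Nat.card K).Coprime H.index)
  exact ⟨g, (Subgroup.eq_of_le_of_card_ge hg (by rw [card_conj_smul, h])).symm⟩

/-- Existence of a Hall `π`-subgroup. -/
theorem exists_hall_pi {G : Type u} [Group G] [Finite G] [Group.IsSolvable G] (π : Set ℕ) :
    ∃ H : Subgroup G, (Nat.card H).Coprime H.index ∧
      ∀ p : ℕ, p.Prime → p ∣ Nat.card G →
        (p ∣ Nat.card H ↔ p ∈ π) ∧ (p ∣ H.index ↔ p ∉ π) := by
  classical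
  set f := (Nat.card G).factorization with hf
  set s := (Nat.card G).primeFactors with hs
  set m := ∏ p ∈ s.filter (· ∈ π), p ^ f p with hm
  set n := ∏ p ∈ s.filter (· ∉ π), p ^ f p with hn
  have hG : Nat.card G = m * n := by
    rw [hm, hn, Finset.prod_filter_mul_prod_filter_not]
    conv_lhs => rw [← Nat.prod_factorization_pow_eq_self (Nat.card_pos (α := G)).ne']
    rfl
  have hdm : ∀ q : ℕ, q.Prime → q ∣ m → q ∈ π := by
    intro q hq h
    obtain ⟨p, hp, hqp⟩ := (hq.prime.dvd_finsetProd_iff _).mp h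
    rw [Finset.mem_filter] at hp
    have := (Nat.prime_dvd_prime_iff_eq hq (Nat.prime_of_mem_primeFactors hp.1)).mp
      (hq.dvd_of_dvd_pow hqp)
    exact this ▸ hp.2
  have hdn : ∀ q : ℕ, q.Prime → q ∣ n → q ∉ π := by
    intro q hq h
    obtain ⟨p, hp, hqp⟩ := (hq.prime.dvd_finsetProd_iff _).mp h
    rw [Finset.mem_filter] at hp
    have := (Nat.prime_dvd_prime_iff_eq hq (Nat.prime_of_mem_primeFactors hp.1)).mp
      (hq.dvd_of_dvd_pow hqp)
    exact this ▸ hp.2
  have hmn : m.Coprime n :=
    Nat.coprime_of_dvd fun q hq h1 h2 => (hdn q hq h2) (hdm q hq h1)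
  obtain ⟨H, hH⟩ := exists_hall_of_card hG hmn
  have hi := index_eq_of_card hG hH
  refine ⟨H, by rw [hH, hi]; exact hmn, fun p hp hpG => ?_⟩
  have hor : p ∣ m ∨ p ∣ n := hp.dvd_mul.mp (hG ▸ hpG)
  rw [hH, hi]
  refine ⟨⟨fun h => hdm p hp h, fun h => hor.resolve_right fun h' => hdn p hp h' h⟩,
    ⟨fun h => hdn p hp h, fun h => hor.resolve_left fun h' => h (hdm p hp h')⟩⟩

/-- A normal subgroup meets a Hall subgroup in a Hall subgroup. -/
theorem coprime_inf_normal {G : Type*} [Group G] [Finite G] {H N : Subgroup G} [N.Normal]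
    (hH : (Nat.card H).Coprime H.index) :
    (Nat.card (H ⊓ N : Subgroup G)).Coprime ((H ⊓ N).relIndex N) := by
  refine Nat.Coprime.of_dvd (Subgroup.card_dvd_of_le inf_le_left) ?_ hH
  have h1 := card_mul_card_eq_card_sup_mul_card_inf
    (Subgroup.le_normalizer_of_normal : H ≤ Subgroup.normalizer (N : Set G))
  have h2 := Subgroup.card_mul_index (H.subgroupOf N)
  rw [← Subgroup.inf_subgroupOf_right, card_subgroupOf inf_le_right,
    Subgroup.inf_subgroupOf_right, ← Subgroup.relIndex] at h2
  have h3 := Subgroup.card_mul_index (H.subgroupOf (N ⊔ H))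
  rw [card_subgroupOf le_sup_right, ← Subgroup.relIndex] at h3
  rw [← h2, ← h3, inf_comm N H] at h1
  have h4 : H.relIndex N = H.relIndex (N ⊔ H) := by
    apply Nat.eq_of_mul_eq_mul_left
      (Nat.mul_pos (Nat.card_pos (α := (H ⊓ N : Subgroup G))) (Nat.card_pos (α := H)))
    linarith
  rw [Subgroup.inf_relIndex_right, h4]
  exact Subgroup.relIndex_dvd_index_of_le le_sup_right

/-- Frattini argument for Hall subgroups of a solvable normal subgroup. -/
theorem sup_normalizer_hall {G : Type*} [Group G] [Finite G] (L : Subgroup G) [L.Normal]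
    (hL : Group.IsSolvable L) (H : Subgroup G) (hHL : H ≤ L)
    (hHall : (Nat.card H).Coprime (H.relIndex L)) :
    L ⊔ Subgroup.normalizer (H : Set G) = ⊤ := by
  rw [eq_top_iff]
  intro g _
  have hgL : MulAut.conj g • H ≤ L := by
    rw [← Subgroup.Normal.conj_smul_eq_self g L]
    exact Subgroup.pointwise_smul_le_pointwise_smul_iff.mpr hHL
  have := hL
  obtain ⟨l, hl⟩ := hall_conj (H := H.subgroupOf L) (K := (MulAut.conj g • H).subgroupOf L)
    (by rw [card_subgroupOf hHL]; exact hHall)
    (by rw [card_subgroupOf hgL, card_subgroupOf hHL, card_conj_smul])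
  have h1 := congrArg (Subgroup.map L.subtype) hl
  rw [map_conj_smul, Subgroup.map_subgroupOf_eq_of_le hHL,
    Subgroup.map_subgroupOf_eq_of_le hgL] at h1
  have h2 : (l : G)⁻¹ * g ∈ Subgroup.normalizer (H : Set G) := by
    rw [← conj_smul_eq_self_iff, ← conj_smul_conj_smul]
    exact conj_smul_inv_eq h1
  have := mul_mem (Subgroup.mem_sup_left (T := Subgroup.normalizer (H : Set G)) l.2)
    (Subgroup.mem_sup_right h2)
  simpa using this

end Cfsg.Agent.Basics
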