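import Cfsg.Agent.Lib.Basics.Systems
import Cfsg.Agent.Lib.Basics.Frattini
import Cfsg.Agent.Lib.Basics.Hall
import Cfsg.Agent.Lib.Basics.ThompsonFpf
import Cfsg.Prelude.Def_SolvableStructure
import Cfsg.Agent.Lib.LocalEvenB.Basic
import Mathlib

/-!
Carter subgroups.
-/

set_option autoImplicit false
set_option linter.unusedSectionVars false
set_option linter.style.haveILetI false

open scoped Pointwise commutatorElement

namespace Cfsg.Agent.Basics.Carter

open Subgroup

universe u

variable {G : Type u} [Group G]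

theorem nilpotent_sup_of_commute {Q R : Subgroup G} (hQ : Group.IsNilpotent Q) (hR : Group.IsNilpotent R)
    (hc : ∀ q ∈ Q, ∀ r ∈ R, Commute q r) : Group.IsNilpotent (Q ⊔ R : Subgroup G) := by
  have hcomm : ∀ (m : Q) (n : R), Commute (Q.subtype m) (R.subtype n) := fun q r => hc q q.2 r r.2
  let f := MonoidHom.noncommCoprod Q.subtype R.subtype hcomm
  have hr : f.range = Q ⊔ R :=
    (MonoidHom.noncommCoprod_range Q.subtype R.subtype hcomm).trans
      (by rw [Subgroup.range_subtype, Subgroup.range_subtype])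
  haveI := hQ
  haveI := hR
  haveI : Group.IsNilpotent f.range := Group.nilpotent_of_surjective f.rangeRestrict f.rangeRestrict_surjective
  exact Group.nilpotent_of_mulEquiv (MulEquiv.subgroupCongr hr)

theorem subgroupOf_nilpotent {C H : Subgroup G} (h : C ≤ H) (hC : Group.IsNilpotent C) :
    Group.IsNilpotent (C.subgroupOf H) := by
  haveI := hC
  exact Group.nilpotent_of_mulEquiv (Subgroup.subgroupOfEquivOfLe h).symm

theorem carter_subgroupOf {C H : Subgroup G} (h : C ≤ H) (hC : Cfsg.IsCarterSubgroup C) :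
    Cfsg.IsCarterSubgroup (C.subgroupOf H) := by
  refine ⟨subgroupOf_nilpotent h hC.1, le_antisymm (fun x hx => ?_) le_normalizer⟩
  rw [mem_subgroupOf, ← hC.2]
  refine mem_normalizer_iff.mpr fun y => ⟨fun hy => ?_, fun hy => ?_⟩
  · exact (mem_normalizer_iff.mp hx ⟨y, h hy⟩).mp hy
  · have hyH : y ∈ H := by
      simpa [mul_assoc] using H.mul_mem (H.mul_mem (H.inv_mem x.2) (h hy)) x.2
    exact (mem_normalizer_iff.mp hx ⟨y, hyH⟩).mpr hy

theorem eq_of_le_nilpotent [Finite G] {C Y : Subgroup G} (hC : Cfsg.IsCarterSubgroup C) (h : C ≤ Y)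
    (hY : Group.IsNilpotent Y) : C = Y := by
  by_contra hne
  have hlt : C.subgroupOf Y < ⊤ := by
    rw [lt_top_iff_ne_top, Ne, subgroupOf_eq_top]
    exact fun h' => hne (le_antisymm h h')
  haveI := hY
  have := Group.normalizerCondition_of_isNilpotent (G := Y) _ hlt
  rw [(carter_subgroupOf h hC).2] at this
  exact lt_irrefl _ this

theorem carter_conj {C : Subgroup G} (hC : Cfsg.IsCarterSubgroup C) (g : G) :
    Cfsg.IsCarterSubgroup (MulAut.conj g • C) := by
  refine ⟨?_, by rw [normalizer_conj_smul, hC.2]⟩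
  haveI := hC.1
  exact Group.nilpotent_of_mulEquiv (Subgroup.equivSMul (MulAut.conj g) C)

theorem mul_mem_normalizer_left {Q C : Subgroup G} (hCQ : C ≤ normalizer (Q : Set G)) {n c : G}
    (hc : c ∈ C) (h : n * c ∈ normalizer (Q : Set G)) : n ∈ normalizer (Q : Set G) := by
  simpa using mul_mem h (inv_mem (hCQ hc))

theorem commute_of_disjoint_normalizer {N Q : Subgroup G} [N.Normal] (h : N ⊓ Q = ⊥) {n : G}
    (hn : n ∈ N) (hnQ : n ∈ normalizer (Q : Set G)) : n ∈ centralizer (Q : Set G) := by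
  refine mem_centralizer_iff.mpr fun q hq => ?_
  have h1 : ⁅n, q⁆ ∈ N ⊓ Q := by
    refine ⟨?_, ?_⟩
    · rw [show ⁅n, q⁆ = n * (q * n⁻¹ * q⁻¹) by simp [commutatorElement_def, mul_assoc]]
      exact N.mul_mem hn (Subgroup.Normal.conj_mem inferInstance _ (N.inv_mem hn) q)
    · exact Q.mul_mem ((mem_normalizer_iff.mp hnQ q).mp hq) (Q.inv_mem hq)
  rw [h, mem_bot, commutatorElement_eq_one_iff_mul_comm] at h1
  exact h1.symm

theorem conj_le_normalizer {H K : Subgroup G} {g : G} (hH : g ∈ normalizer (H : Set G))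
    (hK : g ∈ normalizer (K : Set G)) : g ∈ normalizer ((H ⊓ K : Subgroup G) : Set G) := by
  rw [← conj_smul_eq_self_iff, Subgroup.smul_inf, conj_smul_eq_self_iff.mpr hH, conj_smul_eq_self_iff.mpr hK]

theorem normalizer_centralizer {Q : Subgroup G} {g : G} (h : g ∈ normalizer (Q : Set G)) :
    g ∈ normalizer ((centralizer (Q : Set G) : Subgroup G) : Set G) := by
  have key : ∀ g : G, g ∈ normalizer (Q : Set G) → ∀ y ∈ centralizer (Q : Set G),
      g * y * g⁻¹ ∈ centralizer (Q : Set G) := by
    intro g h y hy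
    refine mem_centralizer_iff.mpr fun q hq => ?_
    have hq' : g⁻¹ * q * g ∈ Q := by
      simpa using (mem_normalizer_iff.mp (inv_mem h) q).mp hq
    have e := mem_centralizer_iff.mp hy _ hq'
    calc q * (g * y * g⁻¹) = g * ((g⁻¹ * q * g) * y) * g⁻¹ := by group
      _ = g * (y * (g⁻¹ * q * g)) * g⁻¹ := by rw [e]
      _ = g * y * g⁻¹ * q := by group
  refine mem_normalizer_iff.mpr fun y => ⟨key g h y, fun hy => ?_⟩
  simpa [mul_assoc] using key g⁻¹ (inv_mem h) _ hy

variable [Finite G]

/-- The `p`-part and the `p'`-part of a nilpotent subgroup. -/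
theorem parts (C : Subgroup G) (hC : Group.IsNilpotent C) (p : ℕ) [hp : Fact p.Prime] :
    ∃ Q P : Subgroup G, Q ≤ C ∧ P ≤ C ∧ IsPGroup p P ∧ ¬ p ∣ Nat.card Q ∧ Q ⊔ P = C ∧
      (∀ q ∈ Q, ∀ x ∈ P, Commute q x) ∧ C ≤ normalizer (Q : Set G) ∧
      C ≤ normalizer (P : Set G) ∧ Nat.card C = Nat.card Q * Nat.card P ∧
      ∀ c ∈ C, ¬ p ∣ orderOf c → c ∈ Q := by
  haveI := hC
  obtain ⟨P, N, hN, hNP⟩ := hasNormalPComplement_of_nilpotent (G := C) p
  have hPn : (P : Subgroup C).Normal :=
    (Group.isNilpotent_of_finite_tfae (G := C)).out 0 3 rfl rfl |>.mp inferInstance p hp P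
  have hd := hNP.disjoint
  refine ⟨N.map C.subtype, (P : Subgroup C).map C.subtype, map_subtype_le _, map_subtype_le _,
    P.2.map _, ?_, ?_, ?_, ?_, ?_, ?_, ?_⟩
  · rw [card_map_of_injective C.subtype_injective, ← hNP.index_eq_card]
    exact P.not_dvd_index
  · rw [← Subgroup.map_sup, hNP.sup_eq_top, ← MonoidHom.range_eq_map, range_subtype]
  · rintro _ ⟨q, hq, rfl⟩ _ ⟨x, hx, rfl⟩
    exact (commute_of_normal_of_disjoint N (P : Subgroup C) hN hPn hd q x hq hx).map C.subtype
  · intro c hc
    refine mem_normalizer_iff.mpr fun y => ⟨?_, fun h => ?_⟩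
    · rintro ⟨w, hw, rfl⟩
      exact ⟨⟨c, hc⟩ * w * ⟨c, hc⟩⁻¹, hN.conj_mem w hw _, rfl⟩
    · obtain ⟨w, hw, e⟩ := h
      refine ⟨⟨c, hc⟩⁻¹ * w * ⟨c, hc⟩, by simpa using hN.conj_mem w hw (⟨c, hc⟩ : C)⁻¹, ?_⟩
      change c⁻¹ * C.subtype w * c = y
      rw [e]; group
  · intro c hc
    refine mem_normalizer_iff.mpr fun y => ⟨?_, fun h => ?_⟩
    · rintro ⟨w, hw, rfl⟩
      exact ⟨⟨c, hc⟩ * w * ⟨c, hc⟩⁻¹, hPn.conj_mem w hw _, rfl⟩
    · obtain ⟨w, hw, e⟩ := h
      refine ⟨⟨c, hc⟩⁻¹ * w * ⟨c, hc⟩, by have := hPn.conj_mem w hw (⟨c, hc⟩ : C)⁻¹; rw [inv_inv] at this; exact this, ?_⟩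
      change c⁻¹ * C.subtype w * c = y
      rw [e]; group
  · rw [card_map_of_injective C.subtype_injective, card_map_of_injective C.subtype_injective,
      hNP.card_mul_card]
  · intro c hc hcp
    refine ⟨⟨c, hc⟩, ?_, rfl⟩
    haveI := hN
    show (⟨c, hc⟩ : C) ∈ N
    rw [← QuotientGroup.eq_one_iff, ← orderOf_eq_one_iff]
    obtain ⟨k, hk⟩ := P.2.exists_card_eq
    have h1 : orderOf (QuotientGroup.mk ⟨c, hc⟩ : C ⧸ N) ∣ p ^ k := by
      rw [← hk, ← hNP.symm.index_eq_card, index_eq_card]
      exact orderOf_dvd_natCard _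
    have h2 := orderOf_map_dvd (QuotientGroup.mk' N) (⟨c, hc⟩ : C)
    rw [Subgroup.orderOf_mk] at h2
    exact Nat.eq_one_of_dvd_coprimes (((hp.out.coprime_iff_not_dvd).mpr hcp).pow_left k) h1 h2

/-- A Carter subgroup is the normalizer of its `p'`-part within an extension by a normal `p`-group. -/
theorem normalizer_part {C N : Subgroup G} [N.Normal] (hC : Cfsg.IsCarterSubgroup C) {p : ℕ}
    [hp : Fact p.Prime] (hN : IsPGroup p N) {Q P : Subgroup G} (hP : IsPGroup p P)
    (hQc : ¬ p ∣ Nat.card Q) (hsup : Q ⊔ P = C) (hcomm : ∀ q ∈ Q, ∀ x ∈ P, Commute q x)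
    (hCQ : C ≤ normalizer (Q : Set G)) : normalizer (Q : Set G) ⊓ (C ⊔ N) = C := by
  refine le_antisymm ?_ (le_inf hCQ le_sup_left)
  rintro g ⟨hgQ, hgH⟩
  obtain ⟨n, hn, c, hc, rfl⟩ := mem_sup_of_normal_left.mp (show g ∈ N ⊔ C by rwa [sup_comm])
  have hNQ : N ⊓ Q = ⊥ := disjoint_iff.mp (disjoint_of_coprime_natCard (by
    obtain ⟨k, hk⟩ := hN.exists_card_eq
    rw [hk]; exact ((hp.out.coprime_iff_not_dvd).mpr hQc).pow_left k))
  set X := N ⊓ centralizer (Q : Set G) with hX
  have hnX : n ∈ X := ⟨hn, commute_of_disjoint_normalizer hNQ hn (mul_mem_normalizer_left hCQ hc hgQ)⟩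
  have hCX : C ≤ normalizer (X : Set G) := fun x hx =>
    conj_le_normalizer (le_normalizer_of_normal (mem_top x)) (normalizer_centralizer (hCQ hx))
  have hR : IsPGroup p (X ⊔ P : Subgroup G) :=
    (hN.to_le inf_le_left).to_sup_of_normal_left' hP ((hsup ▸ le_sup_right : P ≤ C).trans hCX)
  haveI : Group.IsNilpotent (X ⊔ P : Subgroup G) := hR.isNilpotent
  have hY : Group.IsNilpotent (Q ⊔ (X ⊔ P) : Subgroup G) := by
    refine nilpotent_sup_of_commute ?_ inferInstance fun q hq r hr => ?_
    · haveI := hC.1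
      exact Group.nilpotent_of_mulEquiv
        (Subgroup.subgroupOfEquivOfLe (hsup ▸ le_sup_left : Q ≤ C))
    · have : X ⊔ P ≤ centralizer (Q : Set G) :=
        sup_le inf_le_right fun x hx => mem_centralizer_iff.mpr fun y hy => hcomm y hy x hx
      exact mem_centralizer_iff.mp (this hr) q hq
  have hle : C ≤ Q ⊔ (X ⊔ P) := hsup ▸ sup_le le_sup_left (le_sup_of_le_right le_sup_right)
  have heq := eq_of_le_nilpotent hC hle hY
  exact mul_mem (heq.ge (mem_sup_right (mem_sup_left hnX))) hc

theorem map_nilpotent {C : Subgroup G} (hC : Group.IsNilpotent C) (N : Subgroup G) [N.Normal] :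
    Group.IsNilpotent (C.map (QuotientGroup.mk' N)) := by
  haveI := hC
  exact Group.nilpotent_of_surjective _ ((QuotientGroup.mk' N).subgroupMap_surjective C)

/-- Conjugacy in `C ⊔ N` makes `C ⊔ N` self-normalizing. -/
theorem sup_self_normalizing {C N : Subgroup G} [N.Normal] (hC : Cfsg.IsCarterSubgroup C)
    (hconj : C ⊔ N ≠ ⊤ → ∀ A B : Subgroup (C ⊔ N : Subgroup G), Cfsg.IsCarterSubgroup A →
      Cfsg.IsCarterSubgroup B → ∃ g : (C ⊔ N : Subgroup G), MulAut.conj g • A = B) :
    normalizer ((C ⊔ N : Subgroup G) : Set G) = C ⊔ N := by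
  rcases eq_or_ne (C ⊔ N) ⊤ with h | h
  · rw [h]; exact normalizer_eq_top_iff.mpr inferInstance
  refine le_antisymm (fun g hg => ?_) le_normalizer
  have hle : MulAut.conj g • C ≤ C ⊔ N := by
    rw [← conj_smul_eq_self_iff.mpr hg]
    exact Subgroup.map_mono le_sup_left
  obtain ⟨x, hx⟩ := hconj h _ _ (carter_subgroupOf le_sup_left hC) (carter_subgroupOf hle (carter_conj hC g))
  have h1 := congrArg (Subgroup.map (C ⊔ N : Subgroup G).subtype) hx
  rw [map_conj_smul, map_subgroupOf_eq_of_le le_sup_left, map_subgroupOf_eq_of_le hle] at h1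
  have h2 : (x : G)⁻¹ * g ∈ normalizer (C : Set G) := by
    rw [← conj_smul_eq_self_iff, map_mul, mul_smul]
    exact conj_smul_inv_eq h1
  rw [hC.2] at h2
  have := mul_mem x.2 (mem_sup_left (T := N) h2)
  rwa [mul_inv_cancel_left] at this

theorem map_carter {C N : Subgroup G} [N.Normal] (hC : Cfsg.IsCarterSubgroup C)
    (hn : normalizer ((C ⊔ N : Subgroup G) : Set G) = C ⊔ N) :
    Cfsg.IsCarterSubgroup (C.map (QuotientGroup.mk' N)) := by
  refine ⟨map_nilpotent hC.1 N, ?_⟩
  set π := QuotientGroup.mk' N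
  have hs : Function.Surjective π := QuotientGroup.mk'_surjective N
  apply comap_injective hs
  rw [comap_normalizer_eq_of_surjective _ hs, comap_map_eq, QuotientGroup.ker_mk', hn]

/-- Existence and conjugacy of Carter subgroups. -/
theorem exists_and_conj : ∀ (n : ℕ) (G : Type u) [Group G] [Finite G] [Group.IsSolvable G], Nat.card G = n →
    (∃ C : Subgroup G, Cfsg.IsCarterSubgroup C) ∧ ∀ C D : Subgroup G, Cfsg.IsCarterSubgroup C →
      Cfsg.IsCarterSubgroup D → ∃ g : G, MulAut.conj g • C = D := by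
  intro n
  induction n using Nat.strong_induction_on with
  | _ n ih =>
  intro G _ _ _ hn
  rcases subsingleton_or_nontrivial G with hs | hs
  · refine ⟨⟨⊤, ⟨inferInstance, normalizer_eq_top_iff.mpr inferInstance⟩⟩, fun C D _ _ => ⟨1, Subsingleton.elim _ _⟩⟩
  obtain ⟨N, hNn, -, hN, hmin⟩ := exists_minimal_normal (N := (⊤ : Subgroup G)) top_ne_bot
  haveI := hNn
  obtain ⟨hab, p, hp, -, hNp⟩ := minimal_normal_solvable hN inferInstance hmin
  haveI := Fact.mk hp
  haveI := hab
  have hNc : N ≤ centralizer (N : Set G) := le_centralizer N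
  set π := QuotientGroup.mk' N with hπ
  have hsurj : Function.Surjective π := QuotientGroup.mk'_surjective N
  have ihq := ih _ (hn ▸ card_quotient_lt hN) (G ⧸ N) rfl
  have ihs : ∀ H : Subgroup G, H ≠ ⊤ → ∀ A B : Subgroup H, Cfsg.IsCarterSubgroup A →
      Cfsg.IsCarterSubgroup B → ∃ g : H, MulAut.conj g • A = B := fun H hH =>
    (ih _ (hn ▸ card_lt_card_of_ne_top hH) H rfl).2
  have hnormal_inf : ∀ C : Subgroup G, C ⊔ N = ⊤ → (C ⊓ N).Normal := fun C hC => by
    rw [← normalizer_eq_top_iff, eq_top_iff, ← hC, sup_le_iff]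
    refine ⟨fun x hx => conj_le_normalizer (le_normalizer hx) (le_normalizer_of_normal (mem_top x)),
      fun x hx => ?_⟩
    refine centralizer_le_normalizer _ (mem_centralizer_iff.mpr fun y hy => ?_)
    exact mem_centralizer_iff.mp (hNc hx) y hy.2
  refine ⟨?_, ?_⟩
  · -- existence
    obtain ⟨Cb, hCb⟩ := ihq.1
    set K := Cb.comap π with hK
    have hNK : N ≤ K := fun x hx => by
      rw [hK, mem_comap, (show π x = 1 from (QuotientGroup.eq_one_iff x).mpr hx)]
      exact one_mem _
    by_cases hKt : K = ⊤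
    · have hCbt : Cb = ⊤ := comap_injective hsurj (by rw [← hK, hKt, comap_top])
      have hq : Group.IsNilpotent (G ⧸ N) := by
        haveI : Group.IsNilpotent (⊤ : Subgroup (G ⧸ N)) := hCbt ▸ hCb.1
        exact Group.nilpotent_of_mulEquiv Subgroup.topEquiv
      haveI := hq
      by_cases hG : Group.IsNilpotent G
      · exact ⟨⊤, ⟨inferInstance, normalizer_eq_top_iff.mpr inferInstance⟩⟩
      obtain ⟨M, hM, hMmin⟩ := WellFounded.has_min (wellFounded_lt (α := Subgroup G))
        {H : Subgroup G | H ⊔ N = ⊤} ⟨⊤, top_sup_eq N⟩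
      haveI := hnormal_inf M hM
      have hdisj : M ⊓ N = ⊥ := by
        rcases hmin (M ⊓ N) inferInstance inf_le_right with h | h
        · exact h
        exfalso
        have hMt : M = ⊤ := by
          rw [eq_top_iff, ← hM]; exact sup_le le_rfl (inf_eq_right.mp h)
        have hNΦ : N ≤ frattini G := le_iInf₂ fun X hX => by
          by_contra hne
          have := hMmin X (le_of_not_le_sup_eq_top hX hne)
          exact this (hMt ▸ hX.1.lt_top)
        apply hG
        haveI : Group.IsNilpotent (⊤ : Subgroup G) := isNilpotent_of_map_quotient ⊤ N hNΦ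
          (by
            rw [Subgroup.map_top_of_surjective π hsurj]
            exact Group.nilpotent_of_mulEquiv Subgroup.topEquiv.symm)
        exact Group.nilpotent_of_mulEquiv Subgroup.topEquiv
      have hMnil : Group.IsNilpotent M := by
        haveI := hq
        have hinj : Function.Injective (π.comp M.subtype) := (injective_iff_map_eq_one _).mpr fun x hx =>
          Subtype.ext (by
            have : (x : G) ∈ M ⊓ N := ⟨x.2, (QuotientGroup.eq_one_iff _).mp hx⟩
            rwa [hdisj, mem_bot] at this)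
        haveI : Group.IsNilpotent (π.comp M.subtype).range := inferInstance
        exact Group.nilpotent_of_mulEquiv (MonoidHom.ofInjective hinj).symm
      refine ⟨M, hMnil, le_antisymm (fun g hg => ?_) le_normalizer⟩
      obtain ⟨n', hn', c, hc, rfl⟩ := mem_sup_of_normal_left.mp (show g ∈ N ⊔ M by rw [sup_comm, hM]; trivial)
      have hnM := mul_mem_normalizer_left le_normalizer hc hg
      have hX : (N ⊓ centralizer (M : Set G)).Normal := by
        rw [← normalizer_eq_top_iff, eq_top_iff, ← hM, sup_le_iff]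
        refine ⟨fun x hx => conj_le_normalizer (le_normalizer_of_normal (mem_top x))
          (normalizer_centralizer (le_normalizer hx)), fun x hx => ?_⟩
        refine centralizer_le_normalizer _ (mem_centralizer_iff.mpr fun y hy => ?_)
        exact mem_centralizer_iff.mp (hNc hx) y hy.1
      have hmem : n' ∈ N ⊓ centralizer (M : Set G) :=
        ⟨hn', commute_of_disjoint_normalizer (by rw [inf_comm]; exact hdisj) hn' hnM⟩
      rcases hmin _ hX inf_le_left with h | h
      · rw [h, mem_bot] at hmem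
        rwa [hmem, one_mul]
      · exfalso
        apply hG
        have hY := nilpotent_sup_of_commute hMnil hNp.isNilpotent fun q hq' r hr =>
          mem_centralizer_iff.mp ((h.ge hr).2) q hq'
        rw [hM] at hY
        haveI := hY
        exact Group.nilpotent_of_mulEquiv Subgroup.topEquiv
    · obtain ⟨C0, hC0⟩ := (ih _ (hn ▸ card_lt_card_of_ne_top hKt) K rfl).1
      set C := C0.map K.subtype with hC
      have hCK : C ≤ K := map_subtype_le _
      have hself : normalizer (((C0 ⊔ N.subgroupOf K) : Subgroup K) : Set K) = C0 ⊔ N.subgroupOf K :=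
        sup_self_normalizing hC0 fun h A B => (ih _ (lt_trans (card_lt_card_of_ne_top h)
          (hn ▸ card_lt_card_of_ne_top hKt)) _ rfl).2 A B
      have hCN : C ⊔ N = K := by
        have hnilK : Group.IsNilpotent (K.map π) := by
          rw [hK, map_comap_eq_self_of_surjective hsurj]; exact hCb.1
        have hle : (C ⊔ N).map π ≤ K.map π := Subgroup.map_mono (sup_le hCK hNK)
        by_contra hne
        set Ab := ((C ⊔ N).map π).subgroupOf (K.map π)
        have hlt : Ab < ⊤ := by
          rw [lt_top_iff_ne_top, Ne, subgroupOf_eq_top]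
          intro h
          apply hne
          refine le_antisymm (sup_le hCK hNK) ?_
          rw [map_le_iff_le_comap, comap_map_eq, QuotientGroup.ker_mk'] at h
          exact h.trans (sup_le le_rfl le_sup_right)
        haveI := hnilK
        obtain ⟨x, hx, hxn⟩ := SetLike.exists_of_lt (Group.normalizerCondition_of_isNilpotent (G := K.map π) _ hlt)
        obtain ⟨k, hk, hkx⟩ := x.2
        apply hxn
        rw [mem_subgroupOf, ← hkx]
        refine mem_map_of_mem π ?_
        have hkn : (⟨k, hk⟩ : K) ∈ normalizer (((C0 ⊔ N.subgroupOf K) : Subgroup K) : Set K) := by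
          have hmap : (C0 ⊔ N.subgroupOf K).map K.subtype = C ⊔ N := by
            rw [Subgroup.map_sup, map_subgroupOf_eq_of_le hNK]
          have hiff : ∀ y : K, y ∈ C0 ⊔ N.subgroupOf K ↔ (y : G) ∈ C ⊔ N := fun y => by
            rw [← hmap]
            exact ⟨fun h => mem_map_of_mem _ h, fun ⟨z, hz, e⟩ => Subtype.ext e ▸ hz⟩
          refine mem_normalizer_iff.mpr fun y => ?_
          rw [hiff, hiff]
          have hcn : ∀ z : G, z ∈ C ⊔ N ↔ π z ∈ (C ⊔ N).map π := fun z => by
            refine ⟨mem_map_of_mem π, fun h => ?_⟩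
            have h' : z ∈ ((C ⊔ N).map π).comap π := h
            rw [comap_map_eq, QuotientGroup.ker_mk'] at h'
            exact (sup_le le_rfl le_sup_right : C ⊔ N ⊔ N ≤ C ⊔ N) h'
          rw [hcn, hcn]
          have := mem_normalizer_iff.mp hx ⟨π y, mem_map_of_mem π y.2⟩
          have e : ((x * ⟨π y, mem_map_of_mem π y.2⟩ * x⁻¹ : K.map π) : G ⧸ N) = π ((k : G) * y * k⁻¹) := by
            rw [map_mul, map_mul, map_inv]
            show (x : G ⧸ N) * π y * (x : G ⧸ N)⁻¹ = _
            rw [← hkx]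
          change π (y : G) ∈ (C ⊔ N).map π ↔ ((x * ⟨π y, mem_map_of_mem π y.2⟩ * x⁻¹ : K.map π) : G ⧸ N) ∈ (C ⊔ N).map π at this
          rw [e] at this
          exact this
        rw [hself] at hkn
        have := mem_map_of_mem K.subtype hkn
        rwa [Subgroup.map_sup, map_subgroupOf_eq_of_le hNK] at this
      refine ⟨C, ?_, le_antisymm (fun g hg => ?_) le_normalizer⟩
      · haveI := hC0.1
        exact Group.nilpotent_of_mulEquiv (equivMapOfInjective C0 _ K.subtype_injective)
      · have hgK : g ∈ normalizer (K : Set G) := by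
          rw [← hCN, ← conj_smul_eq_self_iff, Subgroup.smul_sup, conj_smul_eq_self_iff.mpr hg,
            conj_smul_eq_self_iff.mpr (le_normalizer_of_normal (mem_top g))]
        have hKn : normalizer (K : Set G) = K := by
          rw [hK, ← comap_normalizer_eq_of_surjective _ hsurj, hCb.2]
        rw [hKn] at hgK
        refine ⟨⟨g, hgK⟩, ?_, rfl⟩
        rw [SetLike.mem_coe, ← hC0.2]
        refine mem_normalizer_iff.mpr fun y => ?_
        have := mem_normalizer_iff.mp hg (y : G)
        rw [hC] at this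
        constructor
        · intro hy
          obtain ⟨z, hz, e⟩ := this.mp ⟨y, hy, rfl⟩
          exact (show z = ⟨g, hgK⟩ * y * ⟨g, hgK⟩⁻¹ from Subtype.ext e) ▸ hz
        · intro hy
          obtain ⟨z, hz, e⟩ := this.mpr ⟨_, hy, rfl⟩
          exact (show z = y from Subtype.ext e) ▸ hz
  · -- conjugacy
    intro C D hC hD
    have hCn := sup_self_normalizing (N := N) hC fun h => ihs _ h
    have hDn := sup_self_normalizing (N := N) hD fun h => ihs _ h
    obtain ⟨gb, hgb⟩ := ihq.2 _ _ (map_carter hC hCn) (map_carter hD hDn)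
    obtain ⟨g, rfl⟩ := hsurj gb
    set C1 := MulAut.conj g • C with hC1
    have hC1c := carter_conj hC g
    have hsup : C1 ⊔ N = D ⊔ N := by
      have := congrArg (Subgroup.comap π) hgb
      rw [← map_conj_smul, comap_map_eq, comap_map_eq, QuotientGroup.ker_mk'] at this
      exact this
    suffices ∃ x : G, MulAut.conj x • C1 = D by
      obtain ⟨x, hx⟩ := this
      exact ⟨x * g, by rw [map_mul, mul_smul]; exact hx⟩
    by_cases hH : C1 ⊔ N = ⊤
    · by_cases hG : Group.IsNilpotent G
      · have htop : Group.IsNilpotent (⊤ : Subgroup G) := by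
          haveI := hG; exact Group.nilpotent_of_mulEquiv Subgroup.topEquiv.symm
        refine ⟨1, ?_⟩
        rw [conj_smul_one]
        exact (eq_of_le_nilpotent hC1c le_top htop).trans (eq_of_le_nilpotent hD le_top htop).symm
      have facts : ∀ E : Subgroup G, Cfsg.IsCarterSubgroup E → E ⊔ N = ⊤ → ∃ Q : Subgroup G,
          normalizer (Q : Set G) = E ∧ (Nat.card Q).Coprime Q.index ∧
            Q.index = p ^ (Nat.card G).factorization p := by
        intro E hE hEN
        obtain ⟨Q, P, hQE, hPE, hP, hQc, hQP, hcomm, hEQ, -, hcard, -⟩ := parts E hE.1 p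
        have h1 := normalizer_part (N := N) hE hNp hP hQc hQP hcomm hEQ
        rw [hEN, inf_top_eq] at h1
        refine ⟨Q, h1, ?_⟩
        have hidx : ∃ k, Q.index = p ^ k := by
          have e := card_mul_card_eq_card_sup_mul_card_inf (N := N) (H := E) le_normalizer_of_normal
          rw [sup_comm, hEN, card_top, hcard, ← Q.card_mul_index] at e
          have e2 : Q.index * Nat.card (N ⊓ E : Subgroup G) = Nat.card N * Nat.card P := by
            refine Nat.eq_of_mul_eq_mul_left (Nat.card_pos (α := Q)) ?_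
            linarith
          obtain ⟨i, hi⟩ := hNp.exists_card_eq
          obtain ⟨j, hj⟩ := hP.exists_card_eq
          obtain ⟨k, -, hk⟩ := (Nat.dvd_prime_pow hp).mp
            (show Q.index ∣ p ^ (i + j) from ⟨_, by rw [pow_add, ← hi, ← hj, e2]⟩)
          exact ⟨k, hk⟩
        obtain ⟨k, hk⟩ := hidx
        have hv : (Nat.card G).factorization p = k := by
          rw [← Q.card_mul_index, hk, Nat.factorization_mul Nat.card_pos.ne' (pow_ne_zero _ hp.ne_zero),
            Finsupp.add_apply, hp.factorization_pow, Finsupp.single_eq_same,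
            Nat.factorization_eq_zero_of_not_dvd hQc, zero_add]
        rw [hv, hk]
        exact ⟨((hp.coprime_iff_not_dvd.mpr hQc).symm).pow_right k, rfl⟩
      obtain ⟨Q, hQ, hQcop, hQk⟩ := facts C1 hC1c hH
      obtain ⟨R, hR, hRcop, hRk⟩ := facts D hD (hsup ▸ hH)
      obtain ⟨x, hx⟩ := hall_conj hQcop (K := R) (by
        refine Nat.eq_of_mul_eq_mul_right (Nat.pos_of_ne_zero Q.index_ne_zero_of_finite) ?_
        rw [Q.card_mul_index, hQk, ← hRk, R.card_mul_index])
      exact ⟨x, by rw [← hQ, ← normalizer_conj_smul, hx, hR]⟩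
    · have hDle : D ≤ C1 ⊔ N := hsup ▸ le_sup_left
      obtain ⟨x, hx⟩ := ihs _ hH _ _ (carter_subgroupOf le_sup_left hC1c) (carter_subgroupOf hDle hD)
      have h1 := congrArg (Subgroup.map (C1 ⊔ N : Subgroup G).subtype) hx
      rw [map_conj_smul, map_subgroupOf_eq_of_le le_sup_left, map_subgroupOf_eq_of_le hDle] at h1
      exact ⟨x, h1⟩

end Cfsg.Agent.Basics.Carter
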