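import Cfsg.Agent.Lib.Basics.Carter

/-!
Carter subgroups and system normalizers.
-/

set_option autoImplicit false
set_option linter.unusedSectionVars false
set_option linter.style.haveILetI false

open scoped Pointwise commutatorElement

namespace Cfsg.Agent.Basics.Carter

open Subgroup

universe u

variable {G : Type u} [Group G] [Finite G] {K : Nat.Primes → Subgroup G}

theorem system_conj (hK : Cfsg.IsComplementSystem K) (g : G) :
    Cfsg.IsComplementSystem (fun p => MulAut.conj g • K p) := fun p => by
  show (MulAut.conj g • K p).index = _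
  rw [← hK p]
  refine Nat.eq_of_mul_eq_mul_left (Nat.card_pos (α := K p)) ?_
  conv_lhs => rw [← card_conj_smul g (K p)]
  rw [card_mul_index, card_mul_index]

theorem systemNormalizer_conj (K : Nat.Primes → Subgroup G) (g : G) :
    Cfsg.systemNormalizer (fun p => MulAut.conj g • K p) = MulAut.conj g • Cfsg.systemNormalizer K := by
  ext x
  simp only [Cfsg.systemNormalizer, mem_conj_smul, Subgroup.mem_iInf]
  exact forall_congr' fun p => by rw [← mem_conj_smul, normalizer_conj_smul]

/-- covering and avoidance for a minimal normal subgroup -/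
theorem system_avoid [Group.IsSolvable G] (hK : Cfsg.IsComplementSystem K) {B : Subgroup G} [B.Normal]
    (hB : B ≠ ⊥) (hmin : ∀ X : Subgroup G, X.Normal → X ≤ B → X = ⊥ ∨ X = B)
    (hnc : ¬ B ≤ center G) : B ⊓ Cfsg.systemNormalizer K = ⊥ := by
  obtain ⟨hab, p, hp, -, hBp⟩ := minimal_normal_solvable hB inferInstance hmin
  haveI := Fact.mk hp
  set C := centralizer (B : Set G) with hC
  haveI : C.Normal := normal_centralizer
  set π := QuotientGroup.mk' C
  have hs : Function.Surjective π := QuotientGroup.mk'_surjective C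
  have hCt : C ≠ ⊤ := fun h => hnc fun b hb => mem_center_iff.mpr fun g =>
    (mem_centralizer_iff.mp (h ▸ mem_top g : g ∈ C) b hb).symm
  haveI : Nontrivial (G ⧸ C) := QuotientGroup.nontrivial_iff.mpr hCt
  obtain ⟨q, E, hq, hEn, hE, hEq⟩ := exists_normal_pGroup (G := G ⧸ C)
  haveI := Fact.mk hq
  haveI := hEn
  set L := E.comap π
  haveI : L.Normal := hEn.comap π
  -- fixed points of `L` on `B` are trivial
  have hCL : B ⊓ centralizer (L : Set G) = ⊥ := by
    refine (hmin _ inferInstance inf_le_left).resolve_right fun h => hE ?_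
    have hLC : L ≤ C := fun l hl => mem_centralizer_iff.mpr fun b hb =>
      ((mem_centralizer_iff.mp (h.ge hb).2) l hl).symm
    rw [← map_comap_eq_self_of_surjective hs E, Subgroup.map_eq_bot_iff, QuotientGroup.ker_mk']
    exact hLC
  have hqp : q ≠ p := by
    rintro rfl
    -- a `p`-group acting on a `p`-group has fixed points
    obtain ⟨P⟩ : Nonempty (Sylow q L) := inferInstance
    have hLP : L ≤ C ⊔ (P : Subgroup L).map L.subtype := by
      intro l hl
      have hsup : (C.subgroupOf L) ⊔ (P : Subgroup L) = ⊤ := by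
        rw [← Subgroup.index_eq_one]
        refine Nat.eq_one_of_dvd_coprimes ((hq.coprime_iff_not_dvd.mpr P.not_dvd_index).pow_left ((Nat.card (G ⧸ C)).factorization q)) ?_ (index_dvd_of_le le_sup_right)
        refine (index_dvd_of_le le_sup_left).trans ?_
        obtain ⟨k, hk⟩ := hEq.exists_card_eq
        have e : (C.subgroupOf L).index = Nat.card E := by
          have h1 := (C.subgroupOf L).card_mul_index
          rw [card_subgroupOf (fun x hx => by
            show π x ∈ E
            rw [(show π x = 1 from (QuotientGroup.eq_one_iff x).mpr hx)]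
            exact one_mem E), card_comap_mk' E] at h1
          exact Nat.eq_of_mul_eq_mul_left Nat.card_pos h1
        rw [e, hk]
        exact pow_dvd_pow q ((hq.pow_dvd_iff_le_factorization Nat.card_pos.ne').mp
          (hk ▸ E.card_subgroup_dvd_card))
      have h' := congrArg (Subgroup.map L.subtype) hsup
      rw [Subgroup.map_sup, ← MonoidHom.range_eq_map, range_subtype, map_subgroupOf_eq_of_le] at h'
      · exact h'.ge hl
      · intro x hx
        show π x ∈ E
        rw [(show π x = 1 from (QuotientGroup.eq_one_iff x).mpr hx)]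
        exact one_mem E
    set P' := (P : Subgroup L).map L.subtype
    have hS : IsPGroup q (B ⊔ P' : Subgroup G) := hBp.to_sup_of_normal_left' (P.2.map _) le_normalizer_of_normal
    haveI := hS.isNilpotent
    have hne : B.subgroupOf (B ⊔ P') ≠ ⊥ := by
      intro h
      rw [Subgroup.subgroupOf_eq_bot, disjoint_iff, inf_eq_left.mpr le_sup_left] at h
      exact hB h
    obtain ⟨y, hy1, hy2, hy3⟩ := LocalEvenB.exists_mem_center_ne_one (B.subgroupOf (B ⊔ P')) hne
    have : (y : G) ∈ B ⊓ centralizer (L : Set G) := by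
      refine ⟨hy1, mem_centralizer_iff.mpr fun l hl => ?_⟩
      have hle : C ⊔ P' ≤ centralizer ({(y : G)} : Set G) := sup_le
        (fun c hc => mem_centralizer_singleton_iff.mpr ((mem_centralizer_iff.mp hc (y : G) hy1).symm))
        fun x hx => mem_centralizer_singleton_iff.mpr
          (congrArg Subtype.val (mem_center_iff.mp hy2 ⟨x, mem_sup_right hx⟩))
      exact mem_centralizer_singleton_iff.mp (hle (hLP hl))
    rw [hCL, mem_bot] at this
    exact hy3 (Subtype.ext this)
  rw [eq_bot_iff]
  rintro b ⟨hb, hbD⟩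
  set pp : Nat.Primes := ⟨p, hp⟩
  have hbN : b ∈ normalizer (K pp : Set G) := mem_iInf.mp hbD pp
  have hdis : B ⊓ K pp = ⊥ := disjoint_iff.mp (disjoint_of_coprime_natCard (by
    obtain ⟨k, hk⟩ := hBp.exists_card_eq
    rw [hk]; exact ((hp.coprime_iff_not_dvd).mpr (system_not_dvd hK pp)).pow_left k))
  have hbK := commute_of_disjoint_normalizer hdis hb hbN
  -- `L` lies in `C ⊔ K p`
  have hLK : L ≤ C ⊔ K pp := by
    have hEle : E ≤ (K pp).map π := by
      obtain ⟨k, hk⟩ := hEq.exists_card_eq
      have h1 := isComplementSystem_map C hK pp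
      intro e he
      have hcop : (Nat.card E).Coprime ((K pp).map π).index := by
        rw [hk, h1]
        exact Nat.coprime_pow_primes _ _ hq hp hqp
      obtain ⟨x, hx⟩ := exists_le_conj_hall (H := (K pp).map π) (by
        rw [h1]
        exact ((hp.coprime_iff_not_dvd).mpr (system_not_dvd (isComplementSystem_map C hK) pp)).symm.pow_right _) hcop
      have := Subgroup.map_mono (f := (MulAut.conj x⁻¹).toMonoidHom) hx
      change MulAut.conj x⁻¹ • E ≤ MulAut.conj x⁻¹ • (MulAut.conj x • (K pp).map π) at this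
      rw [conj_smul_conj_smul, inv_mul_cancel, conj_smul_one, Subgroup.Normal.conj_smul_eq_self] at this
      exact this he
    intro l hl
    obtain ⟨k, hk, e⟩ := hEle hl
    have : l * k⁻¹ ∈ C := by
      rw [← QuotientGroup.eq_one_iff, ← QuotientGroup.mk'_apply, map_mul, map_inv, e]
      exact mul_inv_cancel _
    simpa using mul_mem (mem_sup_left (T := K pp) this) (mem_sup_right hk)
  rw [mem_bot]
  have : b ∈ B ⊓ centralizer (L : Set G) := by
    refine ⟨hb, mem_centralizer_iff.mpr fun l hl => ?_⟩
    have hle : C ⊔ K pp ≤ centralizer ({b} : Set G) := sup_le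
      (fun c hc => mem_centralizer_singleton_iff.mpr ((mem_centralizer_iff.mp hc b hb).symm))
      fun x hx => mem_centralizer_singleton_iff.mpr (mem_centralizer_iff.mp hbK x hx)
    exact mem_centralizer_singleton_iff.mp (hle (hLK hl))
  rw [hCL, mem_bot] at this
  exact this

/-- A Carter subgroup contains the normalizer of some system reducing into it. -/
theorem exists_system_le : ∀ (n : ℕ) (G : Type u) [Group G] [Finite G] [Group.IsSolvable G], Nat.card G = n →
    ∀ C : Subgroup G, Cfsg.IsCarterSubgroup C → ∃ K : Nat.Primes → Subgroup G,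
      Cfsg.IsComplementSystem K ∧ Cfsg.systemNormalizer K ≤ C ∧
      ∀ r : Nat.Primes, ∀ c ∈ C, ¬ (r : ℕ) ∣ orderOf c → c ∈ K r := by
  intro n
  induction n using Nat.strong_induction_on with
  | _ n ih =>
  intro G _ _ _ hn C hC
  rcases subsingleton_or_nontrivial G with hs | hs
  · obtain ⟨K, hK⟩ := exists_complementSystem (G := G)
    refine ⟨K, hK, (Subsingleton.elim (α := Subgroup G) _ _).le, fun r c _ _ => ?_⟩
    rw [Subsingleton.elim c 1]; exact one_mem _
  obtain ⟨N, hNn, -, hN, hmin⟩ := exists_minimal_normal (N := (⊤ : Subgroup G)) top_ne_bot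
  haveI := hNn
  obtain ⟨hab, p, hp, -, hNp⟩ := minimal_normal_solvable hN inferInstance hmin
  haveI := Fact.mk hp
  set π := QuotientGroup.mk' N
  have hs : Function.Surjective π := QuotientGroup.mk'_surjective N
  obtain ⟨Kb, hKb, hDb, hred⟩ := ih _ (hn ▸ card_quotient_lt hN) (G ⧸ N) rfl (C.map π)
    (map_carter hC (sup_self_normalizing hC fun _ A B => (exists_and_conj _ _ rfl).2 A B))
  obtain ⟨Q, P, hQC, -, hP, hQc, hQP, hcomm, hCQ, -, -, hQmem⟩ := parts C hC.1 p
  set pp : Nat.Primes := ⟨p, hp⟩
  set T := (Kb pp).comap π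
  have hmemT : ∀ {x : G}, x ∈ T ↔ π x ∈ Kb pp := Iff.rfl
  have hNT : N ≤ T := fun x hx => by
    rw [hmemT, (show π x = 1 from (QuotientGroup.eq_one_iff x).mpr hx)]
    exact one_mem _
  have hQT : Q ≤ T := fun x hx => by
    refine hmemT.mpr (hred pp _ (mem_map_of_mem π (hQC hx)) fun hd => hQc ?_)
    exact (hd.trans (orderOf_map_dvd π x)).trans (Q.orderOf_dvd_natCard hx)
  obtain ⟨i, hi⟩ := hNp.exists_card_eq
  have hTidx : T.index = p ^ (Nat.card (G ⧸ N)).factorization p := by
    rw [index_comap_of_surjective _ hs]; exact hKb pp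
  have hvG : (Nat.card G).factorization p = (Nat.card (G ⧸ N)).factorization p + i := by
    rw [card_eq_card_quotient_mul_card_subgroup N, hi, Nat.factorization_mul Nat.card_pos.ne'
      (pow_ne_zero _ hp.ne_zero), Finsupp.add_apply, hp.factorization_pow, Finsupp.single_eq_same]
  have hnd : ¬ p ∣ Nat.card (Kb pp) := system_not_dvd hKb pp
  obtain ⟨H0, hH0⟩ := exists_hall_of_card (G := T) (m := Nat.card (Kb pp)) (n := Nat.card N)
    (by rw [card_comap_mk', mul_comm]) (by rw [hi]; exact ((hp.coprime_iff_not_dvd.mpr hnd).symm).pow_right _)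
  have hH0i : H0.index = Nat.card N := index_eq_of_card (by rw [card_comap_mk', mul_comm]) hH0
  obtain ⟨x, hx⟩ := exists_le_conj_hall (H := H0) (K := Q.subgroupOf T) (by
      rw [hH0, hH0i, hi]; exact ((hp.coprime_iff_not_dvd.mpr hnd).symm).pow_right _) (by
      rw [card_subgroupOf hQT, hH0i, hi]; exact ((hp.coprime_iff_not_dvd.mpr hQc).symm).pow_right _)
  set Kp := (MulAut.conj x • H0).map T.subtype
  have hKpT : Kp ≤ T := map_subtype_le _
  have hQKp : Q ≤ Kp := fun y hy => ⟨⟨y, hQT hy⟩, hx hy, rfl⟩
  have hKpc : Nat.card Kp = Nat.card (Kb pp) := by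
    rw [card_map_of_injective T.subtype_injective, card_conj_smul, hH0]
  have hKpi : Kp.index = p ^ (Nat.card G).factorization p := by
    refine Nat.eq_of_mul_eq_mul_left (Nat.card_pos (α := Kp)) ?_
    rw [Kp.card_mul_index, hvG, ← T.card_mul_index, hTidx, card_comap_mk', hKpc, hi, pow_add]
    ring
  classical
  let K : Nat.Primes → Subgroup G := fun r => if r = pp then Kp else (Kb r).comap π
  have hK : Cfsg.IsComplementSystem K := by
    intro r
    by_cases hr : r = pp
    · subst hr; simp only [K, if_true]; exact hKpi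
    · simp only [K, if_neg hr]
      rw [index_comap_of_surjective _ hs, hKb r]
      have hrp : (r : ℕ) ≠ p := fun e => hr (Subtype.ext e)
      congr 1
      rw [card_eq_card_quotient_mul_card_subgroup N, hi, Nat.factorization_mul Nat.card_pos.ne'
        (pow_ne_zero _ hp.ne_zero), Finsupp.add_apply, hp.factorization_pow,
        Finsupp.single_eq_of_ne hrp, add_zero]
  refine ⟨K, hK, ?_, ?_⟩
  · intro d hd
    have hdH : d ∈ C ⊔ N := by
      have h1 : π d ∈ C.map π := hDb (by
        refine mem_iInf.mpr fun r => ?_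
        have h2 := mem_iInf.mp hd r
        by_cases hr : r = pp
        · subst hr
          simp only [K, if_true] at h2
          have e : Kp.map π = Kb pp := by
            refine eq_of_le_of_card_ge (map_le_iff_le_comap.mpr hKpT) (le_of_eq ?_)
            rw [← hKpc]
            refine (card_map_of_inf_ker_eq_bot π ?_).symm
            rw [QuotientGroup.ker_mk']
            refine disjoint_iff.mp (disjoint_of_coprime_natCard ?_)
            rw [hKpc, hi]
            exact ((hp.coprime_iff_not_dvd.mpr hnd).symm).pow_right _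
          rw [← e, ← conj_smul_eq_self_iff, ← map_conj_smul, conj_smul_eq_self_iff.mpr h2]
        · simp only [K, if_neg hr] at h2
          rw [← comap_normalizer_eq_of_surjective _ hs] at h2
          exact h2)
      have h3 : d ∈ (C.map π).comap π := h1
      rwa [comap_map_eq, QuotientGroup.ker_mk'] at h3
    have hdQ : d ∈ normalizer (Q : Set G) := by
      have hd' : d ∈ normalizer (Kp : Set G) := by
        have := mem_iInf.mp hd pp
        simpa only [K, if_true] using this
      -- `Q` is the intersection of `K p` with `C ⊔ N`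
      have e : Kp ⊓ (C ⊔ N) = Q := by
        refine (eq_of_le_of_card_ge (le_inf hQKp (hQC.trans le_sup_left)) (Nat.le_of_dvd Nat.card_pos ?_)).symm
        have h1 := card_mul_card_eq_card_sup_mul_card_inf (N := N) (H := C) le_normalizer_of_normal
        rw [sup_comm] at h1
        have h2 : Nat.card (C ⊔ N : Subgroup G) ∣ Nat.card N * Nat.card C := ⟨_, h1⟩
        have hPN : (Nat.card (Kp ⊓ (C ⊔ N) : Subgroup G)).Coprime (Nat.card N * Nat.card P) := by
          obtain ⟨j, hj⟩ := hP.exists_card_eq
          rw [hi, hj, ← pow_add]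
          refine (Nat.Coprime.pow_right _ ((hp.coprime_iff_not_dvd.mpr fun hd => hnd ?_).symm))
          rw [← hKpc]; exact hd.trans (card_dvd_of_le inf_le_left)
        have hC' : Nat.card C ∣ Nat.card Q * Nat.card P := by
          rw [← hQP]
          have h3 := card_mul_card_eq_card_sup_mul_card_inf (N := Q) (H := P)
            ((hQP ▸ le_sup_right : P ≤ C).trans hCQ)
          exact ⟨_, h3⟩
        refine hPN.dvd_of_dvd_mul_right ?_
        have h4 := ((card_dvd_of_le (inf_le_right : Kp ⊓ (C ⊔ N) ≤ C ⊔ N)).trans h2).trans (mul_dvd_mul_left _ hC')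
        rwa [show Nat.card Q * (Nat.card N * Nat.card P) = Nat.card N * (Nat.card Q * Nat.card P) by ring]
      rw [← e]
      exact conj_le_normalizer hd' (le_normalizer hdH)
    exact (normalizer_part hC hNp hP hQc hQP hcomm hCQ).le ⟨hdQ, hdH⟩
  · intro r c hc hrc
    by_cases hr : r = pp
    · subst hr; simp only [K, if_true]; exact hQKp (hQmem c hc hrc)
    · simp only [K, if_neg hr]
      exact hred r _ (mem_map_of_mem π hc) fun hd => hrc (hd.trans (orderOf_map_dvd π c))

/-- In a group of nilpotent length at most two Carter subgroups are system normalizers. -/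
theorem exists_system_eq [Group.IsSolvable G] (F : Subgroup G) [F.Normal] (hF : Group.IsNilpotent F)
    (hGF : Group.IsNilpotent (G ⧸ F)) {C : Subgroup G} (hC : Cfsg.IsCarterSubgroup C) :
    ∃ K : Nat.Primes → Subgroup G, Cfsg.IsComplementSystem K ∧ C = Cfsg.systemNormalizer K := by
  have hCF : C ⊔ F = ⊤ := by
    have hm := map_carter hC (sup_self_normalizing (N := F) hC fun _ A B => (exists_and_conj _ _ rfl).2 A B)
    have htop : Group.IsNilpotent (⊤ : Subgroup (G ⧸ F)) := by
      haveI := hGF; exact Group.nilpotent_of_mulEquiv Subgroup.topEquiv.symm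
    have := congrArg (Subgroup.comap (QuotientGroup.mk' F)) (eq_of_le_nilpotent hm le_top htop)
    rwa [comap_map_eq, QuotientGroup.ker_mk', comap_top] at this
  have hcard : Nat.card F * Nat.card C = Nat.card G * Nat.card (F ⊓ C : Subgroup G) := by
    rw [card_mul_card_eq_card_sup_mul_card_inf le_normalizer_of_normal, sup_comm, hCF, card_top]
  have hW : ∀ r : Nat.Primes, ∃ W : Subgroup G, W.index = (r : ℕ) ^ (Nat.card G).factorization r ∧
      C ≤ normalizer (W : Set G) := by
    intro r
    haveI := Fact.mk r.2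
    obtain ⟨Qc, Pc, hQcC, -, hPc, hQcc, hQPc, -, hCQc, -, hcC, -⟩ := parts C hC.1 (r : ℕ)
    obtain ⟨Qf, Pf, hQfF, -, hPf, hQfc, hQPf, -, -, -, hcF, hQfmem⟩ := parts F hF (r : ℕ)
    have hQfn : Qf.Normal := ⟨fun x hx g => hQfmem _ (Subgroup.Normal.conj_mem inferInstance _ (hQfF hx) g) (by
      rw [show g * x * g⁻¹ = MulAut.conj g x from rfl, MulEquiv.orderOf_eq]
      exact fun hd => hQfc (hd.trans (Qf.orderOf_dvd_natCard hx)))⟩
    haveI := hQfn
    refine ⟨Qf ⊔ Qc, ?_, fun c hc => ?_⟩
    · have h1 := card_mul_card_eq_card_sup_mul_card_inf (N := Qf) (H := Qc) le_normalizer_of_normal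
      have hWd : Nat.card (Qf ⊔ Qc : Subgroup G) ∣ Nat.card Qf * Nat.card Qc := ⟨_, h1⟩
      have hW0 : ¬ (r : ℕ) ∣ Nat.card (Qf ⊔ Qc : Subgroup G) := fun hd =>
        (r.2.dvd_mul.mp (hd.trans hWd)).elim hQfc hQcc
      obtain ⟨a, ha⟩ := hPf.exists_card_eq
      obtain ⟨b, hb⟩ := hPc.exists_card_eq
      set W := Qf ⊔ Qc
      have hdvd : W.index ∣ (r : ℕ) ^ (a + b) := by
        have h2 : Nat.card G ∣ Nat.card F * Nat.card C := ⟨_, hcard⟩
        have h3 : Nat.card G * Nat.card (Qf ⊓ Qc : Subgroup G) ∣ Nat.card F * Nat.card C := by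
          rw [hcard]; exact mul_dvd_mul_left _ (card_dvd_of_le (inf_le_inf hQfF hQcC))
        rw [← W.card_mul_index, hcF, hcC, ha, hb] at h3
        refine Nat.dvd_of_mul_dvd_mul_left (Nat.mul_pos (Nat.card_pos (α := Qf)) (Nat.card_pos (α := Qc))) ?_
        calc Nat.card Qf * Nat.card Qc * W.index = Nat.card W * W.index * Nat.card (Qf ⊓ Qc : Subgroup G) := by
              rw [h1]; ring
          _ ∣ Nat.card Qf * (r : ℕ) ^ a * (Nat.card Qc * (r : ℕ) ^ b) := h3
          _ = Nat.card Qf * Nat.card Qc * (r : ℕ) ^ (a + b) := by rw [pow_add]; ring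
      obtain ⟨k, -, hk⟩ := (Nat.dvd_prime_pow r.2).mp hdvd
      rw [hk]
      congr 1
      rw [← W.card_mul_index, hk, Nat.factorization_mul Nat.card_pos.ne' (pow_ne_zero _ r.2.ne_zero),
        Finsupp.add_apply, r.2.factorization_pow, Finsupp.single_eq_same,
        Nat.factorization_eq_zero_of_not_dvd hW0, zero_add]
    · rw [← conj_smul_eq_self_iff, Subgroup.smul_sup,
        conj_smul_eq_self_iff.mpr (le_normalizer_of_normal (mem_top c)),
        conj_smul_eq_self_iff.mpr (hCQc hc)]
  choose W hWi hWn using hW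
  refine ⟨W, hWi, ?_⟩
  exact eq_of_le_nilpotent hC (le_iInf hWn) (systemNormalizer_isNilpotent hWi)

end Cfsg.Agent.Basics.Carter
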