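import Cfsg.Agent.Lib.Basics.SchurZassenhaus

/-!
Coprime action: Glauberman's lemma, fixed points in quotients, invariant Sylow subgroups,
commutators.  Everything is phrased for subgroups `A`, `K` of one group with
`A ≤ normalizer K`, coprime orders and `A` or `K` solvable.
-/

set_option autoImplicit false
set_option linter.style.haveILetI false

open scoped Pointwise commutatorElement

namespace Cfsg.Agent.Basics

variable {G : Type*} [Group G] [Finite G]

/-- An element of `N` normalising `A` centralises `A` when `A` normalises `N` and `A ∩ N = 1`. -/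
theorem mem_centralizer_of_mem_normalizer {A N : Subgroup G} {c : G}
    (hdisj : A ⊓ N = ⊥) (hc : c ∈ Subgroup.normalizer (A : Set G))
    (hcom : ∀ a ∈ A, a * c * a⁻¹ * c⁻¹ ∈ N) : c ∈ Subgroup.centralizer (A : Set G) := by
  rw [Subgroup.mem_centralizer_iff]
  intro a ha
  have h1 : a * c * a⁻¹ * c⁻¹ ∈ A := by
    have := mul_mem ha ((conj_mem_iff_of_mem_normalizer hc).mpr (inv_mem ha))
    simpa only [mul_assoc] using this
  have h2 : a * c * a⁻¹ * c⁻¹ = 1 := by
    rw [← Subgroup.mem_bot, ← hdisj]; exact ⟨h1, hcom a ha⟩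
  rw [mul_inv_eq_one, mul_inv_eq_iff_eq_mul] at h2
  exact h2

/-- An element of `K` normalising `A` centralises `A` when `A` normalises `K` and `A ∩ K = 1`. -/
theorem mem_centralizer_of_mem_normalizer' {A K : Subgroup G} {c : G}
    (hAK : A ≤ Subgroup.normalizer (K : Set G)) (hcop : (Nat.card A).Coprime (Nat.card K))
    (hcK : c ∈ K) (hc : c ∈ Subgroup.normalizer (A : Set G)) :
    c ∈ Subgroup.centralizer (A : Set G) :=
  mem_centralizer_of_mem_normalizer (Subgroup.disjoint_of_coprime_natCard hcop).eq_bot hc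
    fun _ ha => mul_mem ((conj_mem_iff_of_mem_normalizer (hAK ha)).mpr hcK) (inv_mem hcK)

/-- Glauberman's lemma: `A` normalises `K`, coprime orders, `A` or `K` solvable, both act on a set
`X` on which `K` is transitive.  Then `A` has a fixed point, and `K ∩ C(A)` is transitive on
them. -/
theorem glauberman {α : Type*} [MulAction G α] (A K : Subgroup G)
    (hAK : A ≤ Subgroup.normalizer (K : Set G))
    (hcop : (Nat.card A).Coprime (Nat.card K)) (hsolv : Group.IsSolvable A ∨ Group.IsSolvable K)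
    (X : Set α) (hne : X.Nonempty) (hAX : ∀ a ∈ A, ∀ x ∈ X, a • x ∈ X)
    (hKX : ∀ k ∈ K, ∀ x ∈ X, k • x ∈ X)
    (htrans : ∀ x ∈ X, ∀ y ∈ X, ∃ k ∈ K, k • x = y) :
    (∃ x ∈ X, ∀ a ∈ A, a • x = x) ∧
      ∀ x ∈ X, ∀ y ∈ X, (∀ a ∈ A, a • x = x) → (∀ a ∈ A, a • y = y) →
        ∃ c ∈ K ⊓ Subgroup.centralizer (A : Set G), c • x = y := by
  constructor
  · obtain ⟨x, hx⟩ := hne
    set S := (K ⊔ A) ⊓ MulAction.stabilizer G x with hS
    have hSM : S ≤ K ⊔ A := inf_le_left
    have hMK : K ⊔ A ≤ Subgroup.normalizer (K : Set G) := sup_le Subgroup.le_normalizer hAK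
    have hsup : K ⊔ S = K ⊔ A := by
      refine le_antisymm (sup_le le_sup_left hSM) (sup_le le_sup_left fun a ha => ?_)
      obtain ⟨k, hk, hkx⟩ := htrans _ (hAX a ha x hx) x hx
      have : k * a ∈ S :=
        ⟨mul_mem (Subgroup.mem_sup_left hk) (Subgroup.mem_sup_right ha), by
          show (k * a) • x = x
          rw [mul_smul, hkx]⟩
      have := mul_mem (Subgroup.mem_sup_left (T := S) (inv_mem hk)) (Subgroup.mem_sup_right this)
      rwa [inv_mul_cancel_left] at this
    set D := (K ⊓ S).subgroupOf S with hD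
    have hDn : D.Normal := by
      rw [hD, Subgroup.inf_subgroupOf_right, Subgroup.normal_subgroupOf_iff_le_normalizer_inf]
      intro s hs
      rw [← conj_smul_eq_self_iff, Subgroup.smul_inf, conj_smul_eq_self_iff.mpr (hMK (hSM hs)),
        Subgroup.conj_smul_eq_self_of_mem hs]
    have hcardS : Nat.card S = Nat.card A * Nat.card (K ⊓ S : Subgroup G) := by
      have h1 := card_mul_card_eq_card_sup_mul_card_inf (N := K) (hSM.trans hMK)
      rw [hsup, card_sup_of_coprime hAK hcop.symm, mul_assoc] at h1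
      exact Nat.eq_of_mul_eq_mul_left Nat.card_pos h1
    have hidx : D.index = Nat.card A := by
      have h := D.card_mul_index
      rw [hcardS, hD, card_subgroupOf inf_le_right, mul_comm] at h
      exact Nat.eq_of_mul_eq_mul_right Nat.card_pos h
    obtain ⟨B', hB'⟩ := Subgroup.exists_right_complement'_of_coprime (N := D) (by
      rw [hidx, hD, card_subgroupOf inf_le_right]
      exact (hcop.coprime_dvd_right (Subgroup.card_dvd_of_le inf_le_left)).symm)
    set B := B'.map S.subtype with hB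
    have hBS : B ≤ S := Subgroup.map_subtype_le _
    have hBcard : Nat.card B = Nat.card A := by
      rw [hB, Subgroup.card_map_of_injective S.subtype_injective, ← hidx,
        hB'.symm.index_eq_card]
    obtain ⟨n, hn, hne⟩ := exists_conj_eq_of_coprime K A B hAK hcop.symm
      (hBS.trans hSM) hBcard hsolv.symm
    refine ⟨n⁻¹ • x, hKX _ (inv_mem hn) x hx, fun a ha => ?_⟩
    have h1 : n * a * n⁻¹ ∈ B := hne ▸ conj_mem_conj_smul ha
    have h2 : (n * a * n⁻¹) • x = x := (hBS h1).2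
    rwa [mul_smul, mul_smul, ← eq_inv_smul_iff] at h2
  · intro x hx y hy hAx hAy
    obtain ⟨k, hk, rfl⟩ := htrans x hx y hy
    set N := K ⊓ MulAction.stabilizer G (k • x) with hN
    have hAN : A ≤ Subgroup.normalizer (N : Set G) := by
      intro a ha
      rw [← conj_smul_eq_self_iff, hN, Subgroup.smul_inf, conj_smul_eq_self_iff.mpr (hAK ha),
        Subgroup.conj_smul_eq_self_of_mem (show a ∈ MulAction.stabilizer G (k • x) from hAy a ha)]
    have hle : MulAut.conj k • A ≤ N ⊔ A := by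
      intro b hb
      rw [mem_conj_smul] at hb
      have hby : b • k • x = k • x := by
        have h1 := hAx _ hb
        rwa [mul_smul, mul_smul, inv_smul_eq_iff] at h1
      have hbKA : b ∈ K ⊔ A := by
        have h2 := mul_mem (mul_mem (Subgroup.mem_sup_left (T := A) hk)
          (Subgroup.mem_sup_right hb)) (Subgroup.mem_sup_left (inv_mem hk))
        simpa [mul_assoc] using h2
      obtain ⟨n, hn, a, ha, rfl⟩ := (mem_sup_of_le_normalizer hAK).mp hbKA
      refine mul_mem (Subgroup.mem_sup_left ⟨hn, ?_⟩) (Subgroup.mem_sup_right ha)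
      show n • k • x = k • x
      rwa [mul_smul, hAy a ha] at hby
    obtain ⟨n, hn, hne⟩ := exists_conj_eq_of_coprime N A (MulAut.conj k • A) hAN
      (hcop.symm.coprime_dvd_left (Subgroup.card_dvd_of_le inf_le_left)) hle
      (card_conj_smul k A) (hsolv.symm.imp_left (isSolvable_of_le inf_le_left))
    have hcK : n⁻¹ * k ∈ K := mul_mem (inv_mem hn.1) hk
    refine ⟨n⁻¹ * k, ⟨hcK, mem_centralizer_of_mem_normalizer' hAK hcop hcK ?_⟩, ?_⟩
    · rw [← conj_smul_eq_self_iff, ← conj_smul_conj_smul]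
      exact conj_smul_inv_eq hne
    · rw [mul_smul, inv_smul_eq_iff]
      exact (hn.2).symm

/-- Glauberman's lemma for the conjugation action on subgroups. -/
theorem glauberman_conj (A K : Subgroup G) (hAK : A ≤ Subgroup.normalizer (K : Set G))
    (hcop : (Nat.card A).Coprime (Nat.card K)) (hsolv : Group.IsSolvable A ∨ Group.IsSolvable K)
    (X : Set (Subgroup G)) (hne : X.Nonempty)
    (hAX : ∀ a ∈ A, ∀ S ∈ X, MulAut.conj a • S ∈ X)
    (hKX : ∀ k ∈ K, ∀ S ∈ X, MulAut.conj k • S ∈ X)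
    (htrans : ∀ S ∈ X, ∀ T ∈ X, ∃ k ∈ K, MulAut.conj k • S = T) :
    (∃ S ∈ X, A ≤ Subgroup.normalizer (S : Set G)) ∧
      ∀ S ∈ X, ∀ T ∈ X, A ≤ Subgroup.normalizer (S : Set G) →
        A ≤ Subgroup.normalizer (T : Set G) →
        ∃ c ∈ K ⊓ Subgroup.centralizer (A : Set G), MulAut.conj c • S = T := by
  letI : MulAction G (Subgroup G) := MulAction.compHom _ (MulAut.conj : G →* MulAut G)
  obtain ⟨⟨S, hS, hfix⟩, h2⟩ := glauberman A K hAK hcop hsolv X hne hAX hKX htrans
  exact ⟨⟨S, hS, fun a ha => conj_smul_eq_self_iff.mp (hfix a ha)⟩, fun S hS T hT hAS hAT =>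
    h2 S hS T hT (fun a ha => conj_smul_eq_self_iff.mpr (hAS ha))
      (fun a ha => conj_smul_eq_self_iff.mpr (hAT ha))⟩

/-- An `A`-fixed left coset `x D` of an `A`-invariant subgroup `D` contains an element centralising
`A` (`D` need not be normalised by `x`). -/
theorem exists_centralizer_mem_leftCoset (A D : Subgroup G)
    (hAD : A ≤ Subgroup.normalizer (D : Set G)) (hcop : (Nat.card A).Coprime (Nat.card D))
    (hsolv : Group.IsSolvable A ∨ Group.IsSolvable D)
    (x : G) (hfix : ∀ a ∈ A, x⁻¹ * a * x * a⁻¹ ∈ D) :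
    ∃ c ∈ Subgroup.centralizer (A : Set G), x⁻¹ * c ∈ D := by
  set N := MulAut.conj x • D with hN
  have hmemN : ∀ d ∈ D, x * d * x⁻¹ ∈ N := fun d hd => conj_mem_conj_smul hd
  have hAN : A ≤ Subgroup.normalizer (N : Set G) := by
    intro a ha
    have : MulAut.conj a • N ≤ N := by
      intro y hy
      rw [hN, conj_smul_conj_smul, mem_conj_smul] at hy
      rw [hN, mem_conj_smul]
      have h1 := (conj_mem_iff_of_mem_normalizer (hAD ha)).mpr hy
      have h2 := hfix a ha
      convert mul_mem (mul_mem h2 h1) (inv_mem h2) using 1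
      group
    exact conj_smul_eq_self_iff.mp (Subgroup.eq_of_le_of_card_ge this (card_conj_smul a N).ge)
  obtain ⟨⟨y, ⟨n, hn, rfl⟩, hy⟩, -⟩ := glauberman A N hAN
    ((card_conj_smul x D).symm ▸ hcop) (hsolv.imp_right fun h => by
      have := h
      exact Group.isSolvable_of_surjective
        (f := (Subgroup.equivSMul (MulAut.conj x) D).toMonoidHom)
        (Subgroup.equivSMul (MulAut.conj x) D).surjective)
    {y : G ⧸ A | ∃ n ∈ N, ((n * x : G) : G ⧸ A) = y} ⟨_, 1, one_mem _, rfl⟩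
    (by
      rintro a ha _ ⟨n, hn, rfl⟩
      refine ⟨a * n * a⁻¹ * (x * (x⁻¹ * a * x * a⁻¹) * x⁻¹),
        mul_mem ((conj_mem_iff_of_mem_normalizer (hAN ha)).mpr hn) (hmemN _ (hfix a ha)), ?_⟩
      refine QuotientGroup.eq.mpr ?_
      convert ha using 1
      simp only [smul_eq_mul]
      group)
    (by
      rintro m hm _ ⟨n, hn, rfl⟩
      exact ⟨m * n, mul_mem hm hn, by rw [mul_assoc]; rfl⟩)
    (by
      rintro _ ⟨n, hn, rfl⟩ _ ⟨m, hm, rfl⟩
      refine ⟨m * n⁻¹, mul_mem hm (inv_mem hn), ?_⟩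
      show ((m * n⁻¹ * (n * x) : G) : G ⧸ A) = _
      rw [mul_assoc, inv_mul_cancel_left])
  rw [hN, mem_conj_smul] at hn
  obtain ⟨d, hd, rfl⟩ : ∃ d ∈ D, n = x * d * x⁻¹ := ⟨x⁻¹ * n * x, hn, by group⟩
  refine ⟨x * d, ?_, by rwa [inv_mul_cancel_left]⟩
  rw [Subgroup.mem_centralizer_iff]
  intro a ha
  have h1 := inv_mem (QuotientGroup.eq.mp (hy a ha))
  simp only [smul_eq_mul, mul_inv_rev, inv_inv] at h1
  have h2 : (x * d)⁻¹ * a * (x * d) * a⁻¹ ∈ A := by
    refine mul_mem ?_ (inv_mem ha)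
    convert h1 using 1
    group
  have h3 : (x * d)⁻¹ * a * (x * d) * a⁻¹ ∈ D := by
    convert mul_mem (mul_mem (inv_mem hd) (hfix a ha))
      ((conj_mem_iff_of_mem_normalizer (hAD ha)).mpr hd) using 1
    group
  have h4 : (x * d)⁻¹ * a * (x * d) * a⁻¹ = 1 := by
    rw [← Subgroup.mem_bot, ← (Subgroup.disjoint_of_coprime_natCard hcop).eq_bot]
    exact ⟨h2, h3⟩
  rw [mul_inv_eq_one, mul_assoc, inv_mul_eq_iff_eq_mul] at h4
  exact h4

/-- Fixed points pass to quotients: an `A`-fixed coset of `N` contains an element centralising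
`A` (only `A` and `N` need to have coprime orders). -/
theorem exists_centralizer_mem_coset (A N : Subgroup G)
    (hAN : A ≤ Subgroup.normalizer (N : Set G)) (hcop : (Nat.card A).Coprime (Nat.card N))
    (hsolv : Group.IsSolvable A ∨ Group.IsSolvable N)
    (k : G) (hk : k ∈ Subgroup.normalizer (N : Set G))
    (hfix : ∀ a ∈ A, a * k * a⁻¹ * k⁻¹ ∈ N) :
    ∃ c ∈ Subgroup.centralizer (A : Set G), k⁻¹ * c ∈ N :=
  exists_centralizer_mem_leftCoset A N hAN hcop hsolv k fun a ha => by
    convert (conj_mem_iff_of_mem_normalizer (inv_mem hk)).mpr (hfix a ha) using 1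
    group

/-- `C_{K/N}(A) = C_K(A) N / N`. -/
theorem map_inf_centralizer (A K N : Subgroup G) [N.Normal] (hNK : N ≤ K)
    (hcop : (Nat.card A).Coprime (Nat.card N))
    (hsolv : Group.IsSolvable A ∨ Group.IsSolvable N) :
    (K ⊓ Subgroup.centralizer (A : Set G)).map (QuotientGroup.mk' N) =
      K.map (QuotientGroup.mk' N) ⊓
        Subgroup.centralizer ((A.map (QuotientGroup.mk' N)) : Set (G ⧸ N)) := by
  apply le_antisymm
  · rintro _ ⟨x, ⟨hxK, hxC⟩, rfl⟩
    refine ⟨⟨x, hxK, rfl⟩, ?_⟩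
    rintro _ ⟨a, ha, rfl⟩
    rw [← map_mul, ← map_mul, Subgroup.mem_centralizer_iff.mp hxC a ha]
  · rintro _ ⟨⟨x, hxK, rfl⟩, hx⟩
    obtain ⟨c, hc, hcN⟩ := exists_centralizer_mem_coset A N Subgroup.le_normalizer_of_normal
      hcop hsolv x (Subgroup.le_normalizer_of_normal (H := N) (Subgroup.mem_top x)) (fun a ha => by
        rw [← QuotientGroup.eq_one_iff]
        have h := hx _ ⟨a, ha, rfl⟩
        simp only [QuotientGroup.mk'_apply] at h
        simp only [QuotientGroup.mk_mul, QuotientGroup.mk_inv, h]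
        group)
    refine ⟨c, ⟨?_, hc⟩, ?_⟩
    · simpa using mul_mem hxK (hNK hcN)
    · exact (QuotientGroup.eq.mpr hcN).symm

/-- Fixed points in a fixed coset, inside `K`. -/
theorem exists_inf_centralizer_mem_coset (A K N : Subgroup G) (hNK : N ≤ K)
    (hKN : K ≤ Subgroup.normalizer (N : Set G)) (hAN : A ≤ Subgroup.normalizer (N : Set G))
    (hcop : (Nat.card A).Coprime (Nat.card K)) (hsolv : Group.IsSolvable A ∨ Group.IsSolvable K)
    (k : G) (hk : k ∈ K) (hfix : ∀ a ∈ A, a * k * a⁻¹ * k⁻¹ ∈ N) :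
    ∃ c ∈ K ⊓ Subgroup.centralizer (A : Set G), k⁻¹ * c ∈ N := by
  obtain ⟨c, hc, hcN⟩ := exists_centralizer_mem_coset A N hAN
    (hcop.coprime_dvd_right (Subgroup.card_dvd_of_le hNK))
    (hsolv.imp_right (isSolvable_of_le hNK)) k (hKN hk) hfix
  exact ⟨c, ⟨by simpa using mul_mem hk (hNK hcN), hc⟩, hcN⟩

/-- Every element of `K` is a product of an element of `[K, A]` and a fixed point. -/
theorem exists_mem_commutator_mul (A K : Subgroup G)
    (hAK : A ≤ Subgroup.normalizer (K : Set G))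
    (hcop : (Nat.card A).Coprime (Nat.card K)) (hsolv : Group.IsSolvable A ∨ Group.IsSolvable K)
    {k : G} (hk : k ∈ K) :
    ∃ n ∈ ⁅K, A⁆, ∃ c ∈ K ⊓ Subgroup.centralizer (A : Set G), k = n * c := by
  have hNK : ⁅K, A⁆ ≤ K := Subgroup.le_normalizer_iff_commutator_le_left.mp hAK
  obtain ⟨c, hc, hcN⟩ := exists_inf_centralizer_mem_coset A K ⁅K, A⁆ hNK
    (Subgroup.normalizer_commutator_ge_left _ _) (Subgroup.normalizer_commutator_ge_right _ _) hcop hsolv
    k hk (fun a ha => by
      rw [Subgroup.commutator_comm]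
      exact Subgroup.commutator_mem_commutator ha hk)
  refine ⟨k * c⁻¹, ?_, c, hc, by group⟩
  have hkn : k ∈ Subgroup.normalizer ((⁅K, A⁆ : Subgroup G) : Set G) :=
    Subgroup.normalizer_commutator_ge_left _ _ hk
  have h := inv_mem ((conj_mem_iff_of_mem_normalizer hkn).mpr hcN)
  simpa [mul_assoc] using h

/-- `K = [K, A] C_K(A)`. -/
theorem commutator_sup_inf_centralizer (A K : Subgroup G)
    (hAK : A ≤ Subgroup.normalizer (K : Set G))
    (hcop : (Nat.card A).Coprime (Nat.card K)) (hsolv : Group.IsSolvable A ∨ Group.IsSolvable K) :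
    ⁅K, A⁆ ⊔ (K ⊓ Subgroup.centralizer (A : Set G)) = K := by
  refine le_antisymm (sup_le (Subgroup.le_normalizer_iff_commutator_le_left.mp hAK) inf_le_left)
    fun k hk => ?_
  obtain ⟨n, hn, c, hc, rfl⟩ := exists_mem_commutator_mul A K hAK hcop hsolv hk
  exact mul_mem (Subgroup.mem_sup_left hn) (Subgroup.mem_sup_right hc)

/-- `[K, A, A] = [K, A]`. -/
theorem commutator_commutator_eq (A K : Subgroup G)
    (hAK : A ≤ Subgroup.normalizer (K : Set G))
    (hcop : (Nat.card A).Coprime (Nat.card K)) (hsolv : Group.IsSolvable A ∨ Group.IsSolvable K) :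
    ⁅⁅K, A⁆, A⁆ = ⁅K, A⁆ := by
  refine le_antisymm
    (Subgroup.commutator_mono (Subgroup.le_normalizer_iff_commutator_le_left.mp hAK) le_rfl) ?_
  rw [Subgroup.commutator_le]
  intro k hk a ha
  obtain ⟨n, hn, c, hc, rfl⟩ := exists_mem_commutator_mul A K hAK hcop hsolv hk
  have hca : a * c = c * a := Subgroup.mem_centralizer_iff.mp hc.2 a ha
  have : ⁅n * c, a⁆ = ⁅n, a⁆ := by
    simp only [commutatorElement_def, mul_inv_rev]
    calc n * c * a * (c⁻¹ * n⁻¹) * a⁻¹ = n * (c * a) * c⁻¹ * n⁻¹ * a⁻¹ := by group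
    _ = n * (a * c) * c⁻¹ * n⁻¹ * a⁻¹ := by rw [hca]
    _ = n * a * n⁻¹ * a⁻¹ := by group
  rw [this]
  exact Subgroup.commutator_mem_commutator hn ha

/-- Coprime action stabilising a chain `K ≥ L ≥ 1` is trivial. -/
theorem le_centralizer_of_commutator_commutator_eq_bot (A K : Subgroup G)
    (hAK : A ≤ Subgroup.normalizer (K : Set G))
    (hcop : (Nat.card A).Coprime (Nat.card K)) (hsolv : Group.IsSolvable A ∨ Group.IsSolvable K)
    (h : ⁅⁅K, A⁆, A⁆ = ⊥) : A ≤ Subgroup.centralizer (K : Set G) := by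
  rw [commutator_commutator_eq A K hAK hcop hsolv, Subgroup.commutator_comm] at h
  exact Subgroup.commutator_eq_bot_iff_le_centralizer.mp h

/-- `S` is a Sylow `p`-subgroup of `K`, as a condition on subgroups of the ambient group. -/
def IsSylowIn (p : ℕ) (K S : Subgroup G) : Prop :=
  S ≤ K ∧ Nat.card S = p ^ (Nat.card K).factorization p

theorem isSylowIn_map {p : ℕ} [Fact p.Prime] {K : Subgroup G} (P : Sylow p K) :
    IsSylowIn p K ((P : Subgroup K).map K.subtype) :=
  ⟨Subgroup.map_subtype_le _, by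
    rw [Subgroup.card_map_of_injective K.subtype_injective]; exact P.card_eq_multiplicity⟩

theorem IsSylowIn.exists_sylow {p : ℕ} [Fact p.Prime] {K S : Subgroup G} (h : IsSylowIn p K S) :
    ∃ P : Sylow p K, (P : Subgroup K).map K.subtype = S :=
  ⟨Sylow.ofCard (S.subgroupOf K) ((card_subgroupOf h.1).trans h.2), by
    rw [Sylow.coe_ofCard, Subgroup.map_subgroupOf_eq_of_le h.1]⟩

theorem IsSylowIn.isPGroup {p : ℕ} {K S : Subgroup G} (h : IsSylowIn p K S) : IsPGroup p S :=
  IsPGroup.of_card h.2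

theorem IsSylowIn.conj_smul {p : ℕ} {K S : Subgroup G} (h : IsSylowIn p K S) {g : G}
    (hg : g ∈ Subgroup.normalizer (K : Set G)) : IsSylowIn p K (MulAut.conj g • S) :=
  ⟨(Subgroup.pointwise_smul_le_pointwise_smul_iff.mpr h.1).trans
    (conj_smul_eq_self_iff.mpr hg).le, (card_conj_smul g S).trans h.2⟩

theorem IsSylowIn.exists_conj {p : ℕ} [Fact p.Prime] {K S T : Subgroup G} (hS : IsSylowIn p K S)
    (hT : IsSylowIn p K T) : ∃ k ∈ K, MulAut.conj k • S = T := by
  obtain ⟨P, rfl⟩ := hS.exists_sylow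
  obtain ⟨Q, rfl⟩ := hT.exists_sylow
  obtain ⟨k, rfl⟩ := MulAction.exists_smul_eq K P Q
  refine ⟨k, k.2, ?_⟩
  rw [Sylow.coe_subgroup_smul]
  exact (map_conj_smul K.subtype k _).symm

theorem exists_invariant_isSylowIn (A K : Subgroup G)
    (hAK : A ≤ Subgroup.normalizer (K : Set G))
    (hcop : (Nat.card A).Coprime (Nat.card K)) (hsolv : Group.IsSolvable A ∨ Group.IsSolvable K)
    (p : ℕ) [Fact p.Prime] :
    ∃ S : Subgroup G, IsSylowIn p K S ∧ A ≤ Subgroup.normalizer (S : Set G) :=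
  (glauberman_conj A K hAK hcop hsolv {S | IsSylowIn p K S}
    ⟨_, isSylowIn_map (default : Sylow p K)⟩ (fun _ ha _ hS => hS.conj_smul (hAK ha))
    (fun _ hk _ hS => hS.conj_smul (Subgroup.le_normalizer hk))
    (fun _ hS _ hT => hS.exists_conj hT)).1

theorem invariant_isSylowIn_conj (A K : Subgroup G)
    (hAK : A ≤ Subgroup.normalizer (K : Set G))
    (hcop : (Nat.card A).Coprime (Nat.card K)) (hsolv : Group.IsSolvable A ∨ Group.IsSolvable K)
    (p : ℕ) [Fact p.Prime] {S T : Subgroup G} (hS : IsSylowIn p K S) (hT : IsSylowIn p K T)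
    (hAS : A ≤ Subgroup.normalizer (S : Set G)) (hAT : A ≤ Subgroup.normalizer (T : Set G)) :
    ∃ c ∈ K ⊓ Subgroup.centralizer (A : Set G), MulAut.conj c • S = T :=
  (glauberman_conj A K hAK hcop hsolv {S | IsSylowIn p K S} ⟨S, hS⟩
    (fun _ ha _ hS => hS.conj_smul (hAK ha))
    (fun _ hk _ hS => hS.conj_smul (Subgroup.le_normalizer hk))
    (fun _ hS _ hT => hS.exists_conj hT)).2 S hS T hT hAS hAT

/-- An invariant `p`-subgroup of `K` lies in an invariant Sylow `p`-subgroup of `K`. -/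
theorem exists_invariant_isSylowIn_ge (A K : Subgroup G)
    (hAK : A ≤ Subgroup.normalizer (K : Set G))
    (hcop : (Nat.card A).Coprime (Nat.card K)) (hsolv : Group.IsSolvable A ∨ Group.IsSolvable K)
    (p : ℕ) [Fact p.Prime] (U : Subgroup G) (hUK : U ≤ K) (hU : IsPGroup p U)
    (hUA : A ≤ Subgroup.normalizer (U : Set G)) :
    ∃ S : Subgroup G, IsSylowIn p K S ∧ U ≤ S ∧ A ≤ Subgroup.normalizer (S : Set G) := by
  obtain ⟨V, hUV, ⟨hVK, hV, hVA⟩, hmax⟩ := Finite.exists_le_maximal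
    (p := fun V : Subgroup G => V ≤ K ∧ IsPGroup p V ∧ A ≤ Subgroup.normalizer (V : Set G))
    ⟨hUK, hU, hUA⟩
  refine ⟨V, ⟨hVK, ?_⟩, hUV, hVA⟩
  set L := K ⊓ Subgroup.normalizer (V : Set G) with hL
  have hVL : V ≤ L := le_inf hVK Subgroup.le_normalizer
  have hAL : A ≤ Subgroup.normalizer (L : Set G) := by
    intro a ha
    rw [← conj_smul_eq_self_iff, hL, Subgroup.smul_inf, conj_smul_eq_self_iff.mpr (hAK ha),
      ← normalizer_conj_smul, conj_smul_eq_self_iff.mpr (hVA ha)]
  obtain ⟨T, hT, hTA⟩ := exists_invariant_isSylowIn A L hAL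
    (hcop.coprime_dvd_right (Subgroup.card_dvd_of_le inf_le_left))
    (hsolv.imp_right (isSolvable_of_le inf_le_left)) p
  have hTV : T ≤ Subgroup.normalizer (V : Set G) := hT.1.trans inf_le_right
  have hsup : IsPGroup p (V ⊔ T : Subgroup G) :=
    hV.to_sup_of_normal_left' hT.isPGroup hTV
  have hsupA : A ≤ Subgroup.normalizer ((V ⊔ T : Subgroup G) : Set G) := by
    intro a ha
    rw [← conj_smul_eq_self_iff, Subgroup.smul_sup, conj_smul_eq_self_iff.mpr (hVA ha),
      conj_smul_eq_self_iff.mpr (hTA ha)]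
  have hTleV : T ≤ V := le_sup_right.trans
    (hmax ⟨sup_le hVK (hT.1.trans inf_le_left), hsup, hsupA⟩ le_sup_left)
  obtain ⟨k, hk⟩ := IsPGroup.iff_card.mp hV
  by_contra hne
  have hkdvd : p ^ k ∣ Nat.card K := hk ▸ Subgroup.card_dvd_of_le hVK
  have hlt : k < (Nat.card K).factorization p := by
    refine lt_of_le_of_ne ((Nat.Prime.pow_dvd_iff_le_factorization Fact.out Nat.card_pos.ne').mp
      hkdvd) fun h => hne (by rw [hk, h])
  have hd : p ^ (k + 1) ∣ Nat.card K :=
    (Nat.Prime.pow_dvd_iff_le_factorization Fact.out Nat.card_pos.ne').mpr hlt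
  have h1 : p ^ (k + 1) ∣ Nat.card (Subgroup.normalizer ((V.subgroupOf K : Subgroup K) : Set K)) :=
    Sylow.prime_pow_dvd_card_normalizer hd ((card_subgroupOf hVK).trans hk)
  have h2 : Nat.card (Subgroup.normalizer ((V.subgroupOf K : Subgroup K) : Set K)) =
      Nat.card L := by
    rw [← Subgroup.subgroupOf_normalizer_eq hVK, ← Subgroup.inf_subgroupOf_right,
      card_subgroupOf inf_le_right, inf_comm]
  have h3 : k + 1 ≤ (Nat.card L).factorization p :=
    (Nat.Prime.pow_dvd_iff_le_factorization Fact.out Nat.card_pos.ne').mp (h2 ▸ h1)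
  have h4 := Subgroup.card_dvd_of_le hTleV
  rw [hT.2, hk, Nat.pow_dvd_pow_iff_le_right (Fact.out : p.Prime).one_lt] at h4
  omega

/-- For an abelian `V` acted on coprimely, `C_V(A) ∩ [V, A] = 1`. -/
theorem inf_centralizer_inf_commutator_eq_bot (A V : Subgroup G) [IsMulCommutative V]
    (hAV : A ≤ Subgroup.normalizer (V : Set G)) (hcop : (Nat.card A).Coprime (Nat.card V)) :
    (V ⊓ Subgroup.centralizer (A : Set G)) ⊓ ⁅V, A⁆ = ⊥ := by
  classical
  haveI := Fintype.ofFinite A
  let φ : A → (V →* V) := fun a =>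
    { toFun := fun v => ⟨a * v * (a : G)⁻¹, (conj_mem_iff_of_mem_normalizer (hAV a.2)).mpr v.2⟩
      map_one' := Subtype.ext (by simp)
      map_mul' := fun v w => Subtype.ext (by simp [mul_assoc]) }
  letI : CommGroup V := { (inferInstance : Group V) with mul_comm := IsMulCommutative.is_comm.comm }
  let f : V →* V := ∏ a : A, φ a
  have hf : ∀ v, f v = ∏ a : A, φ a v := fun v => MonoidHom.finsetProd_apply _ _ _
  have hker : ⁅V, A⁆ ≤ f.ker.map V.subtype := by
    rw [Subgroup.commutator_le]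
    intro v hv a ha
    refine ⟨⟨v, hv⟩ * (φ ⟨a, ha⟩ ⟨v, hv⟩)⁻¹, ?_, ?_⟩
    · show f _ = 1
      rw [map_mul, map_inv, mul_inv_eq_one, hf, hf]
      rw [← Equiv.prod_comp (Equiv.mulRight (⟨a, ha⟩ : A)) (fun b => φ b ⟨v, hv⟩)]
      exact Finset.prod_congr rfl fun b _ => Subtype.ext (by simp [φ, mul_assoc])
    · simp [φ, commutatorElement_def, mul_assoc]
  rw [eq_bot_iff]
  rintro x ⟨⟨hxV, hxC⟩, hx⟩
  obtain ⟨y, hy, rfl⟩ := hker hx
  have hfix : ∀ a : A, φ a y = y := fun a => Subtype.ext (by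
    simp only [φ, MonoidHom.coe_mk, OneHom.coe_mk]
    have := Subgroup.mem_centralizer_iff.mp hxC a a.2
    simp only [Subgroup.subtype_apply] at this
    rw [this]
    simp)
  have h1 : f y = 1 := hy
  rw [hf, Finset.prod_congr rfl fun a _ => hfix a, Finset.prod_const, Finset.card_univ,
    ← Nat.card_eq_fintype_card] at h1
  have : y = 1 :=
    (powCoprime (G := V) hcop.symm).injective (h1.trans (one_pow (Nat.card A)).symm)
  simp [this]

end Cfsg.Agent.Basics
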