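import Cfsg.Agent.Lib.Basics.Tools

/-!
Conjugacy part of the Schur–Zassenhaus theorem.
-/

set_option autoImplicit false

open scoped Pointwise
open MulOpposite

namespace Cfsg.Agent.Basics

universe u

theorem card_map_mul_card_inf_ker {G G' : Type*} [Group G] [Group G'] (f : G →* G')
    (H : Subgroup G) :
    Nat.card (H.map f) * Nat.card (H ⊓ f.ker : Subgroup G) = Nat.card H := by
  rw [← MonoidHom.domRestrict_range, ← Subgroup.index_ker, mul_comm]
  have h : Nat.card (H ⊓ f.ker : Subgroup G) = Nat.card (f.domRestrict H).ker := by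
    rw [MonoidHom.ker_domRestrict, ← Subgroup.inf_subgroupOf_right,
      card_subgroupOf inf_le_right, inf_comm]
  rw [h, Subgroup.card_mul_index]

theorem card_map_of_inf_ker_eq_bot {G G' : Type*} [Group G] [Group G'] (f : G →* G')
    {H : Subgroup G} (h : H ⊓ f.ker = ⊥) : Nat.card (H.map f) = Nat.card H := by
  simpa [h] using card_map_mul_card_inf_ker f H

theorem card_map_eq_of_card_eq {G G' : Type*} [Group G] [Group G'] (f : G →* G') [Finite f.ker]
    {H K : Subgroup G} (h : Nat.card H = Nat.card K) (hH : f.ker ≤ H) (hK : f.ker ≤ K) :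
    Nat.card (H.map f) = Nat.card (K.map f) := by
  have h1 := card_map_mul_card_inf_ker f H
  have h2 := card_map_mul_card_inf_ker f K
  rw [inf_eq_right.mpr hH] at h1
  rw [inf_eq_right.mpr hK] at h2
  exact Nat.eq_of_mul_eq_mul_right (Nat.card_pos (α := f.ker)) (h1.trans (h.trans h2.symm))

/-- Abelian case. -/
theorem sz_conj_abelian {G : Type*} [Group G] [Finite G] (N : Subgroup G) [N.Normal]
    [IsMulCommutative N] (hN : (Nat.card N).Coprime N.index) (H K : Subgroup G)
    (hH : Subgroup.IsComplement' N H) (hK : Subgroup.IsComplement' N K) :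
    ∃ n ∈ N, MulAut.conj n • H = K := by
  have key : ∀ L : Subgroup G, Subgroup.IsComplement' N L →
      ∃ α : N.QuotientDiff, MulAction.stabilizer G α = L := by
    intro L hL
    let t : N.LeftTransversal := ⟨(L : Set G), hL.symm⟩
    let α : N.QuotientDiff := Quotient.mk'' t
    refine ⟨α, (Subgroup.eq_of_le_of_card_ge (fun h hh => ?_) ?_).symm⟩
    · show h • α = α
      show (Quotient.mk'' (op h⁻¹ • t) : N.QuotientDiff) = Quotient.mk'' t
      congr 1
      apply Subtype.ext
      exact op_smul_coe_set (inv_mem hh)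
    · have h1 := (Subgroup.isComplement'_stabilizer_of_coprime (α := α) hN).card_mul_card
      have h2 := hL.card_mul_card
      exact le_of_eq (Nat.eq_of_mul_eq_mul_left Nat.card_pos (h1.trans h2.symm))
  obtain ⟨α, hα⟩ := key H hH
  obtain ⟨β, hβ⟩ := key K hK
  obtain ⟨n, hn⟩ := Subgroup.exists_smul_eq hN α β
  refine ⟨n, n.2, ?_⟩
  rw [← hα, ← hβ, ← hn]
  exact (MulAction.stabilizer_smul_eq_stabilizer_map_conj (n : G) α).symm

private def SZProp (m : ℕ) : Prop :=
  ∀ (G : Type u) [Group G] [Finite G] (N H K : Subgroup G),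
    Nat.card G ≤ m → H ≤ Subgroup.normalizer (N : Set G) →
    (Nat.card N).Coprime (Nat.card H) → K ≤ N ⊔ H → Nat.card K = Nat.card H →
    Group.IsSolvable N ∨ Group.IsSolvable H → ∃ n ∈ N, MulAut.conj n • H = K

private theorem sz_aux : ∀ m, SZProp.{u} m := by
  intro m
  induction m using Nat.strong_induction_on with
  | _ m ih =>
  intro G _ _ N H K hm hnorm hcop hle hcard hsolv
  have reduce : ∀ {G' : Type u} [Group G'] [Finite G'] (N H K : Subgroup G'),
      Nat.card (N ⊔ H : Subgroup G') < m → H ≤ Subgroup.normalizer (N : Set G') →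
      (Nat.card N).Coprime (Nat.card H) → K ≤ N ⊔ H → Nat.card K = Nat.card H →
      Group.IsSolvable N ∨ Group.IsSolvable H → ∃ n ∈ N, MulAut.conj n • H = K := by
    intro G' _ _ N H K hlt hnorm hcop hle hcard hsolv
    set M := N ⊔ H
    have hNM : N ≤ M := le_sup_left
    have hHM : H ≤ M := le_sup_right
    obtain ⟨n, hn, hne⟩ := ih _ hlt ↥M (N.subgroupOf M) (H.subgroupOf M) (K.subgroupOf M) le_rfl
      (by
        have := normal_subgroupOf_sup hnorm
        exact Subgroup.le_normalizer_of_normal)
      (by rwa [card_subgroupOf hNM, card_subgroupOf hHM])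
      (by
        rw [← Subgroup.subgroupOf_sup hNM hHM, Subgroup.subgroupOf_self]
        exact le_top)
      (by rw [card_subgroupOf hle, card_subgroupOf hHM, hcard])
      (hsolv.imp (isSolvable_subgroupOf hNM) (isSolvable_subgroupOf hHM))
    refine ⟨n, hn, ?_⟩
    have := congrArg (Subgroup.map M.subtype) hne
    rwa [map_conj_smul, Subgroup.map_subgroupOf_eq_of_le hHM,
      Subgroup.map_subgroupOf_eq_of_le hle] at this
  by_cases htop : N ⊔ H = ⊤
  swap
  · exact reduce N H K ((card_lt_card_of_ne_top htop).trans_le hm) hnorm hcop hle hcard hsolv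
  have hNn : N.Normal := by
    rw [← Subgroup.normalizer_eq_top_iff, eq_top_iff, ← htop]
    exact sup_le Subgroup.le_normalizer hnorm
  have hG : Nat.card G = Nat.card N * Nat.card H := by
    rw [← card_sup_of_coprime hnorm hcop, htop, Subgroup.card_top]
  rcases eq_or_ne N ⊥ with hN | hN
  · refine ⟨1, one_mem _, ?_⟩
    rw [conj_smul_one]
    rw [hN, bot_sup_eq] at htop
    rw [htop, Subgroup.card_top] at hcard
    rw [htop, Subgroup.eq_top_of_card_eq K hcard]
  rcases eq_or_ne H ⊥ with hH | hH
  · refine ⟨1, one_mem _, ?_⟩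
    rw [conj_smul_one, hH]
    rw [hH, Subgroup.card_bot, Subgroup.card_eq_one] at hcard
    exact hcard.symm
  have hHc : Subgroup.IsComplement' N H := Subgroup.isComplement'_of_coprime hG.symm hcop
  have hKc : Subgroup.IsComplement' N K :=
    Subgroup.isComplement'_of_coprime (by rw [hcard, hG]) (by rwa [hcard])
  rcases hsolv with hs | hs
  · by_cases hab : IsMulCommutative N
    · have hidx : N.index = Nat.card H :=
        (hHc.symm.index_eq_card)
      exact sz_conj_abelian N (by rwa [hidx]) H K hHc hKc
    · set E := ⁅N, N⁆ with hE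
      have hEN : E ≤ N := N.commutator_le_self
      have hEne : E ≠ ⊥ := fun h => hab (Subgroup.commutator_self_eq_bot_iff.mp h)
      have hElt : E < N := by
        refine lt_of_le_of_ne hEN fun h => ?_
        have : Nontrivial N := N.nontrivial_iff_ne_bot.mpr hN
        apply (Group.IsSolvable.commutator_lt_top_of_nontrivial N).ne
        apply Subgroup.map_injective N.subtype_injective
        rw [Subgroup.map_subtype_commutator, ← MonoidHom.range_eq_map, Subgroup.range_subtype]
        exact h
      set π := QuotientGroup.mk' E with hπ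
      have hker : π.ker = E := QuotientGroup.ker_mk' E
      have hinf : ∀ L : Subgroup G, (Nat.card N).Coprime (Nat.card L) → L ⊓ π.ker = ⊥ := by
        intro L hL
        rw [hker, eq_bot_iff, inf_comm,
          ← (Subgroup.disjoint_of_coprime_natCard hL).eq_bot]
        exact inf_le_inf_right _ hEN
      have hHmap := card_map_of_inf_ker_eq_bot π (hinf H hcop)
      have hKmap := card_map_of_inf_ker_eq_bot π (hinf K (by rwa [hcard]))
      obtain ⟨x, hx, hxe⟩ := ih _ ((card_quotient_lt hEne).trans_le hm) (G ⧸ E)
        (N.map π) (H.map π) (K.map π) le_rfl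
        (by
          have : (N.map π).Normal := hNn.map π (QuotientGroup.mk'_surjective E)
          exact Subgroup.le_normalizer_of_normal)
        (by
          rw [hHmap]
          exact Nat.Coprime.coprime_dvd_left (N.card_map_dvd π) hcop)
        (by rw [← Subgroup.map_sup, htop]; exact Subgroup.map_mono le_top)
        (by rw [hKmap, hHmap, hcard])
        (Or.inl (isSolvable_map π hs))
      obtain ⟨n, hn, rfl⟩ := Subgroup.mem_map.mp hx
      rw [← map_conj_smul] at hxe
      have hle' : MulAut.conj n • H ≤ E ⊔ K := by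
        have h := (Subgroup.map_le_iff_le_comap.mp hxe.le)
        rwa [Subgroup.comap_map_eq, hker, sup_comm] at h
      have hKn : K ≤ Subgroup.normalizer (E : Set G) := Subgroup.le_normalizer_of_normal
      have hcE : (Nat.card E).Coprime (Nat.card K) := by
        rw [hcard]
        exact Nat.Coprime.coprime_dvd_left (Subgroup.card_dvd_of_le hEN) hcop
      obtain ⟨e, he, hee⟩ := reduce E K (MulAut.conj n • H)
        (by
          rw [card_sup_of_coprime hKn hcE, hcard]
          refine lt_of_lt_of_le ?_ (hG ▸ hm)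
          exact mul_lt_mul_of_pos_right (card_lt_of_lt hElt) Nat.card_pos)
        hKn hcE hle' (by rw [card_conj_smul, hcard]) (Or.inl (isSolvable_of_le hEN hs))
      refine ⟨e⁻¹ * n, mul_mem (inv_mem (hEN he)) hn, ?_⟩
      rw [← conj_smul_conj_smul]
      exact conj_smul_inv_eq hee
  · have : Nontrivial H := H.nontrivial_iff_ne_bot.mpr hH
    obtain ⟨p, E₀, hp, hE₀n, hE₀ne, hE₀p⟩ := exists_normal_pGroup (G := H)
    have : Fact p.Prime := ⟨hp⟩
    set E := E₀.map H.subtype with hEdef
    have hEH : E ≤ H := Subgroup.map_subtype_le _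
    have hEp : IsPGroup p E := hE₀p.map _
    have hEne : E ≠ ⊥ := by
      rwa [Ne, Subgroup.map_eq_bot_iff_of_injective _ H.subtype_injective]
    have hHE : H ≤ Subgroup.normalizer (E : Set G) := by
      rw [← Subgroup.normal_subgroupOf_iff_le_normalizer hEH]
      rwa [hEdef, Subgroup.subgroupOf, Subgroup.comap_map_eq_self_of_injective H.subtype_injective]
    have hpN : ¬ p ∣ Nat.card N := by
      intro hd
      have hpE : p ∣ Nat.card E :=
        hEp.card_eq_or_dvd.resolve_left (by rwa [Subgroup.card_eq_one])
      exact hp.not_dvd_one (hcop ▸ Nat.dvd_gcd hd (hpE.trans (Subgroup.card_dvd_of_le hEH)))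
    set M := N ⊔ E with hMdef
    have hEN : E ≤ Subgroup.normalizer (N : Set G) := hEH.trans hnorm
    have hMn : M.Normal := by
      rw [← Subgroup.normalizer_eq_top_iff, eq_top_iff, ← htop]
      refine sup_le (le_sup_left.trans Subgroup.le_normalizer) fun h hh => ?_
      rw [← conj_smul_eq_self_iff, hMdef, Subgroup.smul_sup,
        conj_smul_eq_self_iff.mpr (hnorm hh), conj_smul_eq_self_iff.mpr (hHE hh)]
    have hcE : (Nat.card N).Coprime (Nat.card E) :=
      Nat.Coprime.coprime_dvd_right (Subgroup.card_dvd_of_le hEH) hcop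
    have hMcard : Nat.card M = Nat.card N * Nat.card E := card_sup_of_coprime hEN hcE
    set E' := M ⊓ K with hE'def
    have hE'card : Nat.card E' = Nat.card E := by
      have hsup : N ⊔ E' = M := by
        refine le_antisymm (sup_le le_sup_left inf_le_left) fun x hx => ?_
        have hxt : x ∈ N ⊔ K := by rw [hKc.sup_eq_top]; trivial
        rw [mem_sup_of_le_normalizer Subgroup.le_normalizer_of_normal] at hxt
        obtain ⟨n, hn, k, hk, rfl⟩ := hxt
        refine mul_mem (Subgroup.mem_sup_left hn) (Subgroup.mem_sup_right ⟨?_, hk⟩)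
        exact (Subgroup.mul_mem_cancel_left _ (le_sup_left (b := E) hn)).mp hx
      have hc : (Nat.card N).Coprime (Nat.card E') := by
        apply Nat.Coprime.coprime_dvd_right (Subgroup.card_dvd_of_le (inf_le_right (a := M)))
        rwa [hcard]
      have h := card_sup_of_coprime (H := E')
        (Subgroup.le_normalizer_of_normal (H := N)) hc
      rw [hsup, hMcard] at h
      exact Nat.eq_of_mul_eq_mul_left Nat.card_pos h.symm
    have hE'p : IsPGroup p E' := by
      obtain ⟨k, hk⟩ := IsPGroup.iff_card.mp hEp
      exact IsPGroup.of_card (hE'card.trans hk)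
    have hidx : ∀ L : Subgroup G, L ≤ M → Nat.card L = Nat.card E →
        ¬ p ∣ (L.subgroupOf M).index := by
      intro L hLM hL
      have h := Subgroup.card_mul_index (L.subgroupOf M)
      rw [card_subgroupOf hLM, hL, hMcard, mul_comm (Nat.card N)] at h
      rwa [Nat.eq_of_mul_eq_mul_left Nat.card_pos h]
    let P : Sylow p M := (hEp.comap_subtype (K := M)).toSylow (hidx E le_sup_right rfl)
    let Q : Sylow p M := (hE'p.comap_subtype (K := M)).toSylow (hidx E' inf_le_left hE'card)
    obtain ⟨g, hg⟩ := MulAction.exists_smul_eq M P Q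
    have hg' : MulAut.conj g • E.subgroupOf M = E'.subgroupOf M := by
      have h := congrArg (fun S : Sylow p M => (S : Subgroup M)) hg
      rw [Sylow.coe_subgroup_smul] at h
      exact h
    have hgE : MulAut.conj (g : G) • E = E' := by
      have h := congrArg (Subgroup.map M.subtype) hg'
      rwa [map_conj_smul, Subgroup.map_subgroupOf_eq_of_le le_sup_right,
        Subgroup.map_subgroupOf_eq_of_le inf_le_left] at h
    obtain ⟨n, hn, e, he, hne⟩ := (mem_sup_of_le_normalizer hEN).mp g.2
    rw [hne, ← conj_smul_conj_smul, Subgroup.conj_smul_eq_self_of_mem he] at hgE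
    set H₁ := MulAut.conj n • H with hH₁
    set L := Subgroup.normalizer (E' : Set G) with hL
    have hH₁L : H₁ ≤ L := by
      rw [hL, ← hgE, normalizer_conj_smul, hH₁]
      exact Subgroup.pointwise_smul_le_pointwise_smul_iff.mpr hHE
    have hKL : K ≤ L := by
      intro k hk
      rw [hL, ← conj_smul_eq_self_iff, hE'def, Subgroup.smul_inf,
        Subgroup.Normal.conj_smul_eq_self, Subgroup.conj_smul_eq_self_of_mem hk]
    have hE'L : E' ≤ L := Subgroup.le_normalizer
    have hE'H₁ : E' ≤ H₁ := by
      rw [← hgE, hH₁]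
      exact Subgroup.pointwise_smul_le_pointwise_smul_iff.mpr hEH
    set D := E'.subgroupOf L with hD
    have hDn : D.Normal := Subgroup.normal_in_normalizer
    have hDne : D ≠ ⊥ := by
      intro h
      have h1 := card_subgroupOf hE'L
      rw [← hD, h, Subgroup.card_bot, hE'card] at h1
      exact hEne (Subgroup.card_eq_one.mp h1.symm)
    set π := QuotientGroup.mk' D with hπ
    have hker : π.ker = D := QuotientGroup.ker_mk' D
    have hlt : Nat.card (↥L ⧸ D) < m :=
      (card_quotient_lt hDne).trans_le ((Subgroup.card_le_card_group L).trans hm)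
    have hkH : π.ker ≤ H₁.subgroupOf L := hker.le.trans (Subgroup.comap_mono hE'H₁)
    have hkK : π.ker ≤ K.subgroupOf L := hker.le.trans (Subgroup.comap_mono inf_le_right)
    have hcards : Nat.card (K.subgroupOf L) = Nat.card (H₁.subgroupOf L) := by
      rw [card_subgroupOf hKL, card_subgroupOf hH₁L, hcard, hH₁, card_conj_smul]
    have hsupL : N.subgroupOf L ⊔ H₁.subgroupOf L = ⊤ := by
      rw [eq_top_iff]
      intro x _
      have hx : (x : G) ∈ N ⊔ H₁ := by
        have : MulAut.conj n • (N ⊔ H) = (⊤ : Subgroup G) := by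
          rw [htop]; exact Subgroup.Normal.conj_smul_eq_self n ⊤
        rw [Subgroup.smul_sup, Subgroup.Normal.conj_smul_eq_self] at this
        rw [hH₁, this]; trivial
      rw [mem_sup_of_le_normalizer Subgroup.le_normalizer_of_normal] at hx
      obtain ⟨a, ha, b, hb, hxab⟩ := hx
      have haL : a ∈ L := by
        have := mul_mem x.2 (inv_mem (hH₁L hb))
        rwa [hxab, mul_inv_cancel_right] at this
      have : x = ⟨a, haL⟩ * ⟨b, hH₁L hb⟩ := Subtype.ext hxab
      rw [this]
      refine mul_mem (Subgroup.mem_sup_left ?_) (Subgroup.mem_sup_right ?_)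
      · exact ha
      · exact hb
    have hNL : Nat.card (N.subgroupOf L) ∣ Nat.card N := by
      rw [← Subgroup.inf_subgroupOf_right, card_subgroupOf inf_le_right]
      exact Subgroup.card_dvd_of_le inf_le_left
    have hH₁card : Nat.card (H₁.subgroupOf L) = Nat.card H :=
      (card_subgroupOf hH₁L).trans (card_conj_smul n H)
    have hcop' : (Nat.card ((N.subgroupOf L).map π)).Coprime
        (Nat.card ((H₁.subgroupOf L).map π)) :=
      Nat.Coprime.of_dvd ((Subgroup.card_map_dvd (N.subgroupOf L) π).trans hNL)
        ((Subgroup.card_map_dvd (H₁.subgroupOf L) π).trans hH₁card.dvd) hcop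
    have hsH : Group.IsSolvable (MulAut.conj n • H : Subgroup G) :=
      Group.isSolvable_of_surjective (f := (Subgroup.equivSMul (MulAut.conj n) H).toMonoidHom)
        (Subgroup.equivSMul (MulAut.conj n) H).surjective
    have hsH₁ : Group.IsSolvable (H₁.subgroupOf L) := isSolvable_subgroupOf hH₁L hsH
    obtain ⟨x, hx, hxe⟩ := ih _ hlt (↥L ⧸ D) ((N.subgroupOf L).map π)
      ((H₁.subgroupOf L).map π) ((K.subgroupOf L).map π) le_rfl
      (by
        have : ((N.subgroupOf L).map π).Normal :=
          (hNn.subgroupOf L).map π (QuotientGroup.mk'_surjective D)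
        exact Subgroup.le_normalizer_of_normal)
      hcop'
      (by rw [← Subgroup.map_sup, hsupL]; exact Subgroup.map_mono le_top)
      (card_map_eq_of_card_eq π hcards hkK hkH)
      (Or.inr (isSolvable_map π hsH₁))
    obtain ⟨l, hl, rfl⟩ := Subgroup.mem_map.mp hx
    rw [← map_conj_smul] at hxe
    have hle' : MulAut.conj (l : G) • H₁ ≤ K := by
      have h := Subgroup.map_le_iff_le_comap.mp hxe.le
      rw [Subgroup.comap_map_eq, sup_eq_left.mpr hkK] at h
      have h' := Subgroup.map_mono (f := L.subtype) h
      rwa [map_conj_smul, Subgroup.map_subgroupOf_eq_of_le hH₁L,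
        Subgroup.map_subgroupOf_eq_of_le hKL] at h'
    refine ⟨(l : G) * n, mul_mem hl hn, ?_⟩
    rw [← conj_smul_conj_smul]
    exact Subgroup.eq_of_le_of_card_ge hle' (by rw [card_conj_smul, card_conj_smul, hcard])

/-- Conjugacy part of Schur–Zassenhaus, relative form. -/
theorem exists_conj_eq_of_coprime {G : Type*} [Group G] [Finite G] (N H K : Subgroup G)
    (hnorm : H ≤ Subgroup.normalizer (N : Set G)) (hcop : (Nat.card N).Coprime (Nat.card H))
    (hle : K ≤ N ⊔ H) (hcard : Nat.card K = Nat.card H)
    (hsolv : Group.IsSolvable N ∨ Group.IsSolvable H) : ∃ n ∈ N, MulAut.conj n • H = K :=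
  sz_aux _ G N H K le_rfl hnorm hcop hle hcard hsolv

/-- Conjugacy part of Schur–Zassenhaus for complements. -/
theorem isComplement'_conj {G : Type*} [Group G] [Finite G] (N : Subgroup G) [N.Normal]
    (hN : (Nat.card N).Coprime N.index)
    (hsolv : Group.IsSolvable N ∨ Group.IsSolvable (G ⧸ N))
    (H K : Subgroup G) (hH : Subgroup.IsComplement' N H) (hK : Subgroup.IsComplement' N K) :
    ∃ n ∈ N, MulAut.conj n • H = K := by
  have h1 : N.index = Nat.card H := hH.symm.index_eq_card
  refine exists_conj_eq_of_coprime N H K Subgroup.le_normalizer_of_normal (h1 ▸ hN) ?_ ?_ ?_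
  · rw [hH.sup_eq_top]; exact le_top
  · rw [← h1, hK.symm.index_eq_card]
  · refine hsolv.imp id fun h => ?_
    have := h
    exact Group.isSolvable_of_surjective (f := (hH.symm.QuotientMulEquiv).toMonoidHom)
      (hH.symm.QuotientMulEquiv).surjective

end Cfsg.Agent.Basics
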