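import Cfsg.Agent.Lib.Basics.Frattini
import Cfsg.Agent.Lib.Basics.Cores
import Cfsg.Agent.Lib.Basics.SchurZassenhaus
import Cfsg.Agent.Lib.LocalEvenB.Basic
import Mathlib

/-!
Core-free maximal subgroups.
-/

set_option autoImplicit false
set_option linter.unusedSectionVars false
set_option linter.style.haveILetI false

open scoped Pointwise

namespace Cfsg.Agent.Basics

open Subgroup

variable {G : Type*} [Group G] [Finite G]

theorem sup_eq_top_of_corefree {U : Subgroup G} (hU : IsCoatom U) (hc : U.normalCore = ⊥)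
    {N : Subgroup G} [N.Normal] (hN : N ≠ ⊥) : N ⊔ U = ⊤ := by
  rw [sup_comm]
  refine le_of_not_le_sup_eq_top hU fun h => hN ?_
  rw [eq_bot_iff, ← hc]
  exact Subgroup.normal_le_normalCore.mpr h

theorem centralizer_inf_eq_bot {U : Subgroup G} (hU : IsCoatom U) (hc : U.normalCore = ⊥)
    (N : Subgroup G) [N.Normal] (hN : N ≠ ⊥) : centralizer (N : Set G) ⊓ U = ⊥ := by
  haveI : (centralizer (N : Set G) ⊓ U).Normal := by
    rw [← normalizer_eq_top_iff, eq_top_iff, ← sup_eq_top_of_corefree hU hc hN, sup_le_iff]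
    constructor
    · intro n hn
      refine Subgroup.centralizer_le_normalizer _ (mem_centralizer_iff.mpr fun y hy => ?_)
      exact (mem_centralizer_iff.mp hy.1 n hn).symm
    · intro u hu
      have hmN : u ∈ normalizer (centralizer (N : Set G) : Set G) :=
        le_normalizer_of_normal (mem_top u)
      refine mem_normalizer_iff.mpr fun y => ?_
      have e : u * y * u⁻¹ ∈ U ↔ y ∈ U :=
        ⟨fun h => by simpa [mul_assoc] using U.mul_mem (U.mul_mem (U.inv_mem hu) h) hu,
          fun h => U.mul_mem (U.mul_mem hu h) (U.inv_mem hu)⟩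
      simp only [mem_inf]
      rw [← mem_normalizer_iff.mp hmN y, e]
  rw [eq_bot_iff, ← hc]
  exact Subgroup.normal_le_normalCore.mpr inf_le_right

/-- Dedekind: a subgroup containing a supplemented normal subgroup. -/
theorem eq_of_le_of_sup_eq_top {K C U : Subgroup G} [K.Normal] (hK : K ≤ C) (hsup : K ⊔ U = ⊤)
    (hinf : C ⊓ U = ⊥) : K = C := by
  refine le_antisymm hK fun c hc => ?_
  obtain ⟨k, hk, u, hu, rfl⟩ := mem_sup_of_normal_left.mp (hsup ▸ mem_top c : c ∈ K ⊔ U)
  have : u ∈ C ⊓ U := ⟨(Subgroup.mul_mem_cancel_left _ (hK hk)).mp hc, hu⟩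
  rw [hinf, mem_bot] at this
  rw [this, mul_one]; exact hk

theorem le_centralizer_of_inf_eq_bot {A B : Subgroup G} [hA : A.Normal] [hB : B.Normal] (h : A ⊓ B = ⊥) :
    A ≤ centralizer (B : Set G) := fun a ha => mem_centralizer_iff.mpr fun b hb =>
  (commute_of_normal_of_disjoint _ _ hA hB (disjoint_iff.mpr h) a b ha hb).eq.symm

/-- two minimal normal subgroups -/
theorem two_minimal {U : Subgroup G} (hU : IsCoatom U) (hc : U.normalCore = ⊥) {A B : Subgroup G}
    [A.Normal] [B.Normal] (hA : A ≠ ⊥) (hB : B ≠ ⊥) (hinf : A ⊓ B = ⊥) :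
    centralizer (B : Set G) = A ∧ IsComplement' A U ∧
      Nonempty (B ≃* ((A ⊔ B) ⊓ U : Subgroup G)) := by
  have hC : centralizer (B : Set G) = A :=
    (eq_of_le_of_sup_eq_top (le_centralizer_of_inf_eq_bot hinf) (sup_eq_top_of_corefree hU hc hA)
      (centralizer_inf_eq_bot hU hc B hB)).symm
  have hAU : A ⊓ U = ⊥ := by rw [← hC]; exact centralizer_inf_eq_bot hU hc B hB
  have htop := sup_eq_top_of_corefree hU hc hA
  refine ⟨hC, isComplement'_of_disjoint_and_mul_eq_univ (disjoint_iff.mpr hAU)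
    (by rw [← Subgroup.normal_mul, htop]; rfl), ?_⟩
  set D := (A ⊔ B) ⊓ U with hD
  let π := QuotientGroup.mk' A
  have inj : ∀ X : Subgroup G, A ⊓ X = ⊥ → Function.Injective (π.comp X.subtype) := fun X hX =>
    (injective_iff_map_eq_one _).mpr fun x hx => Subtype.ext (by
      have h : (x : G) ∈ A ⊓ X := ⟨(QuotientGroup.eq_one_iff _).mp hx, x.2⟩
      rwa [hX, mem_bot] at h)
  have iB := inj B hinf
  have iD := inj D (by rw [eq_bot_iff, ← hAU]; exact inf_le_inf_left A inf_le_right)
  have hrange : (π.comp B.subtype).range = (π.comp D.subtype).range := by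
    rw [MonoidHom.range_comp, MonoidHom.range_comp, Subgroup.range_subtype, Subgroup.range_subtype]
    refine le_antisymm ?_ ?_
    · rintro _ ⟨b, hb, rfl⟩
      obtain ⟨a, ha, u, hu, e⟩ := mem_sup_of_normal_left.mp (htop ▸ mem_top b : b ∈ A ⊔ U)
      refine ⟨u, ⟨?_, hu⟩, ?_⟩
      · rw [show u = a⁻¹ * b by rw [← e, inv_mul_cancel_left]]
        exact mul_mem (mem_sup_left (inv_mem ha)) (mem_sup_right hb)
      · rw [← e, map_mul, show π a = 1 from (QuotientGroup.eq_one_iff a).mpr ha, one_mul]
    · rintro _ ⟨d, hd, rfl⟩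
      obtain ⟨a, ha, b, hb, e⟩ := mem_sup_of_normal_left.mp hd.1
      exact ⟨b, hb, by rw [← e, map_mul, show π a = 1 from (QuotientGroup.eq_one_iff a).mpr ha, one_mul]⟩
  exact ⟨(MonoidHom.ofInjective iB).trans ((MulEquiv.subgroupCongr hrange).trans (MonoidHom.ofInjective iD).symm)⟩

/-- the structure of a minimal normal subgroup of a solvable group under a core-free maximal subgroup -/
theorem solvable_minimal [Group.IsSolvable G] {U : Subgroup G} (hU : IsCoatom U)
    (hc : U.normalCore = ⊥) {M : Subgroup G} [M.Normal] (hM : M ≠ ⊥)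
    (hmin : ∀ K : Subgroup G, K.Normal → K ≤ M → K = ⊥ ∨ K = M) :
    IsMulCommutative M ∧ IsComplement' M U ∧ centralizer (M : Set G) = M := by
  obtain ⟨hab, -⟩ := minimal_normal_solvable hM inferInstance hmin
  have hle : M ≤ centralizer (M : Set G) := by
    haveI := hab
    exact Subgroup.le_centralizer M
  have htop := sup_eq_top_of_corefree hU hc hM
  have hinf := centralizer_inf_eq_bot hU hc M hM
  have hC : centralizer (M : Set G) = M := (eq_of_le_of_sup_eq_top hle htop hinf).symm
  refine ⟨hab, isComplement'_of_disjoint_and_mul_eq_univ ?_ (by rw [← Subgroup.normal_mul, htop]; rfl), hC⟩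
  rw [disjoint_iff, eq_bot_iff, ← hinf]
  exact inf_le_inf_right _ hle

/-- core-free maximal subgroups of solvable groups are conjugate -/
theorem corefree_conj [Group.IsSolvable G] {U V : Subgroup G} (hU : IsCoatom U) (hV : IsCoatom V)
    (hUc : U.normalCore = ⊥) (hVc : V.normalCore = ⊥) : ∃ g : G, MulAut.conj g • U = V := by
  haveI : Nontrivial G := by
    by_contra h
    haveI := not_nontrivial_iff_subsingleton.mp h
    exact hU.1 (Subsingleton.elim _ _)
  obtain ⟨M, hMn, -, hM, hmin⟩ := exists_minimal_normal (N := (⊤ : Subgroup G)) top_ne_bot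
  haveI := hMn
  obtain ⟨hab, hMU, hCM⟩ := solvable_minimal hU hUc hM hmin
  obtain ⟨-, hMV, -⟩ := solvable_minimal hV hVc hM hmin
  obtain ⟨-, p, hp, -, hMp⟩ := minimal_normal_solvable hM inferInstance hmin
  haveI := Fact.mk hp
  haveI := M.nontrivial_iff_ne_bot.mpr hM
  rcases eq_or_ne M ⊤ with hMt | hMt
  · refine ⟨1, ?_⟩
    have hU0 : U = ⊥ := by
      have := hMU.disjoint.eq_bot
      rwa [hMt, top_inf_eq] at this
    have hV0 : V = ⊥ := by
      have := hMV.disjoint.eq_bot
      rwa [hMt, top_inf_eq] at this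
    rw [hU0, hV0, conj_smul_one]
  haveI : Nontrivial (G ⧸ M) := by
    rw [← Finite.one_lt_card_iff_nontrivial, ← Subgroup.index_eq_card]
    have h1 := M.index_ne_zero_of_finite
    have h2 : M.index ≠ 1 := fun e => hMt (Subgroup.index_eq_one.mp e)
    omega
  obtain ⟨q, E, hq, hEn, -, hE, -, hEq⟩ :=
    exists_elementary_normal (N := (⊤ : Subgroup (G ⧸ M))) top_ne_bot inferInstance
  haveI := hEn
  haveI := Fact.mk hq
  set L := E.comap (QuotientGroup.mk' M) with hLdef
  haveI : L.Normal := hEn.comap _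
  have hML : M ≤ L := by
    intro x hx
    rw [hLdef, mem_comap, show QuotientGroup.mk' M x = 1 from (QuotientGroup.eq_one_iff x).mpr hx]
    exact one_mem E
  have hEp : IsPGroup q E := isPGroup_of_pow_eq_one hEq
  have hML' : ¬ L ≤ M := by
    intro h
    apply hE
    rw [eq_bot_iff, ← Subgroup.map_comap_eq_self_of_surjective (QuotientGroup.mk'_surjective M) E]
    rintro _ ⟨x, hx, rfl⟩
    exact (QuotientGroup.eq_one_iff x).mpr (h hx)
  have hcard : Nat.card L = Nat.card M * Nat.card E := card_comap_mk' E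
  have hqp : q ≠ p := by
    rintro rfl
    have hLp : IsPGroup q L := by
      obtain ⟨i, hi⟩ := hMp.exists_card_eq
      obtain ⟨j, hj⟩ := hEp.exists_card_eq
      exact IsPGroup.of_card (n := i + j) (by rw [hcard, hi, hj, pow_add])
    haveI := hLp.isNilpotent
    have hne : M.subgroupOf L ≠ ⊥ := by
      intro h
      rw [Subgroup.subgroupOf_eq_bot, disjoint_iff, inf_eq_left.mpr hML] at h
      exact hM h
    haveI : (M.subgroupOf L).Normal := inferInstance
    have hfix : M ⊓ centralizer (L : Set G) ≠ ⊥ := by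
      intro h
      obtain ⟨y, hy1, hy2, hy3⟩ := LocalEvenB.exists_mem_center_ne_one (M.subgroupOf L) hne
      have hm : (y : G) ∈ M ⊓ centralizer (L : Set G) := ⟨hy1, mem_centralizer_iff.mpr fun l hl =>
        congrArg Subtype.val (mem_center_iff.mp hy2 ⟨l, hl⟩)⟩
      rw [h, mem_bot] at hm
      exact hy3 (Subtype.ext hm)
    have heq := (hmin _ inferInstance inf_le_left).resolve_left hfix
    apply hML'
    intro l hl
    rw [← hCM]
    refine mem_centralizer_iff.mpr fun m hm => ?_
    exact (mem_centralizer_iff.mp (heq.ge hm).2 l hl).symm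
  -- the complements inside `L`
  have hcomp : ∀ W : Subgroup G, IsComplement' M W → IsComplement' (M.subgroupOf L) (W.subgroupOf L) := by
    intro W hW
    refine isComplement'_of_disjoint_and_mul_eq_univ ?_ (Set.eq_univ_of_forall fun x => ?_)
    · rw [Subgroup.disjoint_def]
      intro x hx hx'
      have h : (x : G) ∈ M ⊓ W := ⟨hx, hx'⟩
      rw [hW.disjoint.eq_bot, mem_bot] at h
      exact Subtype.ext h
    · obtain ⟨⟨m, w⟩, e⟩ := hW.2 (x : G)
      change (m : G) * w = x at e
      exact ⟨⟨m, hML m.2⟩, m.2, ⟨w, by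
        rw [show (w : G) = (m : G)⁻¹ * x by rw [← e, inv_mul_cancel_left]]
        exact mul_mem (inv_mem (hML m.2)) x.2⟩, w.2, Subtype.ext e⟩
  have hcop : (Nat.card (M.subgroupOf L)).Coprime (M.subgroupOf L).index := by
    rw [card_subgroupOf hML]
    obtain ⟨i, hi⟩ := hMp.exists_card_eq
    obtain ⟨j, hj⟩ := hEp.exists_card_eq
    have e := (M.subgroupOf L).index_mul_card
    rw [card_subgroupOf hML, hcard, mul_comm (Nat.card M)] at e
    rw [Nat.eq_of_mul_eq_mul_right Nat.card_pos e, hi, hj]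
    exact Nat.Coprime.pow i j ((Nat.coprime_primes hp hq).mpr hqp.symm)
  obtain ⟨n, hn, hconj⟩ := isComplement'_conj (M.subgroupOf L) hcop (Or.inl inferInstance)
    (U.subgroupOf L) (V.subgroupOf L) (hcomp U hMU) (hcomp V hMV)
  refine ⟨(n : G), ?_⟩
  have hN : ∀ W : Subgroup G, IsCoatom W → W.normalCore = ⊥ → IsComplement' M W →
      normalizer ((L ⊓ W : Subgroup G) : Set G) = W := by
    intro W hW hWc hMW
    have hle : W ≤ normalizer ((L ⊓ W : Subgroup G) : Set G) := fun u hu => by
      refine mem_normalizer_iff.mpr fun y => ?_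
      have hmN : u ∈ normalizer (L : Set G) := le_normalizer_of_normal (mem_top u)
      have e : u * y * u⁻¹ ∈ W ↔ y ∈ W :=
        ⟨fun h => by simpa [mul_assoc] using W.mul_mem (W.mul_mem (W.inv_mem hu) h) hu,
          fun h => W.mul_mem (W.mul_mem hu h) (W.inv_mem hu)⟩
      simp only [mem_inf]
      rw [← mem_normalizer_iff.mp hmN y, e]
    refine ((hW.le_iff.mp hle).resolve_left fun h => ?_)
    haveI : (L ⊓ W).Normal := normalizer_eq_top_iff.mp h
    have h0 : L ⊓ W = ⊥ := eq_bot_iff.mpr (hWc ▸ Subgroup.normal_le_normalCore.mpr inf_le_right)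
    exact hML' (eq_of_le_of_sup_eq_top hML hMW.sup_eq_top h0).ge
  have hmap : MulAut.conj (n : G) • (L ⊓ U) = L ⊓ V := by
    have h1 := congrArg (Subgroup.map L.subtype) hconj
    rw [map_conj_smul, Subgroup.subgroupOf_map_subtype, Subgroup.subgroupOf_map_subtype] at h1
    rw [inf_comm L U, inf_comm L V]
    exact h1
  conv_lhs => rw [← hN U hU hUc hMU]
  rw [← normalizer_conj_smul, hmap, hN V hV hVc hMV]

end Cfsg.Agent.Basics
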