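import Cfsg.Agent.Lib.Basics.Products
import Cfsg.Agent.Lib.Basics.Cores
import Mathlib

/-!
Focal subgroups of Hall subgroups.
-/

set_option autoImplicit false
set_option linter.style.haveILetI false

open scoped Pointwise commutatorElement

namespace Cfsg.Agent.Basics

universe u

variable {G : Type u} [Group G]

theorem focal_mono {K L : Subgroup G} (h : K ≤ L) : K.focalSubgroup ≤ L.focalSubgroup := by
  rw [Subgroup.focalSubgroup_def, Subgroup.focalSubgroup_def]
  refine Subgroup.closure_mono ?_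
  rintro g ⟨hg, x, hx, u, rfl⟩
  exact ⟨h hg, x, h hx, u, rfl⟩

theorem focal_map_le {N : Subgroup G} (K : Subgroup N) :
    K.focalSubgroup.map N.subtype ≤ (K.map N.subtype).focalSubgroup := by
  rw [Subgroup.focalSubgroup_def, Subgroup.focalSubgroup_def, MonoidHom.map_closure]
  refine Subgroup.closure_mono ?_
  rintro _ ⟨g, ⟨hg, x, hx, u, rfl⟩, rfl⟩
  exact ⟨Subgroup.mem_map_of_mem _ hg, _, Subgroup.mem_map_of_mem _ hx, (u : G), by simp [map_commutatorElement]⟩

theorem le_of_coprime_index [Finite G] {N K : Subgroup G} [N.Normal] (h : (Nat.card K).Coprime N.index) :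
    K ≤ N := by
  intro x hx
  rw [← QuotientGroup.eq_one_iff, ← orderOf_eq_one_iff]
  refine Nat.eq_one_of_dvd_coprimes h ?_ ?_
  · refine (orderOf_map_dvd (QuotientGroup.mk' N) x).trans ?_
    exact Subgroup.orderOf_dvd_natCard _ hx
  · exact (orderOf_dvd_natCard _).trans (dvd_of_eq (Subgroup.index_eq_card N).symm)

theorem commute_of_normalizes_disjoint {P Q : Subgroup G} (hd : Disjoint P Q)
    (hP : P ≤ Subgroup.normalizer (Q : Set G)) (hQ : Q ≤ Subgroup.normalizer (P : Set G)) {y z : G}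
    (hy : y ∈ P) (hz : z ∈ Q) : y * z = z * y := by
  rw [← commutatorElement_eq_one_iff_mul_comm, ← Subgroup.mem_bot, ← hd.eq_bot]
  refine ⟨?_, ?_⟩
  · rw [show ⁅y, z⁆ = y * (z * y⁻¹ * z⁻¹) by simp [commutatorElement_def, mul_assoc]]
    exact P.mul_mem hy ((Subgroup.mem_normalizer_iff.mp (hQ hz) _).mp (P.inv_mem hy))
  · exact Q.mul_mem ((Subgroup.mem_normalizer_iff.mp (hP hy) _).mp hz) (Q.inv_mem hz)

/-- The transfer to `H / H*` for a Hall subgroup. -/
theorem exists_focal_kernel [Finite G] {H : Subgroup G} (hH : (Nat.card H).Coprime H.index) :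
    ∃ N : Subgroup G, N.Normal ∧ N ⊓ H = H.focalSubgroup ∧ N ⊔ H = ⊤ := by
  have hcop : (Nat.card (H ⧸ H.focalSubgroupOf)).Coprime H.index :=
    hH.coprime_dvd_left (Subgroup.card_quotient_dvd_card _)
  refine ⟨H.transferFocal.ker, inferInstance, ?_, ?_⟩
  · ext x
    constructor
    · rintro ⟨hx, hxH⟩
      change H.transferFocal x = 1 at hx
      rw [Subgroup.transferFocal_eq_pow H ⟨x, hxH⟩] at hx
      have : ((⟨x, hxH⟩ : H) : H ⧸ H.focalSubgroupOf) = 1 :=
        (powCoprime hcop).injective (by simpa [powCoprime] using hx)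
      exact (QuotientGroup.eq_one_iff (⟨x, hxH⟩ : H)).mp this
    · intro hx
      have hxH := H.focalSubgroup_le hx
      refine ⟨?_, hxH⟩
      change H.transferFocal x = 1
      rw [Subgroup.transferFocal_eq_pow H ⟨x, hxH⟩,
        (QuotientGroup.eq_one_iff (⟨x, hxH⟩ : H)).mpr hx, one_pow]
  · rw [eq_top_iff]
    intro g _
    obtain ⟨y, hy⟩ := (powCoprime hcop).surjective (H.transferFocal g)
    obtain ⟨h, rfl⟩ := QuotientGroup.mk'_surjective _ y
    have e : g * (h : G)⁻¹ ∈ H.transferFocal.ker := by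
      change _ = (1 : _)
      rw [map_mul, map_inv, Subgroup.transferFocal_eq_pow H h, ← hy]
      simp [powCoprime]
    have := mul_mem (Subgroup.mem_sup_left (T := H) e) (Subgroup.mem_sup_right h.2)
    simpa using this

/-- Iterated focal subgroups and normal complements. -/
theorem exists_normal_complement_of_focal_iter :
    ∀ (n : ℕ) (G : Type u) [Group G] [Finite G] (H : Subgroup G), (Nat.card H).Coprime H.index →
      (fun K : Subgroup G => K.focalSubgroup)^[n] H = ⊥ →
      ∃ N : Subgroup G, N.Normal ∧ Subgroup.IsComplement' N H := by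
  intro n
  induction n with
  | zero =>
    intro G _ _ H _ h
    rw [Function.iterate_zero_apply] at h
    exact ⟨⊤, inferInstance, by rw [h]; exact Subgroup.isComplement'_top_bot⟩
  | succ n ih =>
    intro G _ _ H hH h
    obtain ⟨N, hNn, hNH, htop⟩ := exists_focal_kernel hH
    haveI := hNn
    rw [Function.iterate_succ_apply] at h
    set F := H.focalSubgroup with hF
    have hFN : F ≤ N := hNH ▸ inf_le_left
    have hNc : Nat.card N = Nat.card F * H.index := by
      have e := card_mul_card_eq_card_sup_mul_card_inf (N := N) (H := H) Subgroup.le_normalizer_of_normal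
      rw [htop, hNH, Subgroup.card_top, ← H.card_mul_index] at e
      refine Nat.eq_of_mul_eq_mul_right (Nat.card_pos (α := H)) ?_
      rw [e]; ring
    set F' := F.subgroupOf N with hF'
    have hidx : F'.index = H.index := by
      have e := F'.card_mul_index
      rw [card_subgroupOf hFN, hNc] at e
      exact Nat.eq_of_mul_eq_mul_left Nat.card_pos e
    have hle : ∀ i, ((fun K : Subgroup N => K.focalSubgroup)^[i] F').map N.subtype ≤
        (fun K : Subgroup G => K.focalSubgroup)^[i] F := by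
      intro i
      induction i with
      | zero => exact (Subgroup.map_subgroupOf_eq_of_le hFN).le
      | succ i hi =>
        rw [Function.iterate_succ_apply', Function.iterate_succ_apply']
        exact (focal_map_le _).trans (focal_mono hi)
    have hbot := hle n
    rw [h, le_bot_iff, Subgroup.map_eq_bot_iff_of_injective _ N.subtype_injective] at hbot
    obtain ⟨M, hMn, hMc⟩ := ih N F' (by
      rw [card_subgroupOf hFN, hidx]
      exact hH.coprime_dvd_left (Subgroup.card_dvd_of_le H.focalSubgroup_le)) hbot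
    haveI := hMn
    have hMcard : Nat.card M = H.index := by rw [← hMc.index_eq_card, hidx]
    set M' := M.map N.subtype
    have hM'card : Nat.card M' = H.index := by rw [Subgroup.card_map_of_injective N.subtype_injective, hMcard]
    have hMidx : (Nat.card M).Coprime M.index := by
      rw [hMcard, hMc.symm.index_eq_card, card_subgroupOf hFN]
      exact (hH.coprime_dvd_left (Subgroup.card_dvd_of_le H.focalSubgroup_le)).symm
    have hMn' : M'.Normal := by
      refine ⟨fun x hx g => ?_⟩
      have hle : MulAut.conj g • M' ≤ N := by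
        rintro _ ⟨y, hy, rfl⟩
        obtain ⟨z, -, rfl⟩ := hy
        exact hNn.conj_mem _ z.2 g
      have : (MulAut.conj g • M').subgroupOf N ≤ M := le_of_coprime_index (by
        rw [card_subgroupOf hle, card_conj_smul, hM'card, ← hMcard]
        exact hMidx)
      have hg : g * x * g⁻¹ ∈ MulAut.conj g • M' := conj_mem_conj_smul hx
      exact ⟨⟨g * x * g⁻¹, hle hg⟩, this hg, rfl⟩
    exact ⟨M', hMn', Subgroup.isComplement'_of_coprime (by rw [hM'card, mul_comm, H.card_mul_index])
      (by rw [hM'card]; exact hH.symm)⟩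

/-- Bound on the focal subgroup for subgroups normal in a self-normalizing nilpotent Hall subgroup. -/
theorem focal_le_commutator [Finite G] {H : Subgroup G}
    (hnot : ∀ p : ℕ, p.Prime → ∀ P : Sylow p G, (P : Subgroup G) ≠ H)
    (hsyl : ∀ p : ℕ, p.Prime → p ∣ Nat.card H → ∃ S : Sylow p G,
      (S : Subgroup G) ≤ H ∧ Subgroup.normalizer ((S : Subgroup G) : Set G) = H)
    {K : Subgroup G} (hK : K ≤ H) (hHK : H ≤ Subgroup.normalizer ((⁅K, H⁆ : Subgroup G) : Set G)) :
    K.focalSubgroup ≤ ⁅K, H⁆ := by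
  suffices key : ∀ n, ∀ x ∈ K, orderOf x = n → ∀ u : G, u * x * u⁻¹ ∈ K →
      x * (u * x * u⁻¹)⁻¹ ∈ (⁅K, H⁆ : Subgroup G) by
    rw [Subgroup.focalSubgroup_def, Subgroup.closure_le]
    rintro g ⟨hg, x, hx, u, rfl⟩
    have hw : u * x * u⁻¹ ∈ K := by
      rw [show u * x * u⁻¹ = ⁅x, u⁆⁻¹ * x by simp [commutatorElement_def, mul_assoc]]
      exact K.mul_mem (K.inv_mem hg) hx
    rw [show ⁅x, u⁆ = x * (u * x * u⁻¹)⁻¹ by simp [commutatorElement_def, mul_assoc]]
    exact key _ x hx rfl u hw
  intro n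
  induction n using Nat.strong_induction_on with
  | _ n ih =>
  intro x hx hn u hw
  rcases eq_or_ne n 1 with rfl | hn1
  · rw [orderOf_eq_one_iff] at hn
    simp [hn]
  obtain ⟨p, hp, hpn⟩ := Nat.exists_prime_and_dvd hn1
  haveI := Fact.mk hp
  have hn0 : n ≠ 0 := hn ▸ (orderOf_pos x).ne'
  obtain ⟨a, m, hm, rfl⟩ := Nat.exists_eq_pow_mul_and_not_dvd hn0 p hp.ne_one
  rcases eq_or_ne m 1 with rfl | hm1
  · -- `x` is a `p`-element
    rw [mul_one] at hn
    have hpH : p ∣ Nat.card H := (hn ▸ (mul_one (p ^ a) ▸ hpn : p ∣ p ^ a) : p ∣ orderOf x).trans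
      (Subgroup.orderOf_dvd_natCard _ (hK hx))
    obtain ⟨P, hPH, hPN⟩ := hsyl p hp hpH
    obtain ⟨q, hq, hqH, hqp⟩ : ∃ q, q.Prime ∧ q ∣ Nat.card H ∧ q ≠ p := by
      by_contra hc
      push Not at hc
      obtain ⟨k, hk⟩ : ∃ k, Nat.card H = p ^ k := ⟨_, Nat.eq_prime_pow_of_unique_prime_dvd
        Nat.card_pos.ne' fun {d} hd hdH => hc d hd hdH⟩
      exact hnot p hp P (P.3 (IsPGroup.of_card hk) hPH).symm
    haveI := Fact.mk hq
    obtain ⟨Q, hQH, hQN⟩ := hsyl q hq hqH
    have hmem : ∀ y ∈ H, (∃ k, orderOf y = p ^ k) → y ∈ (P : Subgroup G) := by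
      rintro y hy ⟨k, hk⟩
      haveI : ((P : Subgroup G).subgroupOf H).Normal := by
        rw [Subgroup.normal_subgroupOf_iff_le_normalizer hPH, hPN]
      have hle := le_of_coprime_index (N := (P : Subgroup G).subgroupOf H) (K := Subgroup.zpowers (⟨y, hy⟩ : H)) (by
        rw [Nat.card_zpowers, Subgroup.orderOf_mk, hk]
        refine (hp.coprime_iff_not_dvd.mpr fun hd => P.not_dvd_index (hd.trans ?_)).pow_left k
        exact Subgroup.relIndex_dvd_index_of_le hPH)
      exact hle (Subgroup.mem_zpowers _)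
    have hQc : ∀ y ∈ (P : Subgroup G), ∀ z ∈ (Q : Subgroup G), y * z = z * y := fun y hy z hz =>
      commute_of_normalizes_disjoint (IsPGroup.disjoint_of_ne p q hqp.symm _ _ P.2 Q.2)
        (hPH.trans hQN.ge) (hQH.trans hPN.ge) hy hz
    have hwH := hK hw
    have hwP := hmem _ hwH ⟨a, by
      rw [← hn]; exact (MulEquiv.orderOf_eq (MulAut.conj u) x).trans rfl⟩
    have hxP := hmem x (hK hx) ⟨a, hn⟩
    set w := u * x * u⁻¹ with hwdef
    set C := Subgroup.centralizer ({w} : Set G)
    have h1 : (Q : Subgroup G) ≤ C := fun z hz =>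
      Subgroup.mem_centralizer_singleton_iff.mpr (hQc _ hwP z hz).symm
    have h2 : ((u • Q : Sylow q G) : Subgroup G) ≤ C := by
      rintro _ ⟨z, hz, rfl⟩
      refine Subgroup.mem_centralizer_singleton_iff.mpr ?_
      change u * z * u⁻¹ * (u * x * u⁻¹) = u * x * u⁻¹ * (u * z * u⁻¹)
      calc _ = u * (z * x) * u⁻¹ := by group
        _ = u * (x * z) * u⁻¹ := by rw [hQc x hxP z hz]
        _ = _ := by group
    obtain ⟨c, hc⟩ := MulAction.exists_smul_eq C ((u • Q).subtype h2) (Q.subtype h1)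
    rw [Sylow.smul_subtype] at hc
    have hc' := Sylow.subtype_injective hc
    rw [Subgroup.smul_def, ← mul_smul, Sylow.smul_eq_iff_mem_normalizer] at hc'
    replace hc' : (c : G) * u ∈ H := hQN.le hc'
    have e : w = ((c : G) * u) * x * ((c : G) * u)⁻¹ := by
      have := Subgroup.mem_centralizer_singleton_iff.mp c.2
      calc w = (c : G) * w * (c : G)⁻¹ := by rw [this]; group
        _ = _ := by rw [hwdef]; group
    rw [e, show x * (((c : G) * u) * x * ((c : G) * u)⁻¹)⁻¹ = ⁅x, (c : G) * u⁆ by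
      simp [commutatorElement_def, mul_assoc]]
    exact Subgroup.commutator_mem_commutator hx hc'
  · -- split off the `p`-part
    have hm0 : m ≠ 0 := right_ne_zero_of_mul hn0
    have ha0 : a ≠ 0 := by
      rintro rfl
      rw [pow_zero, one_mul] at hpn
      exact hm hpn
    have hpa : 1 < p ^ a := Nat.one_lt_pow ha0 hp.one_lt
    have hcop : (p ^ a).Coprime m := (hp.coprime_iff_not_dvd.mpr hm).pow_left a
    set i : ℤ := Nat.gcdB (p ^ a) m * m
    set j : ℤ := Nat.gcdA (p ^ a) m * (p ^ a : ℕ)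
    have hij : x = x ^ i * x ^ j := by
      have := Nat.gcd_eq_gcd_ab (p ^ a) m
      rw [hcop] at this
      rw [← zpow_add, show i + j = 1 by simp only [i, j]; push_cast at this ⊢; linarith, zpow_one]
    have hi : (x ^ i) ^ (p ^ a) = 1 := by
      rw [← zpow_natCast, ← zpow_mul, mul_assoc, ← Nat.cast_mul, mul_comm m, mul_comm, zpow_mul,
        zpow_natCast, ← hn, pow_orderOf_eq_one, one_zpow]
    have hj : (x ^ j) ^ m = 1 := by
      rw [← zpow_natCast, ← zpow_mul, mul_assoc, ← Nat.cast_mul, mul_comm, zpow_mul,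
        zpow_natCast, ← hn, pow_orderOf_eq_one, one_zpow]
    have hlt : ∀ (y : G) (k : ℕ), k ≠ 0 → y ^ k = 1 → k < p ^ a * m → orderOf y < p ^ a * m :=
      fun y k hk hy hlt => lt_of_le_of_lt (Nat.le_of_dvd (Nat.pos_of_ne_zero hk) (orderOf_dvd_of_pow_eq_one hy)) hlt
    have r1 := ih _ (hlt _ _ (pow_ne_zero a hp.ne_zero) hi (lt_mul_of_one_lt_right (by positivity) (by omega)))
      (x ^ i) (K.zpow_mem hx i) rfl u (by rw [← conj_zpow]; exact K.zpow_mem hw i)
    have r2 := ih _ (hlt _ _ hm0 hj (lt_mul_of_one_lt_left (Nat.pos_of_ne_zero hm0) hpa))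
      (x ^ j) (K.zpow_mem hx j) rfl u (by rw [← conj_zpow]; exact K.zpow_mem hw j)
    have hconj := (Subgroup.mem_normalizer_iff.mp (hHK (H.zpow_mem (hK hx) i)) _).mp r2
    have := mul_mem hconj r1
    rw [show x * (u * x * u⁻¹)⁻¹ = x ^ i * (x ^ j * (u * x ^ j * u⁻¹)⁻¹) * (x ^ i)⁻¹ *
      (x ^ i * (u * x ^ i * u⁻¹)⁻¹) by
        conv_lhs => rw [hij]
        group]
    exact this

end Cfsg.Agent.Basics
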