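import Cfsg.Agent.Lib.Basics.Cores
import Cfsg.Agent.Lib.Basics.ThompsonFpf
import Cfsg.Agent.Lib.PermGp.PermModule
import Mathlib

/-!
A module for a Frobenius group on which the kernel fixes no non-zero vector is free over the complement.
-/

set_option autoImplicit false
set_option linter.unusedSectionVars false

namespace Cfsg.Agent.FreeFrob

open scoped commutatorElement

section ring

variable {R H : Type*} [CommRing R] [Group H] [Fintype H] [MulSemiringAction H R]

theorem act_inv_mem_iff {I : Ideal R} {h : H} (hI : ∀ x, h • x - x ∈ I) (x : R) :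
    h • x ∈ I ↔ x ∈ I :=
  ⟨fun hx => by simpa using I.sub_mem hx (hI x), fun hx => by simpa using I.add_mem (hI x) hx⟩

/-- The kernel property of the matrix `(g h • θ)` at one maximal ideal. -/
def GoodAt (θ : R) (m : Ideal R) (H : Type*) [Group H] [Fintype H] [MulSemiringAction H R] : Prop :=
  ∀ c : H → R, (∀ g : H, ∑ h, ((g * h) • θ) * c h ∈ m) → ∀ h, c h ∈ m

theorem goodAt_of_base (m0 : Ideal R) [m0.IsMaximal]
    (hfree : ∀ h : H, h ≠ 1 → ¬ ∀ x, h • x - x ∈ m0) :
    ∃ θ₀ : R, ∀ θ : R, (θ - θ₀ ∈ m0) →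
      (∀ k : H, ¬ (∀ x, k • x ∈ m0 ↔ x ∈ m0) → k • θ ∈ m0) → GoodAt θ m0 H := by
  classical
  let S : Subgroup H :=
    { carrier := {k | ∀ x, k • x ∈ m0 ↔ x ∈ m0}
      one_mem' := fun x => by rw [one_smul]
      mul_mem' := fun {a b} ha hb x => by rw [mul_smul, ha, hb]
      inv_mem' := fun {a} ha x => by rw [← ha (a⁻¹ • x), smul_inv_smul] }
  letI : Field (R ⧸ m0) := Ideal.Quotient.field m0
  let act : S →* (R ⧸ m0 →+* R ⧸ m0) :=
    { toFun := fun s => Ideal.quotientMap m0 (MulSemiringAction.toRingHom H R (s : H))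
        (fun x hx => (s.2 x).2 hx)
      map_one' := Ideal.Quotient.ringHom_ext (RingHom.ext fun x => by
        simp [Ideal.quotientMap_mk])
      map_mul' := fun a b => Ideal.Quotient.ringHom_ext (RingHom.ext fun x => by
        show Ideal.Quotient.mk m0 (((a * b : S) : H) • x) =
          Ideal.Quotient.mk m0 ((a : H) • (b : H) • x)
        rw [Subgroup.coe_mul, mul_smul]) }
  letI : MulSemiringAction S (R ⧸ m0) :=
    { smul := fun s x => act s x
      one_smul := fun x => show act 1 x = x by rw [map_one]; rfl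
      mul_smul := fun a b x => show act (a * b) x = act a (act b x) by rw [map_mul]; rfl
      smul_zero := fun s => map_zero (act s)
      smul_add := fun s => map_add (act s)
      smul_one := fun s => map_one (act s)
      smul_mul := fun s => map_mul (act s) }
  have hmk : ∀ (s : S) (x : R), s • Ideal.Quotient.mk m0 x = Ideal.Quotient.mk m0 ((s : H) • x) :=
    fun s x => rfl
  haveI : FaithfulSMul S (R ⧸ m0) := ⟨fun {a b} hab => by
    by_contra hne
    refine hfree ((b : H)⁻¹ * a) (fun e => hne (Subtype.ext (inv_mul_eq_one.1 e).symm)) fun x => ?_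
    rw [← Ideal.Quotient.mk_eq_mk_iff_sub_mem]
    have : (b⁻¹ * a) • Ideal.Quotient.mk m0 x = Ideal.Quotient.mk m0 x := by
      rw [mul_smul, hab, inv_smul_smul]
    rw [hmk] at this
    exact this⟩
  let E := FixedPoints.subfield S (R ⧸ m0)
  obtain ⟨z, hz⟩ := exists_linearIndependent_algEquiv_apply E (R ⧸ m0)
  haveI : Fintype S := Fintype.ofFinite S
  have hli : LinearIndependent E fun s : S => s • z :=
    hz.comp (fun s => FixedPoints.toAlgAutMulEquiv S (R ⧸ m0) s) (MulEquiv.injective _)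
  have hspan : Submodule.span E (Set.range fun s : S => s • z) = ⊤ :=
    hli.span_eq_top_of_card_eq_finrank (FixedPoints.finrank_eq_card S (R ⧸ m0)).symm
  have hded : ∀ x : S → R ⧸ m0, (∀ t, ∑ s, ((t * s) • z) * x s = 0) → x = 0 := by
    let A : Matrix S S (R ⧸ m0) := Matrix.of fun t s => (t * s) • z
    have hA : A.det ≠ 0 := fun e => by
      obtain ⟨y, hy0, hy⟩ := Matrix.exists_vecMul_eq_zero_iff.2 e
      apply hy0
      let L : (R ⧸ m0) →ₗ[E] R ⧸ m0 :=
        ∑ t : S, y t • ((MulSemiringAction.toAlgHom E (R ⧸ m0) t).toLinearMap)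
      have hL0 : L = 0 := LinearMap.ext_on_range hspan fun s => by
        have := congrFun hy s
        simp [L, Matrix.vecMul, dotProduct, A, mul_smul] at this ⊢
        exact this
      funext t
      refine Fintype.linearIndependent_iff.1 ((_root_.linearIndependent_toLinearMap E (R ⧸ m0)
        (R ⧸ m0)).comp (MulSemiringAction.toAlgHom E (R ⧸ m0))
        (MulSemiringAction.toAlgHom_injective _ _)) y hL0 t
    exact fun x hx => Matrix.eq_zero_of_mulVec_eq_zero hA (funext hx)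
  obtain ⟨θ₀, hθ₀⟩ := Ideal.Quotient.mk_surjective z
  refine ⟨θ₀, fun θ hθ hout c hc h1 => ?_⟩
  have hz' : Ideal.Quotient.mk m0 θ = z := by
    rw [← hθ₀]; exact Ideal.Quotient.mk_eq_mk_iff_sub_mem _ _ |>.2 hθ
  have key := hded (fun s => Ideal.Quotient.mk m0 (c (h1 * s))) fun t => by
    have h0 : Ideal.Quotient.mk m0 (∑ h, (((t : H) * h1⁻¹ * h) • θ) * c h) = 0 :=
      Ideal.Quotient.eq_zero_iff_mem.2 (hc _)
    rw [← Equiv.sum_comp (Equiv.mulLeft h1), map_sum,
      ← Finset.sum_subset (Finset.subset_univ (Finset.univ.map (Function.Embedding.subtype (· ∈ S))))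
        (fun u _ hu => ?_), Finset.sum_map] at h0
    · rw [← h0]
      refine Finset.sum_congr rfl fun s _ => ?_
      rw [← hz', hmk, ← map_mul]
      simp [mul_assoc]
    · refine Ideal.Quotient.eq_zero_iff_mem.2 (m0.mul_mem_right _ (hout _ fun hk => hu ?_))
      have hu' : (t : H) * u ∈ S := by
        show (t : H) * u ∈ S
        convert (show ((t : H) * h1⁻¹ * (h1 * u)) ∈ S from hk) using 1
        group
      exact Finset.mem_map.2 ⟨⟨u, (S.mul_mem_cancel_left t.2).1 hu'⟩, Finset.mem_univ _, rfl⟩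
  exact Ideal.Quotient.eq_zero_iff_mem.1 (by simpa using congrFun key 1)

/-- A free action on an artinian ring has a normal basis element. -/
theorem exists_isUnit_det [IsArtinianRing R] [DecidableEq H]
    (hfree : ∀ m : Ideal R, m.IsMaximal → ∀ h : H, h ≠ 1 → ¬ ∀ x, h • x - x ∈ m) :
    ∃ θ : R, IsUnit (Matrix.of fun g h : H => (g * h) • θ).det := by
  classical
  let mv : MaximalSpectrum R → H → MaximalSpectrum R := fun m g =>
    ⟨m.1.comap (MulSemiringAction.toRingHom H R g⁻¹), by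
      haveI := m.2
      exact Ideal.comap_isMaximal_of_surjective _ (MulAction.surjective g⁻¹)⟩
  have hmv : ∀ m g x, x ∈ (mv m g).1 ↔ g⁻¹ • x ∈ m.1 := fun m g x => Iff.rfl
  let st : Setoid (MaximalSpectrum R) :=
    { r := fun a b => ∃ g, mv a g = b
      iseqv :=
        { refl := fun a => ⟨1, MaximalSpectrum.ext (Ideal.ext fun x => by rw [hmv, inv_one, one_smul])⟩
          symm := fun {a b} ⟨g, hg⟩ => ⟨g⁻¹, MaximalSpectrum.ext (Ideal.ext fun x => by
            rw [hmv, ← hg, hmv, inv_inv, inv_smul_smul])⟩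
          trans := fun {a b c} ⟨g, hg⟩ ⟨g', hg'⟩ => ⟨g' * g, MaximalSpectrum.ext (Ideal.ext fun x => by
            rw [hmv, ← hg', hmv, ← hg, hmv, mul_inv_rev, mul_smul])⟩ } }
  let rep : MaximalSpectrum R → MaximalSpectrum R := fun m => (Quotient.mk st m).out
  have hrep : ∀ m, ∃ g, mv (rep m) g = m := fun m => Quotient.mk_out (s := st) m
  have hrep' : ∀ m, rep (rep m) = rep m := fun m =>
    congrArg Quotient.out (Quotient.out_eq (Quotient.mk st m))
  have hrep2 : ∀ m g, rep (mv m g) = rep m := fun m g =>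
    congrArg Quotient.out (Quotient.sound (s := st) ⟨g, rfl⟩).symm
  choose θ₀ hθ₀ using fun m : MaximalSpectrum R =>
    (haveI := m.2; goodAt_of_base (H := H) m.1 (hfree m.1 m.2))
  obtain ⟨θ, hθ⟩ := Ideal.exists_forall_sub_mem_ideal (I := fun m : MaximalSpectrum R => m.1)
    (fun a b hab => Ideal.isCoprime_iff_sup_eq.2
      (a.2.coprime_of_ne b.2 fun e => hab (MaximalSpectrum.ext e)))
    (fun m => if rep m = m then θ₀ m else 0)
  have hgood : ∀ m : MaximalSpectrum R, GoodAt θ m.1 H := by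
    intro m
    obtain ⟨g, hg⟩ := hrep m
    set m0 := rep m with hm0
    have h0 : GoodAt θ m0.1 H := by
      refine hθ₀ m0 θ ?_ fun k hk => ?_
      · have := hθ m0
        rwa [if_pos (hrep' m)] at this
      · have hne : rep (mv m0 k⁻¹) ≠ mv m0 k⁻¹ := fun e => hk fun x => by
          rw [hrep2, hrep'] at e
          have e' : m0 = mv m0 k⁻¹ := e
          have hx : x ∈ m0.1 ↔ k • x ∈ m0.1 := by
            conv_lhs => rw [e', hmv, inv_inv]
          exact hx.symm
        have := hθ (mv m0 k⁻¹)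
        rw [if_neg hne, sub_zero, hmv, inv_inv] at this
        exact this
    intro c hc h
    rw [← hg, hmv]
    refine h0 (fun h => g⁻¹ • c h) (fun g' => ?_) h
    have h1 := hc (g * g')
    rw [← hg, hmv, Finset.smul_sum] at h1
    simpa [smul_mul', ← mul_smul, mul_assoc] using h1
  refine ⟨θ, ?_⟩
  by_contra hu
  obtain ⟨m, hm, hmem⟩ := exists_max_ideal_of_mem_nonunits hu
  haveI := hm
  letI : Field (R ⧸ m) := Ideal.Quotient.field m
  have hd : ((Matrix.of fun g h : H => (g * h) • θ).map (Ideal.Quotient.mk m)).det = 0 := by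
    rw [← RingHom.mapMatrix_apply, ← RingHom.map_det]
    exact Ideal.Quotient.eq_zero_iff_mem.2 hmem
  obtain ⟨v, hv0, hv⟩ := Matrix.exists_mulVec_eq_zero_iff.2 hd
  choose c hc using fun h => Ideal.Quotient.mk_surjective (I := m) (v h)
  refine hv0 (funext fun h => ?_)
  rw [← hc, Pi.zero_apply, Ideal.Quotient.eq_zero_iff_mem]
  refine hgood ⟨m, hm⟩ c (fun g => Ideal.Quotient.eq_zero_iff_mem.1 ?_) h
  rw [map_sum]
  simpa [Matrix.mulVec, dotProduct, hc] using congrFun hv g

end ring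

section core

variable {k V A : Type*} [Field k] [AddCommGroup V] [Module k V] [Group A]

/-- The induced map from functions on `H` to `V`. -/
def Phi (ρ : Representation k A V) (H : Subgroup A) [Fintype H] (f : H → V) : V :=
  ∑ h : H, ρ (h : A) (f h)

/-- `W` generates `U` freely over `H`. -/
def FreeOn (ρ : Representation k A V) (H : Subgroup A) [Fintype H] (U W : Submodule k V) : Prop :=
  (∀ f : H → V, (∀ h, f h ∈ W) → Phi ρ H f = 0 → f = 0) ∧
    ∀ u, u ∈ U ↔ ∃ f : H → V, (∀ h, f h ∈ W) ∧ Phi ρ H f = u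

variable [FiniteDimensional k V]

theorem core (ρ : Representation k A V) (Z H : Subgroup A) [Z.Normal] [Finite Z] [Fintype H]
    (hcard : (Nat.card Z : k) ≠ 0)
    (hcomm : ∀ a ∈ Z, ∀ b ∈ Z, ρ a * ρ b = ρ b * ρ a)
    (hfpf : ∀ h ∈ H, h ≠ 1 → ∀ z ∈ Z, h * z * h⁻¹ = z → z = 1)
    (hfix : ∀ v : V, (∀ z ∈ Z, ρ z v = v) → v = 0) :
    ∃ W : Submodule k V, FreeOn ρ H ⊤ W := by
  classical
  haveI := Fintype.ofFinite Z
  let S : Set (Module.End k V) := ρ '' (Z : Set A)
  have hS : ∀ x ∈ S, ∀ y ∈ S, x * y = y * x := by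
    rintro _ ⟨a, ha, rfl⟩ _ ⟨b, hb, rfl⟩
    exact hcomm a ha b hb
  let R := Algebra.adjoin k S
  haveI : IsMulCommutative R := Algebra.isMulCommutative_adjoin k hS
  open scoped IsMulCommutative in letI : CommRing R := inferInstance
  haveI : Module.Finite k R := FiniteDimensional.finiteDimensional_submodule R.toSubmodule
  haveI : IsArtinianRing R := IsArtinianRing.of_finite k R
  have hinv : ∀ a b : A, a * b = 1 → ρ a * ρ b = 1 := fun a b e => by rw [← map_mul, e, map_one]
  have hmem : ∀ (a : A) (r : Module.End k V), r ∈ R → ρ a * r * ρ a⁻¹ ∈ R := by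
    intro a r hr
    induction hr using Algebra.adjoin_induction with
    | mem x hx =>
      obtain ⟨z, hz, rfl⟩ := hx
      exact Algebra.subset_adjoin ⟨a * z * a⁻¹, ‹Z.Normal›.conj_mem z hz a, by rw [map_mul, map_mul]⟩
    | algebraMap c =>
      rw [← Algebra.commutes, mul_assoc, hinv _ _ (mul_inv_cancel a), mul_one]
      exact Subalgebra.algebraMap_mem _ c
    | add x y _ _ hx hy => rw [mul_add, add_mul]; exact add_mem hx hy
    | mul x y _ _ hx hy =>
      have : ρ a * (x * y) * ρ a⁻¹ = ρ a * x * ρ a⁻¹ * (ρ a * y * ρ a⁻¹) := by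
        simp only [mul_assoc]
        rw [← mul_assoc (ρ a⁻¹) (ρ a), hinv _ _ (inv_mul_cancel a), one_mul]
      rw [this]; exact mul_mem hx hy
  letI : MulSemiringAction H R :=
    { smul := fun h r => ⟨ρ (h : A) * (r : Module.End k V) * ρ (h : A)⁻¹, hmem _ _ r.2⟩
      one_smul := fun r => Subtype.ext (show ρ ((1 : H) : A) * _ * ρ ((1 : H) : A)⁻¹ = _ by simp)
      mul_smul := fun g h r => Subtype.ext (show ρ ((g * h : H) : A) * _ * ρ ((g * h : H) : A)⁻¹ =
        ρ (g : A) * (ρ (h : A) * _ * ρ (h : A)⁻¹) * ρ (g : A)⁻¹ by simp [mul_assoc, mul_inv_rev])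
      smul_zero := fun h => Subtype.ext (show ρ (h : A) * 0 * ρ (h : A)⁻¹ = 0 by simp)
      smul_add := fun h r s => Subtype.ext (show ρ (h : A) * (_ + _) * _ = _ + _ by
        rw [mul_add, add_mul]; rfl)
      smul_one := fun h => Subtype.ext (show ρ (h : A) * 1 * ρ (h : A)⁻¹ = 1 by
        rw [mul_one, hinv _ _ (mul_inv_cancel _)])
      smul_mul := fun h r s => Subtype.ext (show ρ (h : A) * (_ * _) * ρ (h : A)⁻¹ =
          ρ (h : A) * _ * ρ (h : A)⁻¹ * (ρ (h : A) * _ * ρ (h : A)⁻¹) by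
        simp only [mul_assoc]
        rw [← mul_assoc (ρ (h : A)⁻¹) (ρ (h : A)), hinv _ _ (inv_mul_cancel _), one_mul]) }
  have hsmul : ∀ (h : H) (r : R) (v : V), (h • r).1 (ρ (h : A) v) = ρ (h : A) (r.1 v) := fun h r v => by
    show ρ (h : A) (r.1 (ρ (h : A)⁻¹ (ρ (h : A) v))) = _
    rw [← Module.End.mul_apply (ρ (h : A)⁻¹), hinv _ _ (inv_mul_cancel _)]
    rfl
  let i : Z → R := fun z => ⟨ρ z, Algebra.subset_adjoin ⟨z, z.2, rfl⟩⟩
  have hfree : ∀ m : Ideal R, m.IsMaximal → ∀ h : H, h ≠ 1 → ¬ ∀ x, h • x - x ∈ m := by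
    intro m hm h hh hall
    let φ : Z → Z := fun z =>
      z⁻¹ * ⟨(h : A) * z * (h : A)⁻¹, ‹Z.Normal›.conj_mem z z.2 h⟩
    have hφ : Function.Bijective φ := by
      refine Finite.injective_iff_bijective.1 fun z w e => ?_
      have e' : (z : A)⁻¹ * ((h : A) * z * (h : A)⁻¹) = (w : A)⁻¹ * ((h : A) * w * (h : A)⁻¹) :=
        congrArg Subtype.val e
      have := hfpf h h.2 (fun e => hh (Subtype.ext e)) ((w : A) * (z : A)⁻¹)
        (Z.mul_mem w.2 (Z.inv_mem z.2)) (by
          calc (h : A) * ((w : A) * (z : A)⁻¹) * (h : A)⁻¹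
              = (w : A) * ((w : A)⁻¹ * ((h : A) * w * (h : A)⁻¹)) * ((h : A) * z * (h : A)⁻¹)⁻¹ := by group
            _ = (w : A) * (z : A)⁻¹ := by rw [← e']; group)
      exact Subtype.ext (mul_inv_eq_one.1 this).symm
    have hone : ∀ z, i z - 1 ∈ m := by
      intro z
      obtain ⟨y, rfl⟩ := hφ.2 z
      have e : i (φ y) - 1 = i y⁻¹ * (h • i y - i y) := by
        refine Subtype.ext (LinearMap.ext fun v => ?_)
        show ρ ((y : A)⁻¹ * ((h : A) * y * (h : A)⁻¹)) v - v =
          ρ (y : A)⁻¹ ((ρ (h : A) * ρ (y : A) * ρ (h : A)⁻¹) v - ρ (y : A) v)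
        rw [map_sub, ← Module.End.mul_apply (ρ (y : A)⁻¹) (ρ (y : A)), hinv _ _ (inv_mul_cancel _),
          map_mul, map_mul, map_mul]
        rfl
      rw [e]
      exact m.mul_mem_left _ (hall _)
    have hsum : (∑ z : Z, i z) = 0 := by
      refine Subtype.ext (LinearMap.ext fun v => ?_)
      simp only [AddSubmonoidClass.coe_finsetSum, LinearMap.sum_apply, ZeroMemClass.coe_zero,
        LinearMap.zero_apply]
      refine hfix _ fun z hz => ?_
      rw [map_sum]
      refine Fintype.sum_equiv (Equiv.mulLeft ⟨z, hz⟩) _ _ fun w => ?_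
      show ρ z (ρ (w : A) v) = ρ (z * w) v
      rw [map_mul]; rfl
    have hcm : ((Nat.card Z : ℕ) : R) ∈ m := by
      have := m.sum_mem (t := Finset.univ) fun z _ => hone z
      rw [Finset.sum_sub_distrib, hsum, zero_sub, neg_mem_iff] at this
      simpa [Nat.card_eq_fintype_card] using this
    have hu : IsUnit ((Nat.card Z : ℕ) : R) := by
      rw [← map_natCast (algebraMap k R)]
      exact (isUnit_iff_ne_zero.2 hcard).map _
    exact hm.ne_top (m.eq_top_of_isUnit_mem hcm hu)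
  obtain ⟨θ, hθ⟩ := exists_isUnit_det (R := R) (H := H) hfree
  set M : Matrix H H R := Matrix.of fun g h => (g * h) • θ with hM
  let ap : Matrix H H R → (H → V) → H → V := fun B w g => ∑ h, (B g h).1 (w h)
  have hap : ∀ B C w, ap (B * C) w = ap B (ap C w) := by
    intro B C w
    funext g
    simp only [ap, Matrix.mul_apply, AddSubmonoidClass.coe_finsetSum, LinearMap.sum_apply, map_sum]
    exact Finset.sum_comm
  have hap1 : ∀ w, ap 1 w = w := by
    intro w
    funext g
    simp only [ap]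
    rw [Finset.sum_eq_single g (fun b _ hb => by simp [Matrix.one_apply_ne hb.symm]) (by simp)]
    simp
  have huniq : ∀ w w', ap M w = ap M w' → w = w' := fun w w' e => by
    rw [← hap1 w, ← hap1 w', ← Matrix.nonsing_inv_mul M hθ, hap, hap, e]
  have hequiv : ∀ (g0 : H) (w : H → V) (g : H),
      ρ (g0 : A) (ap M w g) = ap M (fun h => ρ (g0 : A) (w h)) (g0 * g) := by
    intro g0 w g
    simp only [ap, map_sum, hM, Matrix.of_apply]
    refine Finset.sum_congr rfl fun h _ => ?_
    rw [← hsmul, ← mul_smul, mul_assoc]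
  let fixd : Submodule k V :=
    { carrier := {v | ∀ g : H, ρ (g : A) v = v}
      add_mem' := fun ha hb g => by rw [map_add, ha g, hb g]
      zero_mem' := fun g => map_zero _
      smul_mem' := fun c v hv g => by rw [map_smul, hv g] }
  refine ⟨fixd.map θ.1, ?_, fun v => ⟨fun _ => ?_, fun _ => trivial⟩⟩
  · intro f hf h0
    choose w hw hwf using fun h => Submodule.mem_map.1 (hf h)
    have key : ap M w = ap M (fun _ => 0) := by
      funext g
      have : ap M w g = ρ (g : A) (Phi ρ H f) := by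
        simp only [ap, Phi, map_sum, hM, Matrix.of_apply]
        refine Finset.sum_congr rfl fun h _ => ?_
        rw [← hwf h, ← Module.End.mul_apply, ← map_mul, ← Subgroup.coe_mul, ← hsmul, hw h (g * h)]
      rw [this, h0, map_zero]
      simp [ap]
    funext h
    rw [← hwf h, congrFun (huniq _ _ key) h, map_zero, Pi.zero_apply]
  · obtain ⟨w, hw⟩ : ∃ w, ap M w = fun g : H => ρ (g : A) v :=
      ⟨ap M⁻¹ fun g : H => ρ (g : A) v, by rw [← hap, Matrix.mul_nonsing_inv M hθ, hap1]⟩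
    have hfx : ∀ h, w h ∈ fixd := by
      intro h g0
      refine congrFun (huniq (fun h => ρ (g0 : A) (w h)) w ?_) h
      funext g
      have := hequiv g0 w (g0⁻¹ * g)
      rw [mul_inv_cancel_left] at this
      rw [← this, hw]
      simp [← Module.End.mul_apply, ← map_mul]
    refine ⟨fun h => θ.1 (w h), fun h => Submodule.mem_map_of_mem (hfx h), ?_⟩
    have := congrFun hw 1
    simp only [ap, hM, Matrix.of_apply, one_mul, OneMemClass.coe_one, map_one, Module.End.one_apply] at this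
    rw [← this, Phi]
    refine Finset.sum_congr rfl fun h _ => ?_
    rw [← hsmul, hfx h h]

theorem core_on (ρ : Representation k A V) (U : Submodule k V) (hU : ∀ a, ∀ v ∈ U, ρ a v ∈ U)
    (Z H : Subgroup A) [Z.Normal] [Finite Z] [Fintype H] (hcard : (Nat.card Z : k) ≠ 0)
    (hcomm : ∀ a ∈ Z, ∀ b ∈ Z, ∀ v ∈ U, ρ a (ρ b v) = ρ b (ρ a v))
    (hfpf : ∀ h ∈ H, h ≠ 1 → ∀ z ∈ Z, h * z * h⁻¹ = z → z = 1)
    (hfix : ∀ v ∈ U, (∀ z ∈ Z, ρ z v = v) → v = 0) :
    ∃ W ≤ U, FreeOn ρ H U W := by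
  let σ : Representation k A U :=
    { toFun := fun a => (ρ a).restrict (hU a)
      map_one' := LinearMap.ext fun v => Subtype.ext (show ρ 1 v.1 = v.1 by simp)
      map_mul' := fun a b => LinearMap.ext fun v => Subtype.ext (show ρ (a * b) v.1 = ρ a (ρ b v.1) by
        rw [map_mul]; rfl) }
  obtain ⟨W, hW1, hW2⟩ := core σ Z H hcard
    (fun a ha b hb => LinearMap.ext fun v => Subtype.ext (hcomm a ha b hb v.1 v.2)) hfpf
    (fun v hv => Subtype.ext (hfix v.1 v.2 fun z hz => congrArg Subtype.val (hv z hz)))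
  have hPhi : ∀ f : H → U, (Phi σ H f).1 = Phi ρ H fun h => (f h).1 := fun f => by
    simp [Phi, σ]
  refine ⟨W.map U.subtype, Submodule.map_subtype_le U W, fun f hf h0 => ?_, fun u => ⟨fun hu => ?_, ?_⟩⟩
  · choose w hw hwf using fun h => Submodule.mem_map.1 (hf h)
    have := hW1 w hw (Subtype.ext (by
      rw [hPhi, ZeroMemClass.coe_zero, ← h0]
      exact congrArg _ (funext hwf)))
    funext h
    rw [← hwf h, congrFun this h]
    rfl
  · obtain ⟨f, hf, e⟩ := (hW2 ⟨u, hu⟩).1 trivial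
    exact ⟨fun h => (f h).1, fun h => Submodule.mem_map_of_mem (hf h), by rw [← hPhi, e]⟩
  · rintro ⟨f, hf, rfl⟩
    exact Submodule.sum_mem _ fun h _ => hU _ _ (Submodule.map_subtype_le U W (hf h))

theorem freeOn_sup {ρ : Representation k A V} {H : Subgroup A} [Fintype H]
    {U₁ U₂ W₁ W₂ : Submodule k V} (h₁ : FreeOn ρ H U₁ W₁) (h₂ : FreeOn ρ H U₂ W₂)
    (hd : U₁ ⊓ U₂ = ⊥) : FreeOn ρ H (U₁ ⊔ U₂) (W₁ ⊔ W₂) := by
  have hadd : ∀ f f' : H → V, Phi ρ H (f + f') = Phi ρ H f + Phi ρ H f' := fun f f' => by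
    simp [Phi, Finset.sum_add_distrib]
  refine ⟨fun f hf h0 => ?_, fun u => ⟨fun hu => ?_, ?_⟩⟩
  · choose a ha b hb hab using fun h => Submodule.mem_sup.1 (hf h)
    have e : f = a + b := funext fun h => (hab h).symm
    rw [e, hadd] at h0
    have ha' : Phi ρ H a ∈ U₁ := (h₁.2 _).2 ⟨a, ha, rfl⟩
    have hb' : Phi ρ H b ∈ U₂ := (h₂.2 _).2 ⟨b, hb, rfl⟩
    have h1 : Phi ρ H a = 0 := (Submodule.eq_bot_iff _).1 hd _
      ⟨ha', by rw [eq_neg_of_add_eq_zero_left h0]; exact U₂.neg_mem hb'⟩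
    rw [h1, zero_add] at h0
    rw [e, h₁.1 a ha h1, h₂.1 b hb h0, add_zero]
  · obtain ⟨x, hx, y, hy, rfl⟩ := Submodule.mem_sup.1 hu
    obtain ⟨a, ha, rfl⟩ := (h₁.2 x).1 hx
    obtain ⟨b, hb, rfl⟩ := (h₂.2 y).1 hy
    exact ⟨a + b, fun h => Submodule.add_mem_sup (ha h) (hb h), hadd a b⟩
  · rintro ⟨f, hf, rfl⟩
    choose a ha b hb hab using fun h => Submodule.mem_sup.1 (hf h)
    rw [show f = a + b from funext fun h => (hab h).symm, hadd]
    exact Submodule.add_mem_sup ((h₁.2 _).2 ⟨a, ha, rfl⟩) ((h₂.2 _).2 ⟨b, hb, rfl⟩)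

/-- A rank of a normal nilpotent subgroup of invertible order with fixed-point-free `H`. -/
theorem free_of_nilpotent [Finite A] (ρ : Representation k A V) (Q H : Subgroup A) [Q.Normal]
    [Fintype H] (hnil : Group.IsNilpotent Q) (hcard : (Nat.card Q : k) ≠ 0)
    (hfpf : ∀ h ∈ H, h ≠ 1 → ∀ z ∈ Q, h * z * h⁻¹ = z → z = 1)
    (hfix : ∀ v : V, (∀ z ∈ Q, ρ z v = v) → v = 0) :
    ∃ W, FreeOn ρ H ⊤ W := by
  classical
  let Zs : ℕ → Subgroup A := fun i => (Subgroup.upperCentralSeries Q i).map Q.subtype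
  haveI hZn : ∀ i, (Zs i).Normal := fun i => inferInstanceAs ((Subgroup.upperCentralSeries Q i).map Q.subtype).Normal
  have hle : ∀ i, Zs i ≤ Q := fun i => Subgroup.map_subtype_le _
  let fixs : ℕ → Submodule k V := fun i =>
    { carrier := {v | ∀ z ∈ Zs i, ρ z v = v}
      add_mem' := fun ha hb z hz => by rw [map_add, ha z hz, hb z hz]
      zero_mem' := fun z _ => map_zero _
      smul_mem' := fun c v hv z hz => by rw [map_smul, hv z hz] }
  have hfinv : ∀ i a, ∀ v ∈ fixs i, ρ a v ∈ fixs i := by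
    intro i a v hv z hz
    have h1 := hv _ ((hZn i).conj_mem z hz a⁻¹)
    calc ρ z (ρ a v) = ρ (a * (a⁻¹ * z * a⁻¹⁻¹)) v := by
          rw [← Module.End.mul_apply, ← map_mul]; congr 2; group
      _ = ρ a v := by rw [map_mul, Module.End.mul_apply, h1]
  suffices h : ∀ i, ∃ U W, FreeOn ρ H U W ∧ U ⊓ fixs i = ⊥ ∧ U ⊔ fixs i = ⊤ by
    obtain ⟨n, hn⟩ := hnil.nilpotent'
    obtain ⟨U, W, hF, -, hsup⟩ := h n
    have h0 : fixs n = ⊥ := (Submodule.eq_bot_iff _).2 fun v hv => hfix v fun z hz =>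
      hv z ⟨⟨z, hz⟩, by rw [hn]; trivial, rfl⟩
    rw [h0, sup_bot_eq] at hsup
    exact ⟨W, hsup ▸ hF⟩
  intro i
  induction i with
  | zero =>
    refine ⟨⊥, ⊥, ⟨fun f hf _ => funext fun h => (Submodule.mem_bot k).1 (hf h), fun u => ?_⟩,
      bot_inf_eq _, ?_⟩
    · constructor
      · intro hu
        exact ⟨0, fun h => Submodule.zero_mem _, by simp [Phi, (Submodule.mem_bot k).1 hu]⟩
      · rintro ⟨f, hf, rfl⟩
        simp [Phi, (Submodule.mem_bot k).1 (hf _)]
    · rw [bot_sup_eq, eq_top_iff]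
      intro v _ z hz
      obtain ⟨y, hy, rfl⟩ := hz
      rw [Subgroup.upperCentralSeries_zero] at hy
      rw [Subgroup.mem_bot.1 hy, map_one, map_one]
      rfl
  | succ i ih =>
    obtain ⟨U, W, hF, hd, hs⟩ := ih
    haveI := hZn (i + 1)
    haveI := Fintype.ofFinite (Zs (i + 1))
    have hmono : fixs (i + 1) ≤ fixs i := fun v hv z hz =>
      hv z (Subgroup.map_mono (Subgroup.upperCentralSeries_mono Q (Nat.le_succ i)) hz)
    let e : Module.End k V := ∑ z : Zs (i + 1), ρ (z : A)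
    have hea : ∀ a v, ρ a (e v) = e (ρ a v) := by
      intro a v
      simp only [e, LinearMap.sum_apply, map_sum]
      refine Fintype.sum_equiv ((MulAut.conjNormal a).toEquiv) _ _ fun z => ?_
      simp [← Module.End.mul_apply, ← map_mul, MulAut.conjNormal_apply]
    have hez : ∀ v, e v ∈ fixs (i + 1) := by
      intro v z hz
      simp only [e, LinearMap.sum_apply, map_sum]
      refine Fintype.sum_equiv (Equiv.mulLeft ⟨z, hz⟩) _ _ fun w => ?_
      simp
    have hef : ∀ v ∈ fixs (i + 1), e v = (Nat.card (Zs (i + 1)) : k) • v := by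
      intro v hv
      simp only [e, LinearMap.sum_apply]
      rw [Finset.sum_congr rfl fun (z : Zs (i + 1)) _ => hv z z.2, Finset.sum_const, Finset.card_univ,
        Nat.card_eq_fintype_card, Nat.cast_smul_eq_nsmul]
    have hc : (Nat.card (Zs (i + 1)) : k) ≠ 0 := by
      obtain ⟨d, hd⟩ := Subgroup.card_dvd_of_le (hle (i + 1))
      rw [hd, Nat.cast_mul] at hcard
      exact left_ne_zero_of_mul hcard
    let N : Submodule k V := fixs i ⊓ LinearMap.ker e
    have hN : ∀ a, ∀ v ∈ N, ρ a v ∈ N := fun a v hv =>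
      ⟨hfinv i a v hv.1, show e (ρ a v) = 0 by
        rw [← hea, LinearMap.mem_ker.1 hv.2, map_zero]⟩
    obtain ⟨W', -, hF'⟩ := core_on ρ N hN (Zs (i + 1)) H hc (by
      rintro a ⟨x, hx, rfl⟩ b ⟨y, hy, rfl⟩ v ⟨hv, -⟩
      have hcm : ⁅x⁻¹, y⁻¹⁆ ∈ Subgroup.upperCentralSeries Q i :=
        Subgroup.mem_upperCentralSeries_succ_iff.1 (inv_mem hx) _
      have h1 := hv _ ⟨_, hcm, rfl⟩
      rw [← Module.End.mul_apply, ← Module.End.mul_apply, ← map_mul, ← map_mul,
        ← map_mul, ← map_mul]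
      conv_rhs => rw [← h1, ← Module.End.mul_apply, ← map_mul, ← map_mul]
      congr 3
      rw [commutatorElement_def]; group)
      (fun h hh h1 z hz => hfpf h hh h1 z (hle _ hz))
      (fun v hv hz => by
        have h1 := hef v hz
        rw [LinearMap.mem_ker.1 hv.2] at h1
        exact (smul_eq_zero.1 h1.symm).resolve_left hc)
    have hNd : N ⊓ fixs (i + 1) = ⊥ := (Submodule.eq_bot_iff _).2 fun v hv => by
      have h1 := hef v hv.2
      rw [LinearMap.mem_ker.1 hv.1.2] at h1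
      exact (smul_eq_zero.1 h1.symm).resolve_left hc
    refine ⟨U ⊔ N, W ⊔ W', freeOn_sup hF hF'
      ((Submodule.eq_bot_iff _).2 fun v hv => (Submodule.eq_bot_iff _).1 hd v ⟨hv.1, hv.2.1⟩),
      (Submodule.eq_bot_iff _).2 fun v hv => ?_, ?_⟩
    · obtain ⟨x, hx, y, hy, rfl⟩ := Submodule.mem_sup.1 hv.1
      have : x ∈ fixs i := by simpa using (fixs i).sub_mem (hmono hv.2) hy.1
      have hx0 : x = 0 := (Submodule.eq_bot_iff _).1 hd x ⟨hx, this⟩
      rw [hx0, zero_add]
      exact (Submodule.eq_bot_iff _).1 hNd y ⟨hy, by simpa [hx0] using hv.2⟩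
    · rw [eq_top_iff, ← hs, sup_assoc]
      refine sup_le_sup_left (fun v hv => ?_) U
      refine Submodule.mem_sup.2 ⟨v - (Nat.card (Zs (i + 1)) : k)⁻¹ • e v, ⟨?_, ?_⟩,
        (Nat.card (Zs (i + 1)) : k)⁻¹ • e v, Submodule.smul_mem _ _ (hez v), sub_add_cancel _ _⟩
      · exact (fixs i).sub_mem hv ((fixs i).smul_mem _ (hmono (hez v)))
      · show e (v - _) = 0
        rw [map_sub, map_smul, hef _ (hez v), inv_smul_smul₀ hc, sub_self]

end core

end Cfsg.Agent.FreeFrob
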