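import Cfsg.Agent.Lib.Basics.SchurZassenhaus
import Cfsg.Agent.S0035

/-!
Elementary facts on Frobenius complements (malnormal subgroups), all complements are conjugate.
-/

set_option autoImplicit false
set_option linter.style.haveILetI false
set_option linter.unusedSectionVars false

open scoped Pointwise

namespace Cfsg.Agent.Basics

variable {G : Type*} [Group G] [Finite G]

theorem stabilizer_coset (H : Subgroup G) (g : G) :
    MulAction.stabilizer G ((g : G) : G ⧸ H) = MulAut.conj g • H := by
  ext x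
  rw [MulAction.mem_stabilizer_iff, mem_conj_smul]
  show ((x * g : G) : G ⧸ H) = g ↔ _
  rw [eq_comm, QuotientGroup.eq, mul_assoc]

/-- A nonidentity element fixes at most one coset of a malnormal subgroup. -/
theorem frobenius_fixed_unique {H : Subgroup G} (hH : Cfsg.IsFrobeniusComplement H) {x : G}
    (hx : x ≠ 1) {q r : G ⧸ H} (hq : x • q = q) (hr : x • r = r) : q = r := by
  induction q using QuotientGroup.induction_on with
  | H a =>
  induction r using QuotientGroup.induction_on with
  | H b =>
  rw [← MulAction.mem_stabilizer_iff, stabilizer_coset, mem_conj_smul] at hq hr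
  rw [QuotientGroup.eq]
  by_contra hne
  apply hx
  have h : a⁻¹ * x * a ∈ H ⊓ MulAut.conj (a⁻¹ * b) • H := by
    refine ⟨hq, ?_⟩
    show a⁻¹ * x * a ∈ MulAut.conj (a⁻¹ * b) • H
    rw [mem_conj_smul]
    convert hr using 1
    group
  rw [hH.2.2 _ hne, Subgroup.mem_bot, mul_eq_one_iff_eq_inv, inv_mul_eq_iff_eq_mul,
    mul_inv_cancel] at h
  exact h

/-- A group all of whose nonidentity elements fix exactly one point has a fixed point. -/
theorem exists_fixed_point_of_unique {L α : Type*} [Group L] [Finite L] [MulAction L α] [Finite α]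
    [Nonempty α] [Nontrivial L] (h : ∀ l : L, l ≠ 1 → ∃! a : α, l • a = a) :
    ∃ a : α, ∀ l : L, l • a = a := by
  classical
  haveI := Fintype.ofFinite L
  haveI := Fintype.ofFinite α
  obtain ⟨l₀, hl₀⟩ := exists_ne (1 : L)
  obtain ⟨a, ha, -⟩ := h l₀ hl₀
  refine ⟨a, ?_⟩
  set S := MulAction.stabilizer L a with hS
  have hcount : ∑ x : α, (Nat.card (MulAction.stabilizer L x) - 1) = Nat.card L - 1 := by
    have hcard : ∀ x : α, Nat.card (MulAction.stabilizer L x) - 1 =
        ∑ l : L, if l ≠ 1 ∧ l • x = x then 1 else 0 := by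
      intro x
      have hset : (Finset.univ.filter fun l : L => l ≠ 1 ∧ l • x = x) =
          (Finset.univ.filter fun l : L => l ∈ MulAction.stabilizer L x).erase 1 := by
        ext l; simp [MulAction.mem_stabilizer_iff]
      rw [← Finset.card_filter, hset, Finset.card_erase_of_mem (by simp),
        Nat.card_eq_fintype_card, Fintype.card_subtype]
    simp only [hcard]
    rw [Finset.sum_comm]
    have : ∀ l : L, (∑ x : α, if l ≠ 1 ∧ l • x = x then 1 else 0) =
        if l ≠ 1 then 1 else (0 : ℕ) := by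
      intro l
      by_cases hl : l = 1
      · simp [hl]
      · obtain ⟨b, hb, hu⟩ := h l hl
        rw [if_pos hl, Finset.sum_eq_single b (fun x _ hx => if_neg fun h => hx (hu x h.2))
          (fun h => absurd (Finset.mem_univ b) h), if_pos ⟨hl, hb⟩]
    simp only [this]
    rw [← Finset.card_filter, Finset.filter_ne', Finset.card_erase_of_mem (Finset.mem_univ _),
      Finset.card_univ, Nat.card_eq_fintype_card]
  set O := (Finset.univ : Finset α).filter fun x => x ∈ MulAction.orbit L a with hO
  have horb : O.card = S.index := by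
    rw [hS, MulAction.index_stabilizer, hO, Set.ncard_eq_toFinset_card']
    congr 1
    ext x; simp
  have hstab : ∀ x ∈ O, Nat.card (MulAction.stabilizer L x) = Nat.card S := by
    intro x hx
    obtain ⟨l, rfl⟩ := (Finset.mem_filter.mp hx).2
    rw [MulAction.stabilizer_smul_eq_stabilizer_map_conj,
      Subgroup.card_map_of_injective (MulAut.conj l).injective]
  have hS2 : 2 ≤ Nat.card S := by
    have hne : S ≠ ⊥ := fun e => hl₀ (by rw [← Subgroup.mem_bot, ← e]; exact ha)
    exact Subgroup.one_lt_card_iff_ne_bot S |>.mpr hne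
  by_cases hall : ∀ x ∉ O, Nat.card (MulAction.stabilizer L x) ≤ 1
  · have h1 : ∑ x : α, (Nat.card (MulAction.stabilizer L x) - 1) = S.index * (Nat.card S - 1) := by
      rw [← Finset.sum_subset (Finset.subset_univ O) fun x _ hx => by
        have := hall x hx; omega]
      rw [Finset.sum_congr rfl fun x hx => by rw [hstab x hx], Finset.sum_const, horb, smul_eq_mul]
    rw [hcount, Nat.mul_sub_one, mul_comm, S.card_mul_index] at h1
    have hidx : S.index = 1 := by
      have hpos : S.index ≠ 0 := Subgroup.index_ne_zero_of_finite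
      have hle : S.index ≤ Nat.card L := Nat.le_of_dvd Nat.card_pos (Subgroup.index_dvd_card S)
      have h2 := Nat.card_pos (α := L)
      omega
    rw [Subgroup.index_eq_one] at hidx
    intro l
    have : l ∈ S := hidx ▸ Subgroup.mem_top l
    exact this
  · push Not at hall
    obtain ⟨y, hy, hyS⟩ := hall
    exfalso
    set T := MulAction.stabilizer L y with hT
    set O' := (Finset.univ : Finset α).filter fun x => x ∈ MulAction.orbit L y with hO'
    have horb' : O'.card = T.index := by
      rw [hT, MulAction.index_stabilizer, hO', Set.ncard_eq_toFinset_card']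
      congr 1
      ext x; simp
    have hdisj : Disjoint O O' := by
      rw [Finset.disjoint_left]
      intro x hx hx'
      simp only [hO, hO', Finset.mem_filter, Finset.mem_univ, true_and] at hx hx' hy
      exact hy (MulAction.orbit_eq_iff.mp ((MulAction.orbit_eq_iff.mpr hx').symm.trans
        (MulAction.orbit_eq_iff.mpr hx)))
    have h1 : S.index * (Nat.card S - 1) + T.index * (Nat.card T - 1) ≤ Nat.card L - 1 := by
      rw [← hcount]
      refine le_trans ?_ (Finset.sum_le_sum_of_subset (Finset.subset_univ (O ∪ O')))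
      rw [Finset.sum_union hdisj]
      refine add_le_add (le_of_eq ?_) (le_of_eq ?_)
      · rw [Finset.sum_congr rfl fun x hx => by rw [hstab x hx], Finset.sum_const, horb, smul_eq_mul]
      · have hst : ∀ x ∈ O', Nat.card (MulAction.stabilizer L x) - 1 = Nat.card T - 1 := by
          intro x hx
          obtain ⟨l, rfl⟩ := (Finset.mem_filter.mp hx).2
          rw [MulAction.stabilizer_smul_eq_stabilizer_map_conj,
            Subgroup.card_map_of_injective (MulAut.conj l).injective]
        rw [Finset.sum_congr rfl hst, Finset.sum_const, horb', smul_eq_mul]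
    have e1 := S.card_mul_index
    have e2 := T.card_mul_index
    have i1 : Nat.card L ≤ 2 * (S.index * (Nat.card S - 1)) := by
      rw [← e1]
      obtain ⟨k, hk⟩ : ∃ k, Nat.card S = k + 2 := ⟨Nat.card S - 2, by omega⟩
      rw [hk, show k + 2 - 1 = k + 1 by omega]
      nlinarith
    have i2 : Nat.card L ≤ 2 * (T.index * (Nat.card T - 1)) := by
      rw [← e2]
      obtain ⟨k, hk⟩ : ∃ k, Nat.card T = k + 2 := ⟨Nat.card T - 2, by omega⟩
      rw [hk, show k + 2 - 1 = k + 1 by omega]
      nlinarith
    have h2 := Nat.card_pos (α := L)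
    omega

/-- A subgroup every nonidentity element of which lies in a conjugate of `H` lies in one. -/
theorem exists_le_conj_of_forall {H : Subgroup G} (hH : Cfsg.IsFrobeniusComplement H)
    (L : Subgroup G) (hL : ∀ l ∈ L, l ≠ 1 → ∃ g : G, l ∈ MulAut.conj g • H) :
    ∃ g : G, L ≤ MulAut.conj g • H := by
  rcases eq_or_ne L ⊥ with rfl | hne
  · exact ⟨1, bot_le⟩
  haveI := L.nontrivial_iff_ne_bot.mpr hne
  obtain ⟨q, hq⟩ := exists_fixed_point_of_unique (L := L) (α := G ⧸ H) (fun l hl => by
    have hl' : (l : G) ≠ 1 := fun e => hl (Subtype.ext e)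
    obtain ⟨g, hg⟩ := hL l l.2 hl'
    rw [← stabilizer_coset, MulAction.mem_stabilizer_iff] at hg
    exact ⟨_, hg, fun r hr => frobenius_fixed_unique hH hl' hr hg⟩)
  induction q using QuotientGroup.induction_on with
  | H g =>
    refine ⟨g, fun x hx => ?_⟩
    rw [← stabilizer_coset]
    exact hq ⟨x, hx⟩

theorem frobenius_kernel_exists {H : Subgroup G} (hH : Cfsg.IsFrobeniusComplement H) :
    ∃ N : Subgroup G, (N : Set G) = Cfsg.frobeniusKernel H ∧ N.Normal ∧
      Subgroup.IsComplement' N H ∧ Nat.card N = H.index :=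
  let ⟨N, h1, h2, h3⟩ := S0035.result H hH
  ⟨N, h1, h2, h3, h3.index_eq_card.symm⟩

theorem frobenius_index_modEq {H : Subgroup G} (hH : Cfsg.IsFrobeniusComplement H) :
    Nat.card H ∣ H.index - 1 := by
  classical
  haveI := Fintype.ofFinite (G ⧸ H)
  haveI := Fintype.ofFinite H
  let α := {q : G ⧸ H // q ≠ ((1 : G) : G ⧸ H)}
  have hone : ∀ h : H, (h : G) • ((1 : G) : G ⧸ H) = ((1 : G) : G ⧸ H) := fun h => by
    show (((h : G) * 1 : G) : G ⧸ H) = _
    rw [QuotientGroup.eq]
    simpa using h.2
  letI : MulAction H α :=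
    { smul := fun h q => ⟨(h : G) • q.1, fun e => q.2 (by
        have := congrArg ((h : G)⁻¹ • ·) e
        simp only [inv_smul_smul] at this
        rw [this, inv_smul_eq_iff, hone])⟩
      one_smul := fun q => Subtype.ext (one_smul G q.1)
      mul_smul := fun a b q => Subtype.ext (mul_smul (a : G) (b : G) q.1) }
  have hfree : ∀ q : α, MulAction.stabilizer H q = ⊥ := fun q => by
    rw [eq_bot_iff]
    intro h hh
    rw [Subgroup.mem_bot]
    by_contra hne
    exact q.2 (frobenius_fixed_unique hH (fun e => hne (Subtype.ext e))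
      (congrArg Subtype.val (MulAction.mem_stabilizer_iff.mp hh)) (hone h))
  have hcard : Nat.card α = H.index - 1 := by
    rw [Nat.card_eq_fintype_card, Subgroup.index_eq_card, Nat.card_eq_fintype_card,
      Fintype.card_subtype_compl, Fintype.card_subtype_eq]
  rw [← hcard, Nat.card_congr (MulAction.selfEquivSigmaOrbitsQuotientStabilizer H α), Nat.card_sigma]
  refine Finset.dvd_sum fun q _ => ?_
  rw [hfree, ← Subgroup.index_eq_card, Subgroup.index_bot]

theorem frobenius_coprime {H : Subgroup G} (hH : Cfsg.IsFrobeniusComplement H) :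
    (Nat.card H).Coprime H.index := by
  obtain ⟨c, hc⟩ := frobenius_index_modEq hH
  have h1 : H.index = Nat.card H * c + 1 := by
    have : H.index ≠ 0 := Subgroup.index_ne_zero_of_finite
    omega
  rw [h1, Nat.coprime_mul_left_add_right]
  exact Nat.coprime_one_right _

theorem le_conj_of_card_dvd {H : Subgroup G} (hH : Cfsg.IsFrobeniusComplement H) (L : Subgroup G)
    (hL : Nat.card L ∣ Nat.card H) : ∃ g : G, L ≤ MulAut.conj g • H := by
  refine exists_le_conj_of_forall hH L fun l hl hl1 => ?_
  by_contra h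
  push Not at h
  obtain ⟨N, hN, -, -, hcard⟩ := frobenius_kernel_exists hH
  have hlN : l ∈ N := by
    rw [← SetLike.mem_coe, hN]
    exact Or.inr h
  have hd : orderOf l ∣ 1 := by
    rw [← (Nat.coprime_iff_gcd_eq_one.mp (frobenius_coprime hH))]
    refine Nat.dvd_gcd ((Subgroup.orderOf_dvd_natCard L hl).trans hL) ?_
    rw [← hcard]
    exact Subgroup.orderOf_dvd_natCard N hlN
  exact hl1 (orderOf_eq_one_iff.mp (Nat.dvd_one.mp hd))

/-- Of two Frobenius complements the smaller lies in a conjugate of the larger. -/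
theorem frobenius_complement_le_conj {H H₀ : Subgroup G} (hH : Cfsg.IsFrobeniusComplement H)
    (hH₀ : Cfsg.IsFrobeniusComplement H₀) (hle : Nat.card H₀ ≤ Nat.card H) :
    ∃ g : G, MulAut.conj g • H₀ ≤ H := by
  classical
  obtain ⟨N, hN, hNn, -, hcard⟩ := frobenius_kernel_exists hH
  suffices hD : H₀ ⊓ N = ⊥ by
    obtain ⟨g, hg⟩ := exists_le_conj_of_forall hH H₀ fun l hl hl1 => by
      by_contra h
      push Not at h
      have hlN : l ∈ N := by
        rw [← SetLike.mem_coe, hN]
        exact Or.inr h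
      exact hl1 ((Subgroup.eq_bot_iff_forall _).mp hD l ⟨hl, hlN⟩)
    refine ⟨g⁻¹, ?_⟩
    rw [map_inv, ← Subgroup.subset_pointwise_smul_iff]
    exact hg
  by_contra hne
  obtain ⟨d, ⟨hd0, hdN⟩, hd1⟩ := (Subgroup.bot_or_exists_ne_one (H₀ ⊓ N)).resolve_left hne
  let f : G ⧸ H₀ → {x : N // x ≠ 1} := fun q =>
    ⟨⟨q.out * d * q.out⁻¹, hNn.conj_mem d hdN _⟩, fun h => hd1
      (conj_eq_one_iff.mp (congrArg Subtype.val h))⟩
  have hf : Function.Injective f := by
    intro q r h
    have h' : q.out * d * q.out⁻¹ = r.out * d * r.out⁻¹ :=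
      congrArg (fun x : {x : N // x ≠ 1} => ((x : N) : G)) h
    rw [← q.out_eq', ← r.out_eq', QuotientGroup.eq]
    by_contra hne
    have hmem : d ∈ H₀ ⊓ MulAut.conj (q.out⁻¹ * r.out) • H₀ := by
      refine ⟨hd0, ?_⟩
      show d ∈ MulAut.conj (q.out⁻¹ * r.out) • H₀
      rw [mem_conj_smul]
      rw [show (q.out⁻¹ * r.out)⁻¹ * d * (q.out⁻¹ * r.out) = d by
        calc (q.out⁻¹ * r.out)⁻¹ * d * (q.out⁻¹ * r.out)
            = r.out⁻¹ * (q.out * d * q.out⁻¹) * r.out := by group
          _ = d := by rw [h']; group]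
      exact hd0
    rw [hH₀.2.2 _ hne, Subgroup.mem_bot] at hmem
    exact hd1 hmem
  have h1 : H₀.index < Nat.card N := by
    rw [Subgroup.index_eq_card]
    refine (Nat.card_le_card_of_injective f hf).trans_lt ?_
    haveI := Fintype.ofFinite N
    rw [Nat.card_eq_fintype_card, Nat.card_eq_fintype_card]
    exact Fintype.card_subtype_lt (x := 1) (by simp)
  rw [hcard] at h1
  have e1 := H.card_mul_index
  have e2 := H₀.card_mul_index
  rw [← e1] at e2
  nlinarith [Nat.card_pos (α := H₀)]

/-- The conjugation action of a normalising element on an abelian subgroup. -/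
noncomputable def conjOn (V : Subgroup G) (x : G) : V → V :=
  haveI := Classical.propDecidable (x ∈ Subgroup.normalizer (V : Set G))
  fun v => if h : x ∈ Subgroup.normalizer (V : Set G) then
    ⟨x * v * x⁻¹, (conj_mem_iff_of_mem_normalizer h).mpr v.2⟩ else v

theorem conjOn_coe {V : Subgroup G} {x : G} (h : x ∈ Subgroup.normalizer (V : Set G)) (v : V) :
    (conjOn V x v : G) = x * v * x⁻¹ := by
  simp [conjOn, h]

/-- The averaging trick: a group `D ⋊ B` with `C_D(b) = 1` cannot act fixed-point-freely. -/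
theorem fpf_pow_eq_one (V D B : Subgroup G) [IsMulCommutative V]
    (hDV : D ≤ Subgroup.normalizer (V : Set G)) (hBV : B ≤ Subgroup.normalizer (V : Set G))
    (hBD : B ≤ Subgroup.normalizer (D : Set G)) (hDne : D ≠ ⊥) (hBne : B ≠ ⊥)
    (hcent : ∀ d ∈ D, ∀ b ∈ B, b ≠ 1 → d * b = b * d → d = 1)
    (hfpf : ∀ x ∈ D ⊔ B, x ≠ 1 → V ⊓ Subgroup.centralizer {x} = ⊥) {v : G} (hv : v ∈ V) :
    v ^ Nat.card D = 1 := by
  classical
  haveI := Fintype.ofFinite D
  haveI := Fintype.ofFinite B
  letI : CommGroup V := { (inferInstance : Group V) with mul_comm := IsMulCommutative.is_comm.comm }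
  have hn : ∀ d : D, ∀ b : B, (d : G) * b ∈ Subgroup.normalizer (V : Set G) :=
    fun d b => mul_mem (hDV d.2) (hBV b.2)
  have hmul : ∀ x y : G, x ∈ Subgroup.normalizer (V : Set G) → y ∈ Subgroup.normalizer (V : Set G) →
      ∀ w : V, conjOn V x (conjOn V y w) = conjOn V (x * y) w := fun x y hx hy w => Subtype.ext (by
    rw [conjOn_coe hx, conjOn_coe hy, conjOn_coe (mul_mem hx hy)]
    group)
  have hfix : ∀ x ∈ D ⊔ B, x ≠ 1 → ∀ w : V, conjOn V x w = w → w = 1 := by
    intro x hx hx1 w hw
    have h := congrArg Subtype.val hw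
    rw [conjOn_coe (sup_le hDV hBV hx), mul_inv_eq_iff_eq_mul] at h
    apply Subtype.ext
    have hmem : (w : G) ∈ V ⊓ Subgroup.centralizer {x} :=
      ⟨w.2, show (w : G) ∈ Subgroup.centralizer {x} from
        Subgroup.mem_centralizer_singleton_iff.mpr h.symm⟩
    rwa [hfpf x hx hx1, Subgroup.mem_bot] at hmem
  have hone : ∀ w : V, conjOn V 1 w = w := fun w => Subtype.ext (by rw [conjOn_coe (one_mem _)]; simp)
  -- orbit products over `D` and over conjugates of `B` are trivial
  have hprodD : ∀ w : V, ∏ d : D, conjOn V (d : G) w = 1 := by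
    intro w
    obtain ⟨e, he, he1⟩ := (Subgroup.bot_or_exists_ne_one D).resolve_left hDne
    refine hfix e (Subgroup.mem_sup_left he) he1 _ ?_
    have hpm : conjOn V e (∏ d : D, conjOn V (d : G) w) = ∏ d : D, conjOn V e (conjOn V (d : G) w) := by
      let f : V →* V := MonoidHom.mk' (conjOn V e) (fun a b => Subtype.ext (by
        simp [conjOn_coe (hDV he), mul_assoc]))
      exact map_prod f _ _
    rw [hpm]
    simp only [hmul _ _ (hDV he) (hDV (SetLike.coe_mem _))]
    exact Equiv.prod_comp (Equiv.mulLeft (⟨e, he⟩ : D)) (fun d => conjOn V (d : G) w)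
  have hprodB : ∀ (d : D) (w : V), ∏ b : B, conjOn V ((d : G) * b * (d : G)⁻¹) w = 1 := by
    intro d w
    obtain ⟨e, he, he1⟩ := (Subgroup.bot_or_exists_ne_one B).resolve_left hBne
    have hde : (d : G) * e * (d : G)⁻¹ ∈ D ⊔ B :=
      mul_mem (mul_mem (Subgroup.mem_sup_left d.2) (Subgroup.mem_sup_right he))
        (Subgroup.mem_sup_left (inv_mem d.2))
    refine hfix _ hde (fun h => he1 (conj_eq_one_iff.mp h)) _ ?_
    have hpm : conjOn V ((d : G) * e * (d : G)⁻¹) (∏ b : B, conjOn V ((d : G) * b * (d : G)⁻¹) w) =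
        ∏ b : B, conjOn V ((d : G) * e * (d : G)⁻¹) (conjOn V ((d : G) * b * (d : G)⁻¹) w) := by
      let f : V →* V := MonoidHom.mk' (conjOn V ((d : G) * e * (d : G)⁻¹)) (fun a b => Subtype.ext (by
        simp only [conjOn_coe (sup_le hDV hBV hde), Subgroup.coe_mul]
        group))
      exact map_prod f _ _
    rw [hpm]
    simp only [hmul _ _ (sup_le hDV hBV hde) (mul_mem (hn d _) (inv_mem (hDV d.2)))]
    rw [← Equiv.prod_comp (Equiv.mulLeft (⟨e, he⟩ : B))
      (fun b => conjOn V ((d : G) * b * (d : G)⁻¹) w)]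
    refine Finset.prod_congr rfl fun b _ => ?_
    congr 1
    simp [mul_assoc]
  let w : V := ⟨v, hv⟩
  have hswap : ∏ d : D, ∏ b : B, conjOn V ((d : G) * b * (d : G)⁻¹) w = 1 :=
    Finset.prod_eq_one fun d _ => hprodB d w
  rw [Finset.prod_comm, ← Finset.mul_prod_erase _ _ (Finset.mem_univ (1 : B)),
    Finset.prod_eq_one (s := Finset.univ.erase (1 : B)) (fun b hb => ?_), mul_one] at hswap
  · simp only [OneMemClass.coe_one, mul_one, mul_inv_cancel, hone, Finset.prod_const,
      Finset.card_univ, ← Nat.card_eq_fintype_card] at hswap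
    exact congrArg Subtype.val hswap
  · have hb1 : (b : G) ≠ 1 := fun e => Finset.ne_of_mem_erase hb (Subtype.ext e)
    let g : D → D := fun d => ⟨(d : G) * b * (d : G)⁻¹ * (b : G)⁻¹, by
      have h := mul_mem d.2 ((conj_mem_iff_of_mem_normalizer (hBD b.2)).mpr (inv_mem d.2))
      simpa [mul_assoc] using h⟩
    have hg : Function.Injective g := by
      intro d e h
      have h' := mul_right_cancel (congrArg Subtype.val h)
      apply Subtype.ext
      have := hcent ((e : G)⁻¹ * d) (mul_mem (inv_mem e.2) d.2) b b.2 hb1 (by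
        calc (e : G)⁻¹ * d * b = (e : G)⁻¹ * ((d : G) * b * (d : G)⁻¹) * d := by group
        _ = (e : G)⁻¹ * ((e : G) * b * (e : G)⁻¹) * d := by rw [h']
        _ = b * ((e : G)⁻¹ * d) := by group)
      rwa [inv_mul_eq_one, eq_comm] at this
    calc ∏ d : D, conjOn V ((d : G) * b * (d : G)⁻¹) w
        = ∏ d : D, conjOn V ((g d : G) * b) w := by
          refine Finset.prod_congr rfl fun d _ => ?_
          simp [g]
      _ = ∏ d : D, conjOn V ((d : G) * b) w :=
          Fintype.prod_bijective g (Finite.injective_iff_bijective.mp hg) _ _ (fun d => rfl)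
      _ = 1 := by
          simp only [← hmul _ _ (hDV (SetLike.coe_mem _)) (hBV b.2)]
          exact hprodD _

/-- All Frobenius complements are conjugate. -/
theorem frobenius_complement_conj {H H₀ : Subgroup G} (hH : Cfsg.IsFrobeniusComplement H)
    (hH₀ : Cfsg.IsFrobeniusComplement H₀) : ∃ g : G, MulAut.conj g • H₀ = H := by
  have key : ∀ A B : Subgroup G, Cfsg.IsFrobeniusComplement A → Cfsg.IsFrobeniusComplement B →
      B ≤ A → B = A := by
    intro A B hA hB hBA
    by_contra hne
    obtain ⟨N, hN, hNn, hNc, hNcard⟩ := frobenius_kernel_exists hB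
    obtain ⟨M, hM, hMn, hMc, hMcard⟩ := frobenius_kernel_exists hA
    set D := N ⊓ A with hD
    have hDne : D ≠ ⊥ := by
      obtain ⟨a, haA, haB⟩ : ∃ a ∈ A, a ∉ N ∨ a ≠ 1 ∧ a ∈ N := by
        obtain ⟨a, ha, ha1⟩ := (Subgroup.bot_or_exists_ne_one A).resolve_left hA.1
        exact ⟨a, ha, (em (a ∈ N)).elim (fun h => Or.inr ⟨ha1, h⟩) Or.inl⟩
      intro h
      have h1 : Nat.card A = Nat.card B := by
        refine le_antisymm ?_ (Subgroup.card_le_of_le hBA)
        have hle : A ≤ Subgroup.normalizer (N : Set G) := Subgroup.le_normalizer_of_normal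
        have h2 := card_mul_card_eq_card_sup_mul_card_inf hle
        rw [← hD, h, Subgroup.card_bot, mul_one] at h2
        have h3 := Subgroup.card_le_card_group (N ⊔ A)
        rw [← h2, ← hNc.card_mul_card] at h3
        exact Nat.le_of_mul_le_mul_left h3 Nat.card_pos
      exact hne (Subgroup.eq_of_le_of_card_ge hBA h1.le)
    obtain ⟨z, hz, hz1⟩ := (Subgroup.bot_or_exists_ne_one M).resolve_left (fun h => hA.2.1 (by
      rwa [h, Subgroup.isComplement'_bot_left] at hMc))
    have hMne : Nat.card M ≠ 1 := fun h => hz1 (by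
      rwa [Subgroup.card_eq_one.mp h, Subgroup.mem_bot] at hz)
    obtain ⟨p, hp, hpd⟩ := Nat.exists_prime_and_dvd hMne
    haveI : Fact p.Prime := ⟨hp⟩
    haveI := hMn
    let P : Sylow p M := default
    set Q := (P : Subgroup M).map M.subtype with hQ
    -- an `A`-invariant Sylow subgroup of the kernel
    obtain ⟨Q', hQ'M, hQ'p, hQ'ne, hAQ'⟩ : ∃ Q' : Subgroup G, Q' ≤ M ∧ IsPGroup p Q' ∧ Q' ≠ ⊥ ∧
        A ≤ Subgroup.normalizer (Q' : Set G) := by
      set R := Subgroup.normalizer (Q : Set G) with hR
      have hsup : R ⊔ M = ⊤ := Sylow.normalizer_sup_eq_top P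
      have hQne : Q ≠ ⊥ := by
        intro h
        rw [hQ, Subgroup.map_eq_bot_iff_of_injective _ M.subtype_injective] at h
        have := P.dvd_card_of_dvd_card hpd
        rw [h, Subgroup.card_bot] at this
        exact hp.not_dvd_one this
      have hMA : (Nat.card (M ⊓ R : Subgroup G)).Coprime (Nat.card A) :=
        Nat.Coprime.coprime_dvd_left (Subgroup.card_dvd_of_le inf_le_left)
          (hMcard ▸ (frobenius_coprime hA).symm)
      have hidx : ((M ⊓ R).subgroupOf R).index = Nat.card A := by
        have h1 := card_mul_card_eq_card_sup_mul_card_inf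
          (Subgroup.le_normalizer_of_normal : R ≤ Subgroup.normalizer (M : Set G))
        rw [sup_comm, hsup, Subgroup.card_top, ← hMc.card_mul_card] at h1
        have h2 := Subgroup.card_mul_index ((M ⊓ R).subgroupOf R)
        rw [card_subgroupOf inf_le_right] at h2
        rw [← h2, mul_assoc] at h1
        rw [mul_comm (Nat.card A) (Nat.card (M ⊓ R : Subgroup G))] at h1
        have h3 := Nat.eq_of_mul_eq_mul_left Nat.card_pos h1
        exact Nat.eq_of_mul_eq_mul_left Nat.card_pos h3
      haveI : ((M ⊓ R).subgroupOf R).Normal := by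
        rw [Subgroup.inf_subgroupOf_right]; infer_instance
      obtain ⟨C, hC⟩ := Subgroup.exists_right_complement'_of_coprime
        (N := (M ⊓ R).subgroupOf R) (by rw [hidx, card_subgroupOf inf_le_right]; exact hMA)
      have hCcard : Nat.card (C.map R.subtype) = Nat.card A := by
        rw [Subgroup.card_map_of_injective R.subtype_injective, ← hidx, hC.symm.index_eq_card]
      obtain ⟨g, hg⟩ := le_conj_of_card_dvd hA (C.map R.subtype) hCcard.dvd
      have heq : C.map R.subtype = MulAut.conj g • A :=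
        Subgroup.eq_of_le_of_card_ge hg (by rw [card_conj_smul, hCcard])
      refine ⟨MulAut.conj g⁻¹ • Q, ?_, isPGroup_conj_smul _ (P.isPGroup'.map _), ?_, ?_⟩
      · rw [← Subgroup.Normal.conj_smul_eq_self g⁻¹ M]
        exact Subgroup.pointwise_smul_le_pointwise_smul_iff.mpr (Subgroup.map_subtype_le _)
      · intro h
        have h' := congrArg Nat.card (congrArg (fun S : Subgroup G => ↥S) h)
        rw [card_conj_smul, Subgroup.card_bot, Subgroup.card_eq_one] at h'
        exact hQne h'
      · rw [normalizer_conj_smul, Subgroup.subset_pointwise_smul_iff]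
        simp only [map_inv, inv_inv]
        rw [← heq]
        exact Subgroup.map_subtype_le C
    set V := (Subgroup.center Q').map Q'.subtype with hV
    have hVne : V ≠ ⊥ := by
      haveI := Q'.nontrivial_iff_ne_bot.mpr hQ'ne
      rw [hV, Ne, Subgroup.map_eq_bot_iff_of_injective _ Q'.subtype_injective]
      exact (hQ'p.bot_lt_center).ne'
    haveI : IsMulCommutative V := by
      refine ⟨⟨fun a b => ?_⟩⟩
      obtain ⟨_, ⟨a', ha, rfl⟩⟩ := a
      obtain ⟨_, ⟨b', hb, rfl⟩⟩ := b
      exact Subtype.ext (congrArg (fun z : Q' => (z : G)) (Subgroup.mem_center_iff.mp hb a'))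
    have hAV : A ≤ Subgroup.normalizer (V : Set G) := by
      intro a ha
      refine conj_smul_eq_self_iff.mp
        (Subgroup.eq_of_le_of_card_ge ?_ (card_conj_smul a V).ge)
      intro x hx
      rw [mem_conj_smul] at hx
      obtain ⟨y, hy, hyx⟩ := hx
      simp only [Subgroup.subtype_apply] at hyx
      have hyQ : a * (y : G) * a⁻¹ ∈ Q' := (conj_mem_iff_of_mem_normalizer (hAQ' ha)).mpr y.2
      refine ⟨⟨_, hyQ⟩, ?_, ?_⟩
      · rw [SetLike.mem_coe, Subgroup.mem_center_iff]
        intro z
        apply Subtype.ext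
        have hz := congrArg Subtype.val (Subgroup.mem_center_iff.mp hy
          ⟨a⁻¹ * z * a, by
            have := (conj_mem_iff_of_mem_normalizer (inv_mem (hAQ' ha))).mpr z.2
            simpa using this⟩)
        simp only [Subgroup.coe_mul] at hz ⊢
        calc (z : G) * (a * y * a⁻¹) = a * (a⁻¹ * z * a * y) * a⁻¹ := by group
        _ = a * ((y : G) * (a⁻¹ * z * a)) * a⁻¹ := by rw [hz]
        _ = a * y * a⁻¹ * z := by group
      · simp only [Subgroup.subtype_apply]
        rw [hyx]; group
    have hfpfA : ∀ x ∈ A, x ≠ 1 → M ⊓ Subgroup.centralizer {x} = ⊥ := by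
      intro x hx hx1
      rw [eq_bot_iff]
      rintro m ⟨hm, hmc⟩
      rw [Subgroup.mem_bot]
      have hmx : m * x = x * m := Subgroup.mem_centralizer_singleton_iff.mp hmc
      have hmA : m ∈ A := by
        by_contra h
        refine hx1 ((Subgroup.eq_bot_iff_forall _).mp (hA.2.2 m h) x ⟨hx, ?_⟩)
        show x ∈ MulAut.conj m • A
        rw [mem_conj_smul, mul_assoc, ← hmx, inv_mul_cancel_left]
        exact hx
      have := hMc.disjoint.le_bot ⟨hm, hmA⟩
      exact this
    obtain ⟨v, hv, hv1⟩ := (Subgroup.bot_or_exists_ne_one V).resolve_left hVne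
    have hpow := fpf_pow_eq_one V D B ((inf_le_right).trans hAV) (hBA.trans hAV)
      (fun b hb => by
        rw [← conj_smul_eq_self_iff, hD, Subgroup.smul_inf, Subgroup.Normal.conj_smul_eq_self,
          Subgroup.conj_smul_eq_self_of_mem (hBA hb)])
      hDne hB.1
      (fun d hd b hb hb1 hdb => by
        have hdB : d ∈ B := by
          by_contra h
          refine hb1 ((Subgroup.eq_bot_iff_forall _).mp (hB.2.2 d h) b ⟨hb, ?_⟩)
          show b ∈ MulAut.conj d • B
          rw [mem_conj_smul, mul_assoc, ← hdb, inv_mul_cancel_left]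
          exact hb
        exact hNc.disjoint.le_bot ⟨hd.1, hdB⟩)
      (fun x hx hx1 => le_bot_iff.mp ((inf_le_inf_right _
        ((Subgroup.map_subtype_le _).trans hQ'M)).trans
          (hfpfA x (sup_le inf_le_right hBA hx) hx1).le)) hv
    apply hv1
    have hdiv : orderOf v ∣ 1 := by
      rw [← (Nat.coprime_iff_gcd_eq_one.mp (frobenius_coprime hA))]
      refine Nat.dvd_gcd ((orderOf_dvd_of_pow_eq_one hpow).trans
        (Subgroup.card_dvd_of_le inf_le_right)) ?_
      rw [← hMcard]
      exact Subgroup.orderOf_dvd_natCard M (hQ'M (Subgroup.map_subtype_le _ hv))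
    exact orderOf_eq_one_iff.mp (Nat.dvd_one.mp hdiv)
  have hconj : ∀ (A : Subgroup G) (g : G), Cfsg.IsFrobeniusComplement A →
      Cfsg.IsFrobeniusComplement (MulAut.conj g • A) := by
    intro A g hA
    refine ⟨fun h => hA.1 ?_, fun h => hA.2.1 ?_, fun x hx => ?_⟩
    · rw [← conj_smul_inv_eq h, Subgroup.smul_bot]
    · rw [← conj_smul_inv_eq h, Subgroup.Normal.conj_smul_eq_self]
    · rw [mem_conj_smul] at hx
      have h := congrArg (fun S : Subgroup G => MulAut.conj g • S) (hA.2.2 _ hx)
      simp only [Subgroup.smul_inf, Subgroup.smul_bot, conj_smul_conj_smul] at h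
      rw [conj_smul_conj_smul]
      convert h using 3
      group
  rcases le_total (Nat.card H₀) (Nat.card H) with h | h
  · obtain ⟨g, hg⟩ := frobenius_complement_le_conj hH hH₀ h
    exact ⟨g, key H _ hH (hconj H₀ g hH₀) hg⟩
  · obtain ⟨g, hg⟩ := frobenius_complement_le_conj hH₀ hH h
    exact ⟨g⁻¹, conj_smul_inv_eq (key H₀ _ hH₀ (hconj H g hH) hg)⟩

end Cfsg.Agent.Basics
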