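import Cfsg.Agent.Lib.Basics.Tools

/-!
Gaschütz's theorem on abelian normal subgroups.
-/

set_option autoImplicit false

open scoped Pointwise

namespace Cfsg.Agent.Basics

variable {G : Type*} [Group G] [Finite G]

theorem gaschutz_exists_pow {K : Subgroup G} {m : ℕ} (h : (Nat.card K).Coprime m) :
    ∃ n : ℕ, ∀ k ∈ K, (k ^ m) ^ n = k := by
  rcases Nat.lt_or_ge 1 (Nat.card K) with h1 | h1
  · obtain ⟨n, hn⟩ := Nat.exists_mul_mod_eq_one_of_coprime h.symm h1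
    refine ⟨n, fun k hk => ?_⟩
    rw [← pow_mul, pow_eq_pow_mod (n := Nat.card K) _ (congrArg Subtype.val (pow_card_eq_one' (x := (⟨k, hk⟩ : K)))),
      hn.2, pow_one]
  · refine ⟨0, fun k hk => ?_⟩
    have : K = ⊥ := Subgroup.card_eq_one.mp (le_antisymm h1 Nat.card_pos)
    rw [this, Subgroup.mem_bot] at hk
    rw [hk]; simp

/-- The crossed homomorphism of an averaged section. -/
theorem gaschutz_complement (K U : Subgroup G) [K.Normal] [IsMulCommutative K] (hKU : K ≤ U)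
    (hcop : (Nat.card K).Coprime U.index) (A : Subgroup G) (hAU : A ≤ U) (hAK : A ⊓ K = ⊥)
    (hKA : K ⊔ A = U) : ∃ H : Subgroup G, Subgroup.IsComplement' K H := by
  classical
  haveI := Fintype.ofFinite (G ⧸ U)
  have hcomm : ∀ x ∈ K, ∀ y ∈ K, x * y = y * x := fun x hx y hy =>
    congrArg Subtype.val (mul_comm' (⟨x, hx⟩ : K) ⟨y, hy⟩)
  have hconj : ∀ g : G, ∀ x ∈ K, g * x * g⁻¹ ∈ K := fun g x hx =>
    (inferInstance : K.Normal).conj_mem x hx g
  let r : G → G := fun g => ((QuotientGroup.mk g⁻¹ : G ⧸ U).out)⁻¹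
  have hrU : ∀ g, g * (r g)⁻¹ ∈ U := fun g => by
    have := QuotientGroup.eq.mp (QuotientGroup.out_eq' (QuotientGroup.mk g⁻¹ : G ⧸ U))
    simp only [r, inv_inv]
    simpa using U.inv_mem this
  have hdec : ∀ g, ∃ a ∈ A, g * (r g)⁻¹ * a⁻¹ ∈ K := fun g => by
    have h : g * (r g)⁻¹ ∈ K ⊔ A := hKA.symm ▸ hrU g
    obtain ⟨k, hk, a, ha, e⟩ := Subgroup.mem_sup_of_normal_left.mp h
    exact ⟨a, ha, by rw [← e, mul_inv_cancel_right]; exact hk⟩
  choose α hαA hαK using hdec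
  let s : G → G := fun g => α g * r g
  have hs : ∀ g, g * (s g)⁻¹ ∈ K := fun g => by
    simpa [s, mul_assoc] using hαK g
  have huniq : ∀ a ∈ A, ∀ b ∈ A, a * b⁻¹ ∈ K → a = b := fun a ha b hb h => by
    have : a * b⁻¹ ∈ A ⊓ K := ⟨A.mul_mem ha (A.inv_mem hb), h⟩
    rwa [hAK, Subgroup.mem_bot, mul_inv_eq_one] at this
  have hsleft : ∀ k ∈ K, ∀ a ∈ A, ∀ g, s (k * a * g) = a * s g := by
    intro k hk a ha g
    have hu : k * a ∈ U := U.mul_mem (hKU hk) (hAU ha)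
    have hr : r (k * a * g) = r g := by
      simp only [r]
      congr 2
      rw [QuotientGroup.eq]
      simp [mul_assoc, hu]
    have : α (k * a * g) = a * α g := by
      refine huniq _ (hαA _) _ (A.mul_mem ha (hαA g)) ?_
      have h1 := K.inv_mem (hαK (k * a * g))
      rw [hr] at h1
      have h2 := hconj a _ (hαK g)
      have h4 : α (k * a * g) * (a * α g)⁻¹ =
          ((k * a * g * (r g)⁻¹ * (α (k * a * g))⁻¹))⁻¹ * (k * (a * (g * (r g)⁻¹ * (α g)⁻¹) * a⁻¹)) := by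
        group
      rw [h4]
      exact K.mul_mem h1 (K.mul_mem hk h2)
    show α (k * a * g) * r (k * a * g) = a * (α g * r g)
    rw [this, hr, mul_assoc]
  -- the averaged cocycle
  let d : G → G → G := fun t h => h * (s (t * h))⁻¹ * s t
  have hdK : ∀ t h, d t h ∈ K := by
    intro t h
    have h1 := hconj t⁻¹ _ (hs (t * h))
    rw [inv_inv] at h1
    have e : d t h = (t⁻¹ * (t * h * (s (t * h))⁻¹) * t) * (t⁻¹ * (t * (s t)⁻¹)⁻¹ * t⁻¹⁻¹) := by
      simp only [d]; group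
    rw [e]
    exact K.mul_mem h1 (hconj t⁻¹ _ (K.inv_mem (hs t)))
  have hdinv : ∀ u ∈ U, ∀ t h, d (u * t) h = d t h := by
    intro u hu t h
    obtain ⟨k, hk, a, ha, rfl⟩ := Subgroup.mem_sup_of_normal_left.mp (hKA.symm ▸ hu : u ∈ K ⊔ A)
    simp only [d]
    rw [mul_assoc (k * a) t h, hsleft k hk a ha, hsleft k hk a ha]
    group
  let D : G ⧸ U → G → K := fun q h => ⟨d (q.out)⁻¹ h, hdK _ _⟩
  letI : CommGroup K := { (inferInstance : Group K) with mul_comm := mul_comm' }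
  let C : G → K := fun h => ∏ q : G ⧸ U, D q h
  have hD : ∀ (q : G ⧸ U) (h1 h2 : G), (D q (h1 * h2) : G) =
      h1 * (D (h1⁻¹ • q) h2) * h1⁻¹ * D q h1 := by
    intro q h1 h2
    have e : d ((h1⁻¹ • q).out)⁻¹ h2 = d ((q.out)⁻¹ * h1) h2 := by
      have hm : (h1⁻¹ • q) = (QuotientGroup.mk (h1⁻¹ * q.out) : G ⧸ U) := by
        conv_lhs => rw [← QuotientGroup.out_eq' q]
        rfl
      have h3 := QuotientGroup.eq.mp ((QuotientGroup.out_eq' (h1⁻¹ • q)).trans hm)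
      have h4 : ((q.out)⁻¹ * h1) = (((h1⁻¹ • q).out)⁻¹ * (h1⁻¹ * q.out))⁻¹ * ((h1⁻¹ • q).out)⁻¹ := by group
      rw [h4, hdinv _ (U.inv_mem h3)]
    show d (q.out)⁻¹ (h1 * h2) = h1 * d ((h1⁻¹ • q).out)⁻¹ h2 * h1⁻¹ * d (q.out)⁻¹ h1
    rw [e]
    simp only [d, mul_assoc]
    group
  have hC : ∀ h1 h2, C (h1 * h2) = MulAut.conjNormal h1 (C h2) * C h1 := by
    intro h1 h2
    simp only [C, map_prod]
    rw [Fintype.prod_congr (fun q => D q (h1 * h2))
      (fun q => MulAut.conjNormal h1 (D (h1⁻¹ • q) h2) * D q h1)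
      (fun q => Subtype.ext (by rw [Subgroup.coe_mul, MulAut.conjNormal_apply]; exact hD q h1 h2)),
      Finset.prod_mul_distrib]
    congr 1
    exact Equiv.prod_comp (MulAction.toPerm h1⁻¹) (fun q : G ⧸ U => MulAut.conjNormal h1 (D q h2))
  have hCK : ∀ k : K, C k = k ^ U.index := by
    intro k
    have : ∀ q : G ⧸ U, D q k = k := fun q => Subtype.ext (by
      show d (q.out)⁻¹ k = k
      have e : s ((q.out)⁻¹ * k) = s (q.out)⁻¹ := by
        have h := hsleft ((q.out)⁻¹ * k * q.out) (by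
          have := hconj (q.out)⁻¹ _ k.2
          rwa [inv_inv] at this) 1 A.one_mem (q.out)⁻¹
        rw [mul_one, mul_inv_cancel_right, one_mul] at h
        exact h
      simp only [d, e, inv_mul_cancel_right])
    simp only [C, this, Finset.prod_const, Finset.card_univ, Subgroup.index_eq_card,
      Nat.card_eq_fintype_card]
  obtain ⟨n, hn⟩ := gaschutz_exists_pow hcop
  let ψ : G →* G := MonoidHom.mk' (fun h => (((C h) ^ n : K) : G)⁻¹ * h) fun h1 h2 => by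
    rw [hC, mul_pow, Subgroup.coe_mul, ← map_pow, MulAut.conjNormal_apply]
    group
  have hψK : ∀ k ∈ K, ψ k = 1 := fun k hk => by
    show (((C k) ^ n : K) : G)⁻¹ * k = 1
    rw [show C k = C ((⟨k, hk⟩ : K) : G) from rfl, hCK, Subgroup.coe_pow, Subgroup.coe_pow, hn k hk, inv_mul_cancel]
  have hψ : ∀ g, g * (ψ g)⁻¹ ∈ K := fun g => by
    show g * ((((C g) ^ n : K) : G)⁻¹ * g)⁻¹ ∈ K
    rw [mul_inv_rev, inv_inv, mul_inv_cancel_left]
    exact SetLike.coe_mem _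
  refine ⟨ψ.range, Subgroup.isComplement'_of_disjoint_and_mul_eq_univ ?_ ?_⟩
  · rw [Subgroup.disjoint_def]
    rintro _ hk ⟨g, rfl⟩
    have h1 : ψ (g * (ψ g)⁻¹) = 1 := hψK _ (hψ g)
    rw [map_mul, map_inv, hψK _ hk, inv_one, mul_one] at h1
    exact h1
  · refine Set.eq_univ_of_forall fun g => ⟨g * (ψ g)⁻¹, hψ g, ψ g, ⟨g, rfl⟩, ?_⟩
    simp

/-- Conjugacy in Gaschütz's theorem. -/
theorem gaschutz_conj (K U : Subgroup G) [K.Normal] [IsMulCommutative K] (hKU : K ≤ U)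
    (hcop : (Nat.card K).Coprime U.index) (H₀ H₁ : Subgroup G) (h₀ : Subgroup.IsComplement' K H₀)
    (h₁ : Subgroup.IsComplement' K H₁) (hU : H₀ ⊓ U = H₁ ⊓ U) :
    ∃ g : G, MulAut.conj g • H₀ = H₁ := by
  classical
  haveI := Fintype.ofFinite (G ⧸ U)
  letI : CommGroup K := { (inferInstance : Group K) with mul_comm := mul_comm' }
  have hconj : ∀ g : G, ∀ x ∈ K, g * x * g⁻¹ ∈ K := fun g x hx =>
    (inferInstance : K.Normal).conj_mem x hx g
  have hkK : ∀ k ∈ K, ∀ x ∈ K, k * x * k⁻¹ = x := fun k hk x hx => by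
    have : k * x = x * k := congrArg Subtype.val (mul_comm (⟨k, hk⟩ : K) ⟨x, hx⟩)
    rw [this, mul_inv_cancel_right]
  have dec : ∀ H : Subgroup G, Subgroup.IsComplement' K H → ∀ g, ∃ h ∈ H, g * h⁻¹ ∈ K ∧
      ∀ h' ∈ H, g * h'⁻¹ ∈ K → h' = h := by
    intro H hH g
    obtain ⟨⟨k, h⟩, e⟩ := hH.2 g
    change (k : G) * h = g at e
    refine ⟨h, h.2, by rw [← e, mul_inv_cancel_right]; exact k.2, fun h' hh' hm => ?_⟩
    have hx : (h : G) * h'⁻¹ ∈ K ⊓ H := by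
      refine ⟨?_, H.mul_mem h.2 (H.inv_mem hh')⟩
      rw [show (h : G) * h'⁻¹ = (k : G)⁻¹ * (g * h'⁻¹) by rw [← e]; group]
      exact K.mul_mem (K.inv_mem k.2) hm
    rw [hH.disjoint.eq_bot, Subgroup.mem_bot, mul_inv_eq_one] at hx
    exact hx.symm
  choose p hp hpK hpu using dec H₀ h₀
  choose q hq hqK hqu using dec H₁ h₁
  have hpmul : ∀ g h, p (g * h) = p g * p h := fun g h => (hpu (g * h) _ (H₀.mul_mem (hp g) (hp h)) (by
    rw [show g * h * (p g * p h)⁻¹ = g * (h * (p h)⁻¹) * g⁻¹ * (g * (p g)⁻¹) by group]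
    exact K.mul_mem (hconj g _ (hpK h)) (hpK g))).symm
  have hqmul : ∀ g h, q (g * h) = q g * q h := fun g h => (hqu (g * h) _ (H₁.mul_mem (hq g) (hq h)) (by
    rw [show g * h * (q g * q h)⁻¹ = g * (h * (q h)⁻¹) * g⁻¹ * (g * (q g)⁻¹) by group]
    exact K.mul_mem (hconj g _ (hqK h)) (hqK g))).symm
  have hpc : ∀ g, ∀ x ∈ K, p g * x * (p g)⁻¹ = g * x * g⁻¹ := fun g x hx => by
    have hy : p g * x * (p g)⁻¹ ∈ K := hconj _ x hx
    rw [show g * x * g⁻¹ = (g * (p g)⁻¹) * (p g * x * (p g)⁻¹) * (g * (p g)⁻¹)⁻¹ by group, hkK _ (hpK g) _ hy]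
  let δ : G → G := fun g => q g * (p g)⁻¹
  have hδK : ∀ g, δ g ∈ K := fun g => by
    rw [show δ g = (g * (q g)⁻¹)⁻¹ * (g * (p g)⁻¹) by simp only [δ]; group]
    exact K.mul_mem (K.inv_mem (hqK g)) (hpK g)
  have hδ : ∀ g h, δ (g * h) = δ g * (g * δ h * g⁻¹) := fun g h => by
    rw [← hpc g _ (hδK h)]
    simp only [δ, hpmul, hqmul]
    group
  have hδU : ∀ u ∈ U, δ u = 1 := fun u hu => by
    have hp' : p u ∈ H₀ ⊓ U := ⟨hp u, by
      rw [show p u = (u * (p u)⁻¹)⁻¹ * u by group]; exact U.mul_mem (U.inv_mem (hKU (hpK u))) hu⟩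
    rw [hU] at hp'
    simp only [δ]
    rw [← hqu u _ hp'.1 (hpK u), mul_inv_cancel]
  let e : G → G := fun t => t⁻¹ * δ t * t
  have heK : ∀ t, e t ∈ K := fun t => by
    have := hconj t⁻¹ _ (hδK t); rwa [inv_inv] at this
  have heU : ∀ u ∈ U, ∀ t, e (u * t) = e t := fun u hu t => by
    simp only [e, hδ, hδU u hu]; group
  have he : ∀ t g, e (t * g) = g⁻¹ * (e t * δ g) * g := fun t g => by
    simp only [e, hδ]; group
  let E : G ⧸ U → K := fun x => ⟨e (x.out)⁻¹, heK _⟩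
  set b : K := ∏ x : G ⧸ U, E x with hb
  have hgb : ∀ g : G, MulAut.conjNormal g b = b * (⟨δ g, hδK g⟩ : K) ^ U.index := by
    intro g
    rw [hb, map_prod, ← Equiv.prod_comp (MulAction.toPerm g⁻¹) (fun x : G ⧸ U => MulAut.conjNormal g (E x))]
    rw [Fintype.prod_congr _ (fun x => E x * (⟨δ g, hδK g⟩ : K)) fun x => Subtype.ext (by
      show ((MulAut.conjNormal g (E (g⁻¹ • x)) : K) : G) = e (x.out)⁻¹ * δ g
      rw [MulAut.conjNormal_apply]
      show g * e ((g⁻¹ • x).out)⁻¹ * g⁻¹ = _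
      have hm : (g⁻¹ • x) = (QuotientGroup.mk (g⁻¹ * x.out) : G ⧸ U) := by
        conv_lhs => rw [← QuotientGroup.out_eq' x]
        rfl
      have h3 := QuotientGroup.eq.mp ((QuotientGroup.out_eq' (g⁻¹ • x)).trans hm)
      have h4 : ((g⁻¹ • x).out)⁻¹ = (((g⁻¹ • x).out)⁻¹ * (g⁻¹ * x.out)) * ((x.out)⁻¹ * g) := by group
      rw [h4, heU _ h3, he]
      group)]
    rw [Finset.prod_mul_distrib, Finset.prod_const, Finset.card_univ, Subgroup.index_eq_card,
      Nat.card_eq_fintype_card]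
  obtain ⟨n, hn⟩ := gaschutz_exists_pow hcop
  set c : G := ((b ^ n : K) : G) with hc
  have hδc : ∀ g, δ g = c⁻¹ * (g * c * g⁻¹) := by
    intro g
    have h := congrArg (fun x : K => ((x ^ n : K) : G)) (hgb g)
    simp only [mul_pow, Subgroup.coe_mul] at h
    rw [← map_pow, MulAut.conjNormal_apply] at h
    rw [show (((((⟨δ g, hδK g⟩ : K) ^ U.index) ^ n : K)) : G) = δ g by
      rw [Subgroup.coe_pow, Subgroup.coe_pow]; exact hn _ (hδK g)] at h
    rw [← hc] at h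
    rw [h, inv_mul_cancel_left]
  refine ⟨c⁻¹, Subgroup.eq_of_le_of_card_ge ?_ (le_of_eq ?_)⟩
  · intro y hy
    obtain ⟨h, hh, rfl⟩ := hy
    have h1 : p h = h := (hpu h h hh (by rw [mul_inv_cancel]; exact K.one_mem)).symm
    have h2 := hδc h
    simp only [δ, h1] at h2
    show c⁻¹ * h * c⁻¹⁻¹ ∈ H₁
    rw [show c⁻¹ * h * c⁻¹⁻¹ = c⁻¹ * (h * c * h⁻¹) * h by group, ← h2, inv_mul_cancel_right]
    exact hq h
  · rw [card_conj_smul, ← h₀.symm.index_eq_card, h₁.symm.index_eq_card]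

end Cfsg.Agent.Basics
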