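import Cfsg.Agent.Lib.Basics.Hall
import Mathlib

/-!
Products of two subgroups.
-/

set_option autoImplicit false
set_option linter.style.haveILetI false

open scoped Pointwise

namespace Cfsg.Agent.Basics

variable {G : Type*} [Group G]

theorem ncard_mul_mul_card_inf [Finite G] (H K : Subgroup G) :
    ((H : Set G) * (K : Set G)).ncard * Nat.card (H ⊓ K : Subgroup G) = Nat.card H * Nat.card K := by
  set t := MulAction.orbit H ((1 : G) : G ⧸ K) with ht
  have hpre : (H : Set G) * (K : Set G) = QuotientGroup.mk ⁻¹' t := by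
    ext g
    simp only [Set.mem_mul, SetLike.mem_coe, Set.mem_preimage, ht, MulAction.mem_orbit_iff]
    constructor
    · rintro ⟨h, hh, k, hk, rfl⟩
      refine ⟨⟨h, hh⟩, ?_⟩
      change ((h * 1 : G) : G ⧸ K) = _
      rw [mul_one, QuotientGroup.eq]
      simpa using hk
    · rintro ⟨⟨h, hh⟩, e⟩
      change ((h * 1 : G) : G ⧸ K) = _ at e
      rw [mul_one, QuotientGroup.eq] at e
      exact ⟨h, hh, h⁻¹ * g, e, by group⟩
  have hst : MulAction.stabilizer H ((1 : G) : G ⧸ K) = (H ⊓ K).subgroupOf H := by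
    ext ⟨h, hh⟩
    rw [MulAction.mem_stabilizer_iff, Subgroup.mem_subgroupOf, Subgroup.mem_inf]
    change ((h * 1 : G) : G ⧸ K) = _ ↔ _
    rw [mul_one, QuotientGroup.eq]
    simp [hh]
  have h1 := MulAction.index_stabilizer H ((1 : G) : G ⧸ K)
  rw [hst] at h1
  have h2 := ((H ⊓ K).subgroupOf H).index_mul_card
  rw [h1, card_subgroupOf inf_le_left] at h2
  rw [hpre, ← Nat.card_coe_set_eq, QuotientGroup.card_preimage_mk, Nat.card_coe_set_eq, ← ht] at *
  rw [← h2]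
  ring

theorem card_mul_card_of_product [Finite G] {H K : Subgroup G}
    (hHK : ∀ g : G, ∃ h ∈ H, ∃ k ∈ K, g = h * k) :
    Nat.card G * Nat.card (H ⊓ K : Subgroup G) = Nat.card H * Nat.card K := by
  rw [← ncard_mul_mul_card_inf H K, ← Set.ncard_univ]
  congr 2
  refine (Set.eq_univ_of_forall fun g => ?_).symm
  obtain ⟨h, hh, k, hk, rfl⟩ := hHK g
  exact Set.mul_mem_mul hh hk

theorem product_swap {H K : Subgroup G} (hHK : ∀ g : G, ∃ h ∈ H, ∃ k ∈ K, g = h * k) (g : G) :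
    ∃ k ∈ K, ∃ h ∈ H, g = k * h := by
  obtain ⟨h, hh, k, hk, e⟩ := hHK g⁻¹
  exact ⟨k⁻¹, K.inv_mem hk, h⁻¹, H.inv_mem hh, by rw [← mul_inv_rev, ← e, inv_inv]⟩

theorem exists_common_conj {H K : Subgroup G} (hHK : ∀ g : G, ∃ h ∈ H, ∃ k ∈ K, g = h * k)
    (x y : G) : ∃ g : G, ∃ h ∈ H, ∃ k ∈ K, x * h = g ∧ y * k = g := by
  obtain ⟨h, hh, k, hk, e⟩ := hHK (x⁻¹ * y)
  exact ⟨x * h, h, hh, k⁻¹, K.inv_mem hk, rfl, by
    rw [show h = x⁻¹ * y * k⁻¹ by rw [e]; group]; group⟩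

theorem conj_smul_eq_of_mem_normalizer {A : Subgroup G} {g : G}
    (h : g ∈ Subgroup.normalizer (A : Set G)) : MulAut.conj g • A = A :=
  conj_smul_eq_self_iff.mpr h

end Cfsg.Agent.Basics
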