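import Cfsg.Agent.Lib.Basics.Carter
import Cfsg.Agent.Lib.Basics.Products
import Mathlib

/-!
Tools for products of nilpotent subgroups.
-/

set_option autoImplicit false
set_option linter.unusedSectionVars false
set_option linter.style.haveILetI false

open scoped Pointwise

namespace Cfsg.Agent.Basics.KW

open Subgroup

universe u

variable {G : Type u} [Group G] [Finite G]

/-- Elements of `H` written as products. -/
def Prod (H U V : Subgroup G) : Prop := ∀ g ∈ H, ∃ a ∈ U, ∃ b ∈ V, g = a * b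

theorem Prod.swap {H U V : Subgroup G} (h : Prod H U V) : Prod H V U := fun g hg => by
  obtain ⟨a, ha, b, hb, e⟩ := h g⁻¹ (H.inv_mem hg)
  exact ⟨b⁻¹, V.inv_mem hb, a⁻¹, U.inv_mem ha, by rw [← mul_inv_rev, ← e, inv_inv]⟩

theorem card_prod {H U V : Subgroup G} (hU : U ≤ H) (hV : V ≤ H) (h : Prod H U V) (hd : U ⊓ V = ⊥) :
    Nat.card H = Nat.card U * Nat.card V := by
  have e := card_mul_card_of_product (H := U.subgroupOf H) (K := V.subgroupOf H) fun g => by
    obtain ⟨a, ha, b, hb, e⟩ := h g g.2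
    exact ⟨⟨a, hU ha⟩, ha, ⟨b, hV hb⟩, hb, Subtype.ext e⟩
  have hbot : U.subgroupOf H ⊓ V.subgroupOf H = ⊥ := (eq_bot_iff_forall _).mpr fun x hx => by
    have : (x : G) ∈ U ⊓ V := hx
    rw [hd, mem_bot] at this
    exact Subtype.ext this
  rw [hbot, card_bot, mul_one, card_subgroupOf hU, card_subgroupOf hV] at e
  exact e

/-- The `p`-part and `p'`-part of a nilpotent subgroup. -/
structure IsParts (p : ℕ) (C Q P : Subgroup G) : Prop where
  q_le : Q ≤ C
  p_le : P ≤ C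
  pgroup : IsPGroup p P
  not_dvd : ¬ p ∣ Nat.card Q
  sup : Q ⊔ P = C
  comm : ∀ q ∈ Q, ∀ x ∈ P, Commute q x
  q_norm : C ≤ normalizer (Q : Set G)
  p_norm : C ≤ normalizer (P : Set G)
  card : Nat.card C = Nat.card Q * Nat.card P
  mem_q : ∀ c ∈ C, ¬ p ∣ orderOf c → c ∈ Q
  mem_p : ∀ c ∈ C, ∀ k, orderOf c = p ^ k → c ∈ P

theorem exists_parts {C : Subgroup G} (hC : Group.IsNilpotent C) (p : ℕ) [hp : Fact p.Prime] :
    ∃ Q P : Subgroup G, IsParts p C Q P := by
  obtain ⟨Q, P, h1, h2, h3, h4, h5, h6, h7, h8, h9, h10⟩ := Carter.parts C hC p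
  refine ⟨Q, P, h1, h2, h3, h4, h5, h6, h7, h8, h9, h10, fun c hc k hk => ?_⟩
  haveI : (P.subgroupOf C).Normal := (normal_subgroupOf_iff_le_normalizer h2).mpr h8
  have hidx : (P.subgroupOf C).index = Nat.card Q := by
    have e := (P.subgroupOf C).card_mul_index
    rw [card_subgroupOf h2, h9, mul_comm (Nat.card Q)] at e
    exact Nat.eq_of_mul_eq_mul_left Nat.card_pos e
  suffices (⟨c, hc⟩ : C) ∈ P.subgroupOf C from this
  rw [← QuotientGroup.eq_one_iff, ← orderOf_eq_one_iff]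
  refine Nat.eq_one_of_dvd_coprimes (((hp.out.coprime_iff_not_dvd).mpr h4).pow_left k) ?_ ?_
  · refine (orderOf_map_dvd (QuotientGroup.mk' _) (⟨c, hc⟩ : C)).trans ?_
    rw [Subgroup.orderOf_mk, hk]
  · rw [← hidx, index_eq_card]
    exact orderOf_dvd_natCard _

/-- Membership of a subgroup is detected on elements of prime power order. -/
theorem le_of_prime_pow {T H : Subgroup G}
    (h : ∀ x ∈ T, ∀ p k : ℕ, p.Prime → orderOf x = p ^ k → x ∈ H) : T ≤ H := by
  suffices ∀ n, ∀ x ∈ T, orderOf x = n → x ∈ H from fun x hx => this _ x hx rfl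
  intro n
  induction n using Nat.strong_induction_on with
  | _ n ih =>
  intro x hx hn
  rcases eq_or_ne n 1 with rfl | hn1
  · rw [orderOf_eq_one_iff] at hn; rw [hn]; exact one_mem H
  obtain ⟨p, hp, hpn⟩ := Nat.exists_prime_and_dvd hn1
  have hn0 : n ≠ 0 := hn ▸ (orderOf_pos x).ne'
  obtain ⟨a, m, hm, rfl⟩ := Nat.exists_eq_pow_mul_and_not_dvd hn0 p hp.ne_one
  rcases eq_or_ne m 1 with rfl | hm1
  · exact h x hx p a hp (by rw [hn, mul_one])
  have hm0 : m ≠ 0 := right_ne_zero_of_mul hn0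
  have ha0 : a ≠ 0 := by
    rintro rfl
    rw [pow_zero, one_mul] at hpn
    exact hm hpn
  have hpa : 1 < p ^ a := Nat.one_lt_pow ha0 hp.one_lt
  have hcop : (p ^ a).Coprime m := (hp.coprime_iff_not_dvd.mpr hm).pow_left a
  set i : ℤ := Nat.gcdB (p ^ a) m * m
  set j : ℤ := Nat.gcdA (p ^ a) m * (p ^ a : ℕ)
  have hij : x = x ^ i * x ^ j := by
    have := Nat.gcd_eq_gcd_ab (p ^ a) m
    rw [hcop] at this
    rw [← zpow_add, show i + j = 1 by simp only [i, j]; push_cast at this ⊢; linarith, zpow_one]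
  have hi : (x ^ i) ^ (p ^ a) = 1 := by
    rw [← zpow_natCast, ← zpow_mul, mul_assoc, ← Nat.cast_mul, mul_comm m, mul_comm, zpow_mul,
      zpow_natCast, ← hn, pow_orderOf_eq_one, one_zpow]
  have hj : (x ^ j) ^ m = 1 := by
    rw [← zpow_natCast, ← zpow_mul, mul_assoc, ← Nat.cast_mul, mul_comm, zpow_mul,
      zpow_natCast, ← hn, pow_orderOf_eq_one, one_zpow]
  have hlt : ∀ (y : G) (k : ℕ), k ≠ 0 → y ^ k = 1 → k < p ^ a * m → orderOf y < p ^ a * m :=
    fun y k hk hy hlt => lt_of_le_of_lt (Nat.le_of_dvd (Nat.pos_of_ne_zero hk) (orderOf_dvd_of_pow_eq_one hy)) hlt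
  rw [hij]
  exact mul_mem
    (ih _ (hlt _ _ (pow_ne_zero a hp.ne_zero) hi (lt_mul_of_one_lt_right (by positivity) (by omega)))
      _ (T.zpow_mem hx i) rfl)
    (ih _ (hlt _ _ hm0 hj (lt_mul_of_one_lt_left (Nat.pos_of_ne_zero hm0) hpa)) _ (T.zpow_mem hx j) rfl)

/-- A subgroup normalizing `A` or normalized by it, with order prime to `d`, lies in `A`. -/
theorem le_of_coprime_sup {A N : Subgroup G}
    (hn : A ≤ normalizer (N : Set G) ∨ N ≤ normalizer (A : Set G)) {d : ℕ}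
    (hsup : Nat.card (N ⊔ A : Subgroup G) ∣ Nat.card A * d) (hN : (Nat.card N).Coprime d)
    (hA : (Nat.card A).Coprime d) : N ≤ A := by
  have hd : Nat.card (N ⊔ A : Subgroup G) ∣ Nat.card N * Nat.card A := by
    rcases hn with hn | hn
    · exact ⟨_, card_mul_card_eq_card_sup_mul_card_inf hn⟩
    · have := card_mul_card_eq_card_sup_mul_card_inf hn
      rw [sup_comm, mul_comm (Nat.card A)] at this
      exact ⟨_, this⟩
  have hc : (Nat.card (N ⊔ A : Subgroup G)).Coprime d := Nat.Coprime.coprime_dvd_left hd (hN.mul_left hA)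
  have h := hc.dvd_of_dvd_mul_right hsup
  exact le_sup_left.trans (eq_of_le_of_card_ge le_sup_right (Nat.le_of_dvd Nat.card_pos h)).ge

theorem exists_prime_orderOf {C : Subgroup G} (hC : C ≠ ⊥) :
    ∃ x ∈ C, ∃ p : ℕ, p.Prime ∧ orderOf x = p := by
  have h1 : Nat.card C ≠ 1 := by rwa [Ne, card_eq_one]
  obtain ⟨p, hp, hpd⟩ := Nat.exists_prime_and_dvd h1
  haveI := Fact.mk hp
  obtain ⟨x, hx⟩ := exists_prime_orderOf_dvd_card' p hpd
  exact ⟨x, x.2, p, hp, by rw [orderOf_coe, hx]⟩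

theorem orderOf_conj (g x : G) : orderOf (g * x * g⁻¹) = orderOf x :=
  MulEquiv.orderOf_eq (MulAut.conj g) x

theorem conj_le_normalizer_of_le {N : Subgroup G} {g : G} (h : MulAut.conj g • N ≤ N) :
    g ∈ normalizer (N : Set G) :=
  conj_smul_eq_self_iff.mp (eq_of_le_of_card_ge h (card_conj_smul g N).ge)

theorem centralizer_conj (g x : G) {y : G} :
    y ∈ centralizer ({g * x * g⁻¹} : Set G) ↔ g⁻¹ * y * g ∈ centralizer ({x} : Set G) := by
  simp only [mem_centralizer_singleton_iff]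
  constructor
  · intro h
    calc g⁻¹ * y * g * x = g⁻¹ * (y * (g * x * g⁻¹)) * g := by group
      _ = g⁻¹ * (g * x * g⁻¹ * y) * g := by rw [h]
      _ = x * (g⁻¹ * y * g) := by group
  · intro h
    calc y * (g * x * g⁻¹) = g * (g⁻¹ * y * g * x) * g⁻¹ := by group
      _ = g * (x * (g⁻¹ * y * g)) * g⁻¹ := by rw [h]
      _ = g * x * g⁻¹ * y := by group

end Cfsg.Agent.Basics.KW
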