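import Cfsg.Agent.Lib.Basics.Tools
import Mathlib

/-!
Permutable subgroups.
-/

set_option autoImplicit false
set_option linter.style.haveILetI false

open scoped Pointwise

namespace Cfsg.Agent.Basics

variable {G : Type*} [Group G]

/-- `C * X ⊆ X * C`. -/
def Perm (X C : Subgroup G) : Prop :=
  ∀ c ∈ C, ∀ x ∈ X, ∃ x' ∈ X, ∃ c' ∈ C, c * x = x' * c'

theorem Perm.of_eq {X C S : Subgroup G} (h : (S : Set G) = (X : Set G) * (C : Set G)) : Perm X C := by
  intro c hc x hx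
  have h1 : c * x ∈ S := mul_mem
    (show c ∈ (S : Set G) by rw [h]; exact ⟨1, one_mem X, c, hc, one_mul c⟩)
    (show x ∈ (S : Set G) by rw [h]; exact ⟨x, hx, 1, one_mem C, mul_one x⟩)
  obtain ⟨x', hx', c', hc', e⟩ := (h ▸ h1 : c * x ∈ (X : Set G) * (C : Set G))
  exact ⟨x', hx', c', hc', e.symm⟩

theorem Perm.coe_sup {X C : Subgroup G} (h : Perm X C) :
    ((X ⊔ C : Subgroup G) : Set G) = (X : Set G) * (C : Set G) := by
  refine le_antisymm ?_ ?_
  · let S : Subgroup G :=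
      { carrier := (X : Set G) * (C : Set G)
        one_mem' := ⟨1, one_mem X, 1, one_mem C, one_mul 1⟩
        mul_mem' := by
          rintro _ _ ⟨x, hx, c, hc, rfl⟩ ⟨x1, hx1, c1, hc1, rfl⟩
          obtain ⟨x', hx', c', hc', e⟩ := h c hc x1 hx1
          refine ⟨x * x', mul_mem hx hx', c' * c1, mul_mem hc' hc1, ?_⟩
          show x * x' * (c' * c1) = x * c * (x1 * c1)
          rw [show x * x' * (c' * c1) = x * (x' * c') * c1 by group, ← e]; group
        inv_mem' := by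
          rintro _ ⟨x, hx, c, hc, rfl⟩
          obtain ⟨x', hx', c', hc', e⟩ := h c⁻¹ (inv_mem hc) x⁻¹ (inv_mem hx)
          exact ⟨x', hx', c', hc', by show x' * c' = _; rw [← e, mul_inv_rev]⟩ }
    have : X ⊔ C ≤ S := sup_le (fun x hx => ⟨x, hx, 1, one_mem C, mul_one x⟩)
      fun c hc => ⟨1, one_mem X, c, hc, one_mul c⟩
    exact this
  · rintro _ ⟨x, hx, c, hc, rfl⟩
    exact mul_mem (Subgroup.mem_sup_left hx) (Subgroup.mem_sup_right hc)

theorem Perm.symm {X C : Subgroup G} (h : Perm X C) : Perm C X := by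
  intro x hx c hc
  obtain ⟨x', hx', c', hc', e⟩ := h c⁻¹ (inv_mem hc) x⁻¹ (inv_mem hx)
  exact ⟨c'⁻¹, inv_mem hc', x'⁻¹, inv_mem hx', by rw [← mul_inv_rev, ← e]; group⟩

theorem Perm.coe_sup' {X C : Subgroup G} (h : Perm X C) :
    ((X ⊔ C : Subgroup G) : Set G) = (C : Set G) * (X : Set G) := by
  rw [sup_comm]; exact h.symm.coe_sup

theorem Perm.iSup {ι : Sort*} {X : Subgroup G} {f : ι → Subgroup G} (h : ∀ i, Perm X (f i)) :
    Perm X (⨆ i, f i) := by
  intro c hc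
  induction hc using Subgroup.iSup_induction' with
  | hp i c hc =>
    intro x hx
    obtain ⟨x', hx', c', hc', e⟩ := h i c hc x hx
    exact ⟨x', hx', c', Subgroup.mem_iSup_of_mem i hc', e⟩
  | h1 => intro x hx; exact ⟨x, hx, 1, one_mem _, by group⟩
  | hmul a b _ _ iha ihb =>
    intro x hx
    obtain ⟨x', hx', c', hc', e⟩ := ihb x hx
    obtain ⟨x'', hx'', c'', hc'', e'⟩ := iha x' hx'
    refine ⟨x'', hx'', c'' * c', mul_mem hc'' hc', ?_⟩
    rw [mul_assoc a b x, e, ← mul_assoc, e', mul_assoc]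

theorem Perm.conj {X C : Subgroup G} (h : Perm X C) (g : G) :
    Perm (MulAut.conj g • X) (MulAut.conj g • C) := by
  rintro _ ⟨c, hc, rfl⟩ _ ⟨x, hx, rfl⟩
  obtain ⟨x', hx', c', hc', e⟩ := h c hc x hx
  refine ⟨g * x' * g⁻¹, conj_mem_conj_smul hx', g * c' * g⁻¹, conj_mem_conj_smul hc', ?_⟩
  show g * c * g⁻¹ * (g * x * g⁻¹) = _
  rw [show g * c * g⁻¹ * (g * x * g⁻¹) = g * (c * x) * g⁻¹ by group, e]; group

theorem sup_eq_top_of_conj {X C : Subgroup G} (h : Perm X C) (htop : X ⊔ C = ⊤) (g : G) :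
    MulAut.conj g • X ⊔ C = ⊤ := by
  have hg : g ∈ ((X ⊔ C : Subgroup G) : Set G) := by rw [htop]; trivial
  rw [h.coe_sup'] at hg
  obtain ⟨c, hc, x, hx, rfl⟩ := hg
  rw [map_mul, mul_smul, conj_smul_eq_self_iff.mpr (Subgroup.le_normalizer hx)]
  have e := congrArg (MulAut.conj c • ·) htop
  simp only [Subgroup.smul_sup, conj_smul_eq_self_iff.mpr (Subgroup.le_normalizer hc)] at e
  rw [e, conj_smul_eq_self_iff, Subgroup.normalizer_eq_top_iff.mpr inferInstance]
  exact Subgroup.mem_top c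

end Cfsg.Agent.Basics
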