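import Cfsg.Agent.Lib.Basics.KegelWielandtCoprime
import Cfsg.Agent.Lib.Basics.Permute
import Cfsg.Agent.Lib.Basics.Cores
import Cfsg.Agent.Lib.Basics.Tools
import Cfsg.Agent.S0560
import Mathlib

/-!
A finite group that is the product of two nilpotent subgroups is solvable.
-/

set_option autoImplicit false
set_option linter.unusedSectionVars false
set_option linter.style.haveILetI false

open scoped Pointwise

namespace Cfsg.Agent.Basics.KW

open Subgroup

universe u

theorem nilpotent_of_le {G : Type*} [Group G] {H K : Subgroup G} (h : H ≤ K)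
    (hK : Group.IsNilpotent K) : Group.IsNilpotent H :=
  Group.nilpotent_of_mulEquiv (subgroupOfEquivOfLe h)

theorem nilpotent_subgroupOf {G : Type*} [Group G] {H K : Subgroup G} (h : H ≤ K)
    (hH : Group.IsNilpotent H) : Group.IsNilpotent (H.subgroupOf K) :=
  Group.nilpotent_of_mulEquiv (subgroupOfEquivOfLe h).symm

theorem nilpotent_map {G G' : Type*} [Group G] [Group G'] (f : G →* G') {H : Subgroup G}
    (hH : Group.IsNilpotent H) : Group.IsNilpotent (H.map f) :=
  Group.nilpotent_of_surjective (f.subgroupMap H) (f.subgroupMap_surjective H)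

theorem isPGroup_sup_of_perm {G : Type*} [Group G] [Finite G] {p : ℕ} [hp : Fact p.Prime]
    {X C : Subgroup G} (h : Perm X C) (hX : IsPGroup p X) (hC : IsPGroup p C) :
    IsPGroup p (X ⊔ C : Subgroup G) := by
  obtain ⟨i, hi⟩ := hX.exists_card_eq
  obtain ⟨j, hj⟩ := hC.exists_card_eq
  have e := ncard_mul_mul_card_inf X C
  rw [← h.coe_sup, ← Nat.card_coe_set_eq, hi, hj, ← pow_add] at e
  obtain ⟨k, -, hk⟩ := (Nat.dvd_prime_pow hp.out).mp (Dvd.intro _ e)
  exact IsPGroup.of_card hk

/-- The Sylow subgroup of a nilpotent subgroup is normalised by it. -/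
theorem conj_map_sylow {G : Type*} [Group G] [Finite G] {p : ℕ} [Fact p.Prime] {A : Subgroup G}
    (hA : Group.IsNilpotent A) (P : Sylow p A) {a : G} (ha : a ∈ A) :
    MulAut.conj a • ((P : Subgroup A).map A.subtype) = (P : Subgroup A).map A.subtype := by
  have hn : (P : Subgroup A).Normal :=
    (((Group.isNilpotent_of_finite_tfae (G := A)).out 0 3 rfl rfl).mp hA) p inferInstance P
  rw [conj_smul_eq_self_iff]
  exact conj_le_normalizer_of_le (by
    rintro _ ⟨_, ⟨y, hy, rfl⟩, rfl⟩
    exact ⟨_, hn.conj_mem y hy ⟨a, ha⟩, rfl⟩)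

/-- The step of the induction: a product of nilpotent subgroups in a proper subgroup is solvable. -/
theorem isSolvable_sub {n : ℕ} {G : Type u} [Group G] [Finite G]
    (IH : ∀ (H : Type u) [Group H] [Finite H], Nat.card H < n → ∀ A B : Subgroup H,
      Group.IsNilpotent A → Group.IsNilpotent B → Prod ⊤ A B → Group.IsSolvable H)
    (hn : Nat.card G ≤ n) {H U V : Subgroup G} (hH : H ≠ ⊤) (hU : U ≤ H) (hV : V ≤ H)
    (nU : Group.IsNilpotent U) (nV : Group.IsNilpotent V) (hp : Prod H U V) : Group.IsSolvable H :=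
  IH H (lt_of_lt_of_le (card_lt_card_of_ne_top hH) hn) (U.subgroupOf H) (V.subgroupOf H)
    (nilpotent_subgroupOf hU nU) (nilpotent_subgroupOf hV nV) fun g _ => by
      obtain ⟨a, ha, b, hb, e⟩ := hp g g.2
      exact ⟨⟨a, hU ha⟩, ha, ⟨b, hV hb⟩, hb, Subtype.ext e⟩

theorem isSolvable_step {n : ℕ} {G : Type u} [Group G] [Finite G]
    (IH : ∀ (H : Type u) [Group H] [Finite H], Nat.card H < n → ∀ A B : Subgroup H,
      Group.IsNilpotent A → Group.IsNilpotent B → Prod ⊤ A B → Group.IsSolvable H)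
    (hn : Nat.card G ≤ n) (A B : Subgroup G)
    (hA : Group.IsNilpotent A) (hB : Group.IsNilpotent B) (hAB : Prod ⊤ A B) :
    Group.IsSolvable G := by
  classical
  by_contra hns
  -- proper quotients are solvable
  have hquot : ∀ N : Subgroup G, N.Normal → N ≠ ⊥ → ∀ [N.Normal], Group.IsSolvable (G ⧸ N) := by
    intro N _ hN _
    refine IH (G ⧸ N) (lt_of_lt_of_le (card_quotient_lt hN) hn) (A.map (QuotientGroup.mk' N))
      (B.map (QuotientGroup.mk' N)) (nilpotent_map _ hA) (nilpotent_map _ hB) fun g _ => ?_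
    obtain ⟨g, rfl⟩ := QuotientGroup.mk'_surjective N g
    obtain ⟨a, ha, b, hb, rfl⟩ := hAB g (mem_top g)
    exact ⟨_, mem_map_of_mem _ ha, _, mem_map_of_mem _ hb, map_mul _ a b⟩
  -- there are no solvable normal subgroups
  have hbot : ∀ N : Subgroup G, N.Normal → Group.IsSolvable N → N = ⊥ := by
    intro N hN hs
    by_contra hne
    haveI := hquot N hN hne
    exact hns (Group.isSolvable_of_ker_le_range N.subtype (QuotientGroup.mk' N)
      (by rw [QuotientGroup.ker_mk', Subgroup.range_subtype]))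
  by_cases hc : (Nat.card A).Coprime (Nat.card B)
  · -- coprime factors
    have hsup : ∀ N : Subgroup G, N.Normal → N ≠ ⊥ → ∀ (X Y : Subgroup G), Group.IsNilpotent X →
        Group.IsNilpotent Y → Prod ⊤ X Y → X ⊔ N = ⊤ := by
      intro N hN hne X Y hX hY hXY
      by_contra hXN
      refine hne (hbot N hN (isSolvable_of_le (le_sup_right : N ≤ X ⊔ N) ?_))
      refine isSolvable_sub IH hn hXN le_sup_left (inf_le_right : Y ⊓ (X ⊔ N) ≤ _) hX
        (nilpotent_of_le inf_le_left hY) fun g hg => ?_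
      obtain ⟨a, ha, b, hb, rfl⟩ := hXY g (mem_top g)
      refine ⟨a, ha, b, ⟨hb, ?_⟩, rfl⟩
      simpa using mul_mem (inv_mem (mem_sup_left (T := N) ha)) hg
    have hidx : ∀ N : Subgroup G, N.Normal → ∀ X : Subgroup G, X ⊔ N = ⊤ → N.index ∣ Nat.card X := by
      intro N hN X h
      haveI := hN
      rw [index_eq_card]
      refine card_dvd_of_surjective ((QuotientGroup.mk' N).comp X.subtype) fun g => ?_
      obtain ⟨g, rfl⟩ := QuotientGroup.mk'_surjective N g
      have hg : g ∈ X ⊔ N := by rw [h]; exact mem_top g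
      rw [mem_sup_of_normal_right] at hg
      obtain ⟨x, hx, m, hm, rfl⟩ := hg
      refine ⟨⟨x, hx⟩, ?_⟩
      show QuotientGroup.mk' N x = QuotientGroup.mk' N (x * m)
      rw [map_mul, show QuotientGroup.mk' N m = 1 from (QuotientGroup.eq_one_iff m).mpr hm, mul_one]
    refine CE.false (A := A) (B := B) ⟨fun N hN => ?_, hns, hA, hB, hc, hAB, fun H hH hp =>
      isSolvable_sub IH hn hH inf_le_right inf_le_right (nilpotent_of_le inf_le_left hA)
        (nilpotent_of_le inf_le_left hB) hp⟩
    refine or_iff_not_imp_left.mpr fun hne => ?_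
    exact index_eq_one.mp (Nat.eq_one_of_dvd_coprimes hc (hidx N hN A (hsup N hN hne A B hA hB hAB))
      (hidx N hN B (hsup N hN hne B A hB hA hAB.swap)))
  · -- a common prime
    obtain ⟨p, hp, hpA, hpB⟩ := Nat.Prime.not_coprime_iff_dvd.mp hc
    haveI := Fact.mk hp
    obtain ⟨P, Q, R, hR⟩ := S0560.result A B (fun g => hAB g (mem_top g)) p
    set Ap : Subgroup G := (P : Subgroup A).map A.subtype with hAp
    set Bp : Subgroup G := (Q : Subgroup B).map B.subtype with hBp
    have hApne : Ap ≠ ⊥ := by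
      rw [hAp, Ne, map_eq_bot_iff_of_injective _ A.subtype_injective]
      exact P.ne_bot_of_dvd_card hpA
    have hBpne : Bp ≠ ⊥ := by
      rw [hBp, Ne, map_eq_bot_iff_of_injective _ B.subtype_injective]
      exact Q.ne_bot_of_dvd_card hpB
    have hpAp : IsPGroup p Ap := P.2.map _
    have hpBp : IsPGroup p Bp := Q.2.map _
    have hperm : ∀ g : G, Perm (MulAut.conj g • Ap) Bp := by
      intro g
      obtain ⟨b, hb, a, ha, rfl⟩ := product_swap (fun g => hAB g (mem_top g)) g
      have h1 := (Perm.of_eq hR).conj b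
      rw [conj_map_sylow hB Q hb] at h1
      rw [map_mul, mul_smul, conj_map_sylow hA P ha]
      exact h1
    let Pr : Subgroup G → Prop := fun (C : Subgroup G) => Bp ≤ C ∧ IsPGroup p C ∧ ∀ y : G, Perm (MulAut.conj y • Ap) C
    obtain ⟨C, -, hC⟩ := (Set.toFinite {C | Pr C}).exists_le_maximal
      (show Bp ∈ {C | Pr C} from ⟨le_rfl, hpBp, hperm⟩)
    obtain ⟨hBC, hpC, hpermC⟩ := hC.prop
    set N0 := normalClosure (Ap : Set G) with hN0
    have hnorm : N0 ≤ normalizer (C : Set G) := by
      rw [hN0, normalClosure, closure_le]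
      intro z hz
      obtain ⟨a, ha, haz⟩ := Group.mem_conjugatesOfSet_iff.mp hz
      obtain ⟨x, hx⟩ := isConj_iff.mp haz
      set X := MulAut.conj x • Ap with hX
      have hzX : z ∈ X := hx ▸ conj_mem_conj_smul ha
      set C' := ⨆ w : X, MulAut.conj (w : G) • C with hC'
      have hCC' : C ≤ C' := le_iSup_of_le (1 : X) (by rw [OneMemClass.coe_one, map_one, one_smul])
      have hC'le : C' ≤ X ⊔ C := iSup_le fun w => by
        rintro _ ⟨c, hc, rfl⟩
        exact mul_mem (mul_mem (mem_sup_left w.2) (mem_sup_right hc)) (inv_mem (mem_sup_left w.2))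
      have hP : Pr C' := by
        refine ⟨hBC.trans hCC', (isPGroup_sup_of_perm (hpermC x) (isPGroup_conj_smul x hpAp) hpC).to_le hC'le,
          fun y => Perm.iSup fun w => ?_⟩
        have := (hpermC ((w : G)⁻¹ * y)).conj (w : G)
        rwa [← mul_smul, ← map_mul, mul_inv_cancel_left] at this
      have hle : C' ≤ C := hC.2 hP hCC'
      refine conj_smul_eq_self_iff.mp ?_
      have h1 : MulAut.conj z • C ≤ C := (le_iSup (fun w : X => MulAut.conj (w : G) • C) ⟨z, hzX⟩).trans hle
      exact eq_of_le_of_card_ge h1 (card_conj_smul z C).ge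
    haveI : (C.subgroupOf N0).Normal :=
      ⟨fun c hc g => (mem_normalizer_iff.mp (hnorm g.2) (c : G)).mp hc⟩
    have hD : IsPGroup p (C.subgroupOf N0) := hpC.comap_of_injective _ N0.subtype_injective
    have hM : (Cfsg.pCore p N0).map N0.subtype = ⊥ := by
      refine hbot _ inferInstance ?_
      haveI : Group.IsNilpotent ((Cfsg.pCore p N0).map N0.subtype) :=
        ((pCore_isPGroup p).map _).isNilpotent
      infer_instance
    have hCN : ∀ c ∈ C, c ∈ N0 → c = 1 := by
      intro c hc hcN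
      have : c ∈ (Cfsg.pCore p N0).map N0.subtype := ⟨⟨c, hcN⟩, le_pCore hD hc, rfl⟩
      rwa [hM, mem_bot] at this
    have hBpc : Bp ≤ centralizer (N0 : Set G) := by
      intro c hc
      rw [mem_centralizer_iff]
      intro m hm
      have h1 : m * c * m⁻¹ * c⁻¹ = 1 := by
        refine hCN _ (mul_mem ((mem_normalizer_iff.mp (hnorm hm) c).mp (hBC hc)) (inv_mem (hBC hc))) ?_
        rw [show m * c * m⁻¹ * c⁻¹ = m * (c * m⁻¹ * c⁻¹) by group]
        exact mul_mem hm (normalClosure_normal.conj_mem _ (inv_mem hm) c)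
      calc m * c = (m * c * m⁻¹ * c⁻¹) * (c * m) := by group
        _ = c * m := by rw [h1, one_mul]
    have hN0ne : N0 ≠ ⊥ := fun e => hApne (eq_bot_iff.mpr (e ▸ le_normalClosure))
    have hCne : centralizer (N0 : Set G) ≠ ⊥ := fun e => hBpne (eq_bot_iff.mpr (e ▸ hBpc))
    have hI : N0 ⊓ centralizer (N0 : Set G) = ⊥ := by
      refine hbot _ inferInstance ?_
      exact Group.isSolvable_of_comm fun x y => Subtype.ext (mem_centralizer_iff.mp y.2.2 x x.2.1)
    haveI := hquot N0 normalClosure_normal hN0ne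
    haveI := hquot (centralizer (N0 : Set G)) inferInstance hCne
    refine hns (Group.isSolvable_of_isSolvable_injective
      (f := (QuotientGroup.mk' N0).prod (QuotientGroup.mk' (centralizer (N0 : Set G)))) ?_)
    refine (MonoidHom.ker_eq_bot_iff _).mp (eq_bot_iff.mpr ?_)
    intro x hx
    have hx' : QuotientGroup.mk' N0 x = 1 ∧ QuotientGroup.mk' (centralizer (N0 : Set G)) x = 1 :=
      Prod.mk_eq_one.mp hx
    rw [← hI]
    exact ⟨(QuotientGroup.eq_one_iff x).mp hx'.1, (QuotientGroup.eq_one_iff x).mp hx'.2⟩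

theorem isSolvable_of_card_lt : ∀ (n : ℕ) (G : Type u) [Group G] [Finite G], Nat.card G < n →
    ∀ A B : Subgroup G, Group.IsNilpotent A → Group.IsNilpotent B → Prod ⊤ A B → Group.IsSolvable G
  | 0 => fun _ _ _ h => absurd h (Nat.not_lt_zero _)
  | n + 1 => fun G _ _ h A B hA hB hAB =>
    isSolvable_step (fun H _ _ => isSolvable_of_card_lt n H) (Nat.lt_succ_iff.mp h) A B hA hB hAB

theorem isSolvable_of_product {G : Type u} [Group G] [Finite G] (A B : Subgroup G)
    (hA : Group.IsNilpotent A) (hB : Group.IsNilpotent B)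
    (hAB : ∀ g : G, ∃ a ∈ A, ∃ b ∈ B, g = a * b) : Group.IsSolvable G :=
  isSolvable_of_card_lt _ G (Nat.lt_succ_self _) A B hA hB fun g _ => hAB g

end Cfsg.Agent.Basics.KW
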