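import Cfsg.Agent.Lib.Basics.KWTools
import Cfsg.Agent.Lib.Basics.CoprimeAction
import Cfsg.Agent.Lib.Basics.ThompsonFpf
import Cfsg.Agent.Lib.Transfer.MaxAbelian
import Cfsg.Agent.S0117
import Cfsg.Agent.S0143
import Cfsg.Agent.S0541
import Cfsg.Agent.S0561
import Mathlib

/-!
Wielandt's theorem: a product of two nilpotent subgroups of coprime orders is solvable.

The minimal counterexample has two disjoint self-centralizing families; counting gives
`|A| < |B| < |A|`.
-/

set_option autoImplicit false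
set_option linter.unusedSectionVars false
set_option linter.style.haveILetI false

open scoped Pointwise

namespace Cfsg.Agent.Basics.KW

open Subgroup

universe u

variable {G : Type u} [Group G] [Finite G]

/-- A minimal counterexample. -/
structure CE (A B : Subgroup G) : Prop where
  simple : ∀ N : Subgroup G, N.Normal → N = ⊥ ∨ N = ⊤
  nonsolv : ¬ Group.IsSolvable G
  nilA : Group.IsNilpotent A
  nilB : Group.IsNilpotent B
  cop : (Nat.card A).Coprime (Nat.card B)
  prod : Prod ⊤ A B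
  ih : ∀ H : Subgroup G, H ≠ ⊤ → Prod H (A ⊓ H) (B ⊓ H) → Group.IsSolvable H

namespace CE

variable {A B : Subgroup G}

theorem symm (h : CE A B) : CE B A :=
  ⟨h.simple, h.nonsolv, h.nilB, h.nilA, h.cop.symm, h.prod.swap, fun H hH hp => h.ih H hH hp.swap⟩

theorem inf_eq_bot (h : CE A B) : A ⊓ B = ⊥ := disjoint_iff.mp (disjoint_of_coprime_natCard h.cop)

theorem card_eq (h : CE A B) : Nat.card G = Nat.card A * Nat.card B := by
  rw [← card_top (G := G)]
  exact card_prod le_top le_top h.prod h.inf_eq_bot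

theorem ne_top_left (h : CE A B) : A ≠ ⊤ := fun e => h.nonsolv <| by
  haveI := h.nilA
  subst e
  haveI : Group.IsNilpotent G := Group.nilpotent_of_mulEquiv Subgroup.topEquiv
  infer_instance

theorem ne_bot_left (h : CE A B) : A ≠ ⊥ := fun e => h.symm.ne_top_left <| by
  have hc := h.card_eq
  rw [e, card_bot, one_mul] at hc
  exact eq_top_of_card_eq B hc.symm

theorem nontrivial (h : CE A B) : Nontrivial G := by
  by_contra hn
  rw [not_nontrivial_iff_subsingleton] at hn
  exact h.nonsolv inferInstance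

theorem normalizer_ne_top (h : CE A B) {U : Subgroup G} (hU : U ≠ ⊥) (hU' : U ≠ ⊤) :
    normalizer (U : Set G) ≠ ⊤ := fun e =>
  (h.simple U (normalizer_eq_top_iff.mp e)).elim hU hU'

theorem pgroup_ne_top (h : CE A B) {p : ℕ} [Fact p.Prime] {U : Subgroup G} (hU : IsPGroup p U) :
    U ≠ ⊤ := fun e => h.nonsolv <| by
  subst e
  haveI := hU.isNilpotent
  haveI : Group.IsNilpotent G := Group.nilpotent_of_mulEquiv Subgroup.topEquiv
  infer_instance

theorem factor_of_le (h : CE A B) {X : Subgroup G} (hX : A ≤ X) : Prod X (A ⊓ X) (B ⊓ X) := fun g hg => by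
  obtain ⟨a, ha, b, hb, e⟩ := h.prod g (mem_top g)
  refine ⟨a, ⟨ha, hX ha⟩, b, ⟨hb, ?_⟩, e⟩
  rw [show b = a⁻¹ * g by rw [e]; group]
  exact X.mul_mem (X.inv_mem (hX ha)) hg

/-- No proper overgroup of `A` contains a conjugate of a nontrivial normal subgroup of `B`. -/
theorem no_normal (h : CE A B) {X : Subgroup G} (hA : A ≤ X) (hX : X ≠ ⊤) {Y : Subgroup G}
    (hY : B ≤ normalizer (Y : Set G)) {g : G} (hg : MulAut.conj g • Y ≤ X) : Y = ⊥ := by
  have key : ∀ k : G, MulAut.conj k • Y ≤ X := by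
    obtain ⟨a, ha, b, hb, rfl⟩ := h.prod g (mem_top g)
    rw [map_mul, mul_smul, conj_smul_eq_self_iff.mpr (hY hb)] at hg
    have hY0 : Y ≤ X := by
      intro y hy
      have := hg (conj_mem_conj_smul (g := a) hy)
      have := X.mul_mem (X.mul_mem (X.inv_mem (hA ha)) this) (hA ha)
      simpa [mul_assoc] using this
    intro k
    obtain ⟨a', ha', b', hb', rfl⟩ := h.prod k (mem_top k)
    rw [map_mul, mul_smul, conj_smul_eq_self_iff.mpr (hY hb')]
    rintro _ ⟨y, hy, rfl⟩
    exact X.mul_mem (X.mul_mem (hA ha') (hY0 hy)) (X.inv_mem (hA ha'))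
  have hle : normalClosure (Y : Set G) ≤ X := by
    rw [Subgroup.normalClosure, closure_le]
    intro z hz
    obtain ⟨y, hy, hyz⟩ := Group.mem_conjugatesOfSet_iff.mp hz
    obtain ⟨k, rfl⟩ := isConj_iff.mp hyz
    exact key k (conj_mem_conj_smul hy)
  rcases h.simple _ normalClosure_normal with e | e
  · exact eq_bot_iff.mpr (le_normalClosure.trans e.le)
  · exact absurd (top_le_iff.mp (e ▸ hle)) hX

theorem coprime_index (h : CE A B) {p : ℕ} (hp : p.Prime) (hpA : p ∣ Nat.card A) : ¬ p ∣ Nat.card B :=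
  fun hd => hp.ne_one (Nat.eq_one_of_dvd_coprimes h.cop hpA hd)

/-- The Sylow subgroups inside `A`. -/
theorem exists_sylow (h : CE A B) {p : ℕ} (hp : p.Prime) (hpA : p ∣ Nat.card A) :
    ∃ (Q : Subgroup G) (P : Sylow p G), IsParts p A Q (P : Subgroup G) ∧ (P : Subgroup G) ≠ ⊥ := by
  haveI := Fact.mk hp
  obtain ⟨Q, P, hP⟩ := exists_parts h.nilA p
  have hc : Nat.card P = p ^ (Nat.card G).factorization p := by
    obtain ⟨k, hk⟩ := hP.pgroup.exists_card_eq
    rw [h.card_eq, hP.card, Nat.factorization_mul (Nat.mul_ne_zero Nat.card_pos.ne' Nat.card_pos.ne') Nat.card_pos.ne',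
      Nat.factorization_mul Nat.card_pos.ne' Nat.card_pos.ne', Finsupp.add_apply, Finsupp.add_apply, hk,
      Nat.factorization_eq_zero_of_not_dvd hP.not_dvd,
      Nat.factorization_eq_zero_of_not_dvd (h.coprime_index hp hpA), hp.factorization_pow,
      Finsupp.single_eq_same, zero_add, add_zero]
  refine ⟨Q, Sylow.ofCard P hc, by rw [Sylow.coe_ofCard]; exact hP, ?_⟩
  rw [Sylow.coe_ofCard]
  intro e
  have := hP.card
  rw [e, card_bot, mul_one] at this
  exact hP.not_dvd (this ▸ hpA)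

theorem exists_other_prime (h : CE A B) (p : ℕ) : ∃ r : ℕ, r.Prime ∧ r ∣ Nat.card A ∧ r ≠ p := by
  by_contra hc
  push Not at hc
  have h1 : Nat.card A ≠ 1 := by rw [Ne, Subgroup.card_eq_one]; exact h.ne_bot_left
  obtain ⟨r, hr, hrA⟩ := Nat.exists_prime_and_dvd h1
  obtain rfl := hc r hr hrA
  haveI := h.nilB
  haveI : Nontrivial B := (nontrivial_iff_ne_bot B).mpr h.symm.ne_bot_left
  haveI : Nontrivial (center B) :=
    (nontrivial_iff_ne_bot _).mpr (Group.IsNilpotent.center_ne_bot B)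
  obtain ⟨w, hw⟩ := exists_ne (1 : center B)
  set g : G := ((w : B) : G)
  have hg : g ≠ 1 := fun e => hw (Subtype.ext (Subtype.ext e))
  have hle : B ≤ centralizer ({g} : Set G) := fun b hb =>
    mem_centralizer_singleton_iff.mpr (congrArg Subtype.val (mem_center_iff.mp w.2 ⟨b, hb⟩))
  have hidx : B.index = Nat.card A := by
    refine Nat.eq_of_mul_eq_mul_left (Nat.card_pos (α := B)) ?_
    rw [B.card_mul_index, h.card_eq, mul_comm]
  obtain ⟨k, hk⟩ : ∃ k, Nat.card A = r ^ k := ⟨_, Nat.eq_prime_pow_of_unique_prime_dvd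
    Nat.card_pos.ne' fun {d} hd hdA => hc d hd hdA⟩
  obtain ⟨j, -, hj⟩ := (Nat.dvd_prime_pow hr).mp ((index_dvd_of_le hle).trans (hidx.trans hk).dvd)
  haveI := h.nontrivial
  haveI : IsSimpleGroup G := ⟨h.simple⟩
  have hprime := S0143.result r j hr g hg hj
  haveI := Fact.mk hprime
  haveI : IsCyclic G := isCyclic_of_prime_card (p := Nat.card G) rfl
  letI : CommGroup G := IsCyclic.commGroup
  exact h.nonsolv inferInstance

theorem exists_central (h : CE A B) {p : ℕ} (hp : p.Prime) (hpA : p ∣ Nat.card A) :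
    ∃ z ∈ A, orderOf z = p ∧ ∀ a ∈ A, z * a = a * z := by
  haveI := Fact.mk hp
  obtain ⟨Q, P, hP, hP1⟩ := h.exists_sylow hp hpA
  haveI : Nontrivial (P : Subgroup G) := (nontrivial_iff_ne_bot _).mpr hP1
  haveI := P.2.center_nontrivial
  obtain ⟨k, hk⟩ := (P.2.to_subgroup (center (P : Subgroup G))).exists_card_eq
  have hd : p ∣ Nat.card (center (P : Subgroup G)) := by
    rcases Nat.eq_zero_or_pos k with rfl | hk0
    · exact absurd hk (by rw [pow_zero]; exact (Finite.one_lt_card).ne')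
    · exact hk ▸ dvd_pow_self p hk0.ne'
  obtain ⟨z, hz⟩ := exists_prime_orderOf_dvd_card' p hd
  refine ⟨((z : (P : Subgroup G)) : G), hP.p_le (z : (P : Subgroup G)).2, by rw [orderOf_coe, orderOf_coe, hz], fun a ha => ?_⟩
  have hc : A ≤ centralizer ({((z : (P : Subgroup G)) : G)} : Set G) := by
    rw [← hP.sup]
    refine sup_le (fun q hq => mem_centralizer_singleton_iff.mpr ?_) fun x hx => mem_centralizer_singleton_iff.mpr ?_
    · exact (hP.comm q hq _ (z : (P : Subgroup G)).2).eq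
    · exact congrArg Subtype.val (mem_center_iff.mp z.2 ⟨x, hx⟩)
  exact (mem_centralizer_singleton_iff.mp (hc ha)).symm

/-- A normaliser criterion. -/
theorem normalizer_factor (h : CE A B) {U : Subgroup G} (hU : U ≤ B)
    (hw : ∀ a ∈ A, MulAut.conj a • U ≤ B → a ∈ normalizer (U : Set G)) :
    Prod (normalizer (U : Set G)) (A ⊓ normalizer (U : Set G)) (B ⊓ normalizer (U : Set G)) := by
  intro g hg
  obtain ⟨a, ha, b, hb, rfl⟩ := h.prod g (mem_top g)
  have e : MulAut.conj a⁻¹ • U = MulAut.conj b • U := by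
    conv_lhs => rw [← conj_smul_eq_self_iff.mpr hg]
    rw [← mul_smul, ← map_mul, inv_mul_cancel_left]
  have h1 : MulAut.conj a⁻¹ • U ≤ B := by
    rw [e]
    rintro _ ⟨u, hu, rfl⟩
    exact B.mul_mem (B.mul_mem hb (hU hu)) (B.inv_mem hb)
  have ha' : a ∈ normalizer (U : Set G) := by
    have := Subgroup.inv_mem _ (hw a⁻¹ (A.inv_mem ha) h1)
    rwa [inv_inv] at this
  refine ⟨a, ⟨ha, ha'⟩, b, ⟨hb, ?_⟩, rfl⟩
  simpa using Subgroup.mul_mem _ (Subgroup.inv_mem _ ha') hg

/-- The two-prime subgroup of a factorised subgroup. -/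
theorem two_prime (h : CE A B) {L : Subgroup G} (hL : L ≠ ⊤) (hLf : Prod L (A ⊓ L) (B ⊓ L))
    {p s : ℕ} (hp : p.Prime) (hs : s.Prime) (hpA : p ∣ Nat.card A) (hsB : s ∣ Nat.card B)
    {Qs Bs : Subgroup G} (hBs : IsParts s B Qs Bs) (hBs1 : Bs ≠ ⊥) (hsL : Bs ≤ L)
    {x : G} (hxA : x ∈ A) (hxL : x ∈ L) {k : ℕ} (hxo : orderOf x = p ^ k) :
    (∃ S : Subgroup G, S ≠ ⊥ ∧ S ≤ Bs ∧ B ≤ normalizer (S : Set G) ∧ x ∈ normalizer (S : Set G)) ∨
      ∃ R : Subgroup G, R ≤ A ∧ IsPGroup p R ∧ R ≠ ⊥ ∧ Bs ≤ normalizer (R : Set G) ∧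
        ((∀ r ∈ A, x * r = r * x) → x ∈ R) := by
  haveI := Fact.mk hp
  haveI := Fact.mk hs
  haveI := h.ih L hL hLf
  haveI := h.nilA
  have hnil : Group.IsNilpotent (A ⊓ L : Subgroup G) := by
    haveI : Group.IsNilpotent ((A ⊓ L).subgroupOf A) := inferInstance
    exact Group.nilpotent_of_mulEquiv (Subgroup.subgroupOfEquivOfLe inf_le_left)
  obtain ⟨Q0, P0, hP0⟩ := exists_parts hnil p
  have hxP : x ∈ P0 := hP0.mem_p x ⟨hxA, hxL⟩ k hxo
  have hps : p ≠ s := fun e => h.coprime_index hp hpA (e ▸ hsB)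
  have hAL : Nat.card L = Nat.card (A ⊓ L : Subgroup G) * Nat.card (B ⊓ L : Subgroup G) :=
    card_prod inf_le_right inf_le_right hLf (eq_bot_iff.mpr (h.inf_eq_bot ▸ inf_le_inf inf_le_left inf_le_left))
  have hP0L : P0 ≤ L := hP0.p_le.trans inf_le_right
  have hidxP : (Nat.card (P0.subgroupOf L)).Coprime (P0.subgroupOf L).index := by
    have e := (P0.subgroupOf L).card_mul_index
    rw [card_subgroupOf hP0L, hAL, hP0.card, mul_comm (Nat.card Q0), mul_assoc] at e
    rw [card_subgroupOf hP0L, Nat.eq_of_mul_eq_mul_left Nat.card_pos e]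
    obtain ⟨i, hi⟩ := hP0.pgroup.exists_card_eq
    rw [hi]
    exact ((hp.coprime_iff_not_dvd).mpr fun hd => (hp.dvd_mul.mp hd).elim hP0.not_dvd
      fun hd => h.coprime_index hp hpA (hd.trans (card_dvd_of_le inf_le_left))).pow_left i
  have hidxB : (Nat.card (Bs.subgroupOf L)).Coprime (Bs.subgroupOf L).index := by
    rw [card_subgroupOf hsL]
    have hd : (Bs.subgroupOf L).index ∣ Bs.index := by
      obtain ⟨c, hc⟩ := card_subgroup_dvd_card L
      have e1 := (Bs.subgroupOf L).card_mul_index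
      have e2 := Bs.card_mul_index
      rw [card_subgroupOf hsL] at e1
      refine ⟨c, Nat.eq_of_mul_eq_mul_left (Nat.card_pos (α := Bs)) ?_⟩
      rw [e2, ← mul_assoc, e1, hc]
    refine Nat.Coprime.coprime_dvd_right hd ?_
    obtain ⟨i, hi⟩ := hBs.pgroup.exists_card_eq
    have e : Bs.index = Nat.card A * Nat.card Qs := by
      refine Nat.eq_of_mul_eq_mul_left (Nat.card_pos (α := Bs)) ?_
      rw [Bs.card_mul_index, h.card_eq, hBs.card]; ring
    rw [hi, e]
    exact ((hs.coprime_iff_not_dvd).mpr fun hd => (hs.dvd_mul.mp hd).elim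
      (fun hd => h.symm.coprime_index hs hsB hd) hBs.not_dvd).pow_left i
  obtain ⟨D', hD'⟩ := S0561.result ((A ⊓ L).subgroupOf L) ((B ⊓ L).subgroupOf L) (P0.subgroupOf L) (Bs.subgroupOf L)
    (fun g => by
      obtain ⟨a, ha, b, hb, e⟩ := hLf g g.2
      exact ⟨⟨a, ha.2⟩, ha, ⟨b, hb.2⟩, hb, Subtype.ext e⟩)
    (fun y hy => hP0.p_le hy)
    ((normal_subgroupOf_iff_le_normalizer (H := P0.subgroupOf L) (K := (A ⊓ L).subgroupOf L)
      (fun y hy => hP0.p_le hy)).mpr fun y hy => by
      refine mem_normalizer_iff.mpr fun z => ?_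
      exact mem_normalizer_iff.mp (hP0.p_norm hy) (z : G))
    (fun y hy => ⟨hBs.p_le hy, y.2⟩)
    ((normal_subgroupOf_iff_le_normalizer (H := Bs.subgroupOf L) (K := (B ⊓ L).subgroupOf L)
      (fun y hy => ⟨hBs.p_le hy, y.2⟩)).mpr fun y hy => by
      refine mem_normalizer_iff.mpr fun z => ?_
      exact mem_normalizer_iff.mp (hBs.p_norm hy.1) (z : G))
    hidxP hidxB 1 1
  rw [map_one, one_smul, one_smul] at hD'
  set D : Subgroup L := D'
  haveI : Group.IsSolvable D := inferInstance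
  have hPD : P0.subgroupOf L ≤ D := fun y hy => hD'.ge ⟨y, hy, 1, one_mem _, mul_one y⟩
  have hBD : Bs.subgroupOf L ≤ D := fun y hy => hD'.ge ⟨1, one_mem _, y, hy, one_mul y⟩
  have hcardD : Nat.card D = Nat.card P0 * Nat.card Bs := by
    have e := ncard_mul_mul_card_inf (P0.subgroupOf L) (Bs.subgroupOf L)
    rw [← hD', card_subgroupOf hP0L, card_subgroupOf hsL] at e
    have hbot : (P0.subgroupOf L) ⊓ (Bs.subgroupOf L) = ⊥ := (eq_bot_iff_forall _).mpr fun y hy => by
      have : (y : G) ∈ A ⊓ B := ⟨(hP0.p_le hy.1).1, hBs.p_le hy.2⟩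
      rw [h.inf_eq_bot, mem_bot] at this
      exact Subtype.ext this
    rw [hbot, card_bot, mul_one, ← Nat.card_coe_set_eq] at e
    exact e
  obtain ⟨i, hi⟩ := hP0.pgroup.exists_card_eq
  obtain ⟨j, hj⟩ := hBs.pgroup.exists_card_eq
  let f : D →* G := L.subtype.comp D.subtype
  have hf : Function.Injective f := L.subtype_injective.comp D.subtype_injective
  -- Sylow subgroups of `D`
  have hfac : ∀ r : ℕ, (Nat.card D).factorization r = (p ^ i).factorization r + (s ^ j).factorization r := fun r => by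
    rw [hcardD, hi, hj, Nat.factorization_mul (pow_ne_zero _ hp.ne_zero) (pow_ne_zero _ hs.ne_zero), Finsupp.add_apply]
  let PD : Sylow p D := Sylow.ofCard ((P0.subgroupOf L).subgroupOf D) (by
    rw [card_subgroupOf hPD, card_subgroupOf hP0L, hi, hfac, hp.factorization_pow, hs.factorization_pow,
      Finsupp.single_eq_same, Finsupp.single_eq_of_ne hps, add_zero])
  let SD : Sylow s D := Sylow.ofCard ((Bs.subgroupOf L).subgroupOf D) (by
    rw [card_subgroupOf hBD, card_subgroupOf hsL, hj, hfac, hp.factorization_pow, hs.factorization_pow,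
      Finsupp.single_eq_of_ne hps.symm, Finsupp.single_eq_same, zero_add])
  set xD : D := ⟨⟨x, hxL⟩, hPD hxP⟩
  by_cases hOs : Cfsg.pCore s D = ⊥
  · right
    have hpp : Cfsg.pPrimeCore p D = ⊥ := by
      rw [eq_bot_iff, ← hOs]
      refine le_pCore ?_
      have hd := (Cfsg.pPrimeCore p D).card_subgroup_dvd_card
      rw [hcardD, hi, hj] at hd
      obtain ⟨m, -, hm⟩ := (Nat.dvd_prime_pow hs).mp
        (((pPrimeCore_coprime (G := D) p).pow_right i).dvd_of_dvd_mul_left hd)
      exact IsPGroup.of_card hm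
    set R := (Cfsg.pCore p D).map f with hR
    have hRP : R ≤ P0 := by
      rintro _ ⟨y, hy, rfl⟩
      exact pCore_le_sylow p PD hy
    refine ⟨R, hRP.trans (hP0.p_le.trans inf_le_left), (pCore_isPGroup p).map _, ?_, ?_, fun hx => ?_⟩
    · intro e
      rw [hR, map_eq_bot_iff_of_injective _ hf] at e
      haveI : Nontrivial D := by
        rw [← Finite.one_lt_card_iff_nontrivial, hcardD]
        have h1 : 1 < Nat.card Bs := by
          rw [Finite.one_lt_card_iff_nontrivial, nontrivial_iff_ne_bot]; exact hBs1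
        exact lt_of_lt_of_le h1 (Nat.le_mul_of_pos_left _ Nat.card_pos)
      exact fittingSubgroup_ne_bot (G := D) ((fittingSubgroup_eq_pCore hpp).trans e)
    · intro b hb
      refine conj_le_normalizer_of_le ?_
      rintro _ ⟨_, ⟨y, hy, rfl⟩, rfl⟩
      exact ⟨_, (pCore_normal p).conj_mem y hy ⟨⟨b, hsL hb⟩, hBD hb⟩, rfl⟩
    · have hmem : xD ∈ centralizer (Cfsg.pCore p D : Set D) := by
        refine mem_centralizer_iff.mpr fun y hy => Subtype.ext (Subtype.ext ?_)
        exact (hx _ (hP0.p_le (hRP ⟨y, hy, rfl⟩ : f y ∈ P0)).1).symm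
      exact ⟨xD, centralizer_pCore_le hpp hmem, rfl⟩
  · left
    set S := (Cfsg.pCore s D).map f with hS
    have hSB : S ≤ Bs := by
      rintro _ ⟨y, hy, rfl⟩
      exact pCore_le_sylow s SD hy
    have hnorm : ∀ y : D, f y ∈ normalizer (S : Set G) := fun y => by
      refine conj_le_normalizer_of_le ?_
      rintro _ ⟨_, ⟨w, hw, rfl⟩, rfl⟩
      exact ⟨_, (pCore_normal s).conj_mem w hw y, by simp [f]⟩
    refine ⟨S, fun e => hOs ((map_eq_bot_iff_of_injective _ hf).mp e), hSB, ?_, hnorm xD⟩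
    rw [← hBs.sup]
    refine sup_le (fun q hq => centralizer_le_normalizer _ (mem_centralizer_iff.mpr fun y hy =>
      ((hBs.comm q hq y (hSB hy)).eq).symm)) fun b hb => hnorm ⟨⟨b, hsL hb⟩, hBD hb⟩

/-- The centralizer of a central element of `A` meets `B` trivially. -/
theorem central_inf_aux (h : CE A B) {z : G} (hzA : z ∈ A) {p : ℕ} (hp : p.Prime) (hz : orderOf z = p)
    (hzc : ∀ a ∈ A, z * a = a * z) : centralizer ({z} : Set G) ⊓ B = ⊥ := by
  haveI := Fact.mk hp
  by_contra hne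
  have hpA : p ∣ Nat.card A := hz ▸ orderOf_dvd_natCard A hzA
  set K0 := centralizer ({z} : Set G) ⊓ B with hK0
  obtain ⟨y, hy, q, hq, hyq⟩ := exists_prime_orderOf hne
  haveI := Fact.mk hq
  haveI := h.nilB
  have hK0n : Group.IsNilpotent K0 := by
    haveI : Group.IsNilpotent (K0.subgroupOf B) := inferInstance
    exact Group.nilpotent_of_mulEquiv (Subgroup.subgroupOfEquivOfLe inf_le_right)
  obtain ⟨Qk, U, hU⟩ := exists_parts hK0n q
  have hyU : y ∈ U := hU.mem_p y hy 1 (by rw [hyq, pow_one])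
  have hU1 : U ≠ ⊥ := fun e => by
    rw [e, mem_bot] at hyU
    rw [hyU, orderOf_one] at hyq
    exact hq.ne_one hyq.symm
  have hUB : U ≤ B := hU.p_le.trans inf_le_right
  set L := normalizer (U : Set G)
  have hL : L ≠ ⊤ := h.normalizer_ne_top hU1 (h.pgroup_ne_top hU.pgroup)
  have hLf : Prod L (A ⊓ L) (B ⊓ L) := h.normalizer_factor hUB fun a ha hle => by
    refine conj_le_normalizer_of_le ?_
    rintro _ ⟨u, hu, rfl⟩
    obtain ⟨k, hk⟩ := IsPGroup.iff_orderOf.mp hU.pgroup ⟨u, hu⟩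
    refine hU.mem_p _ ⟨?_, hle (conj_mem_conj_smul hu)⟩ k (by
      show orderOf (a * u * a⁻¹) = _
      rw [orderOf_conj, ← hk, orderOf_mk])
    have hzu := mem_centralizer_singleton_iff.mp (hU.p_le hu).1
    show a * u * a⁻¹ ∈ centralizer ({z} : Set G)
    refine mem_centralizer_singleton_iff.mpr ?_
    calc a * u * a⁻¹ * z = a * u * (a⁻¹ * z) := by group
      _ = a * (u * z) * a⁻¹ := by rw [← hzc a⁻¹ (A.inv_mem ha)]; group
      _ = a * z * u * a⁻¹ := by rw [hzu]; group
      _ = z * (a * u * a⁻¹) := by rw [← hzc a ha]; group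
  have hzL : z ∈ L := centralizer_le_normalizer _ (mem_centralizer_iff.mpr fun u hu =>
    mem_centralizer_singleton_iff.mp (hU.p_le hu).1)
  obtain ⟨s, hs, hsB, hsq⟩ := h.symm.exists_other_prime q
  haveI := Fact.mk hs
  obtain ⟨Qs, Bs, hBs, hBs1⟩ := h.symm.exists_sylow hs hsB
  have hsL : (Bs : Subgroup G) ≤ L := fun b hb => centralizer_le_normalizer _ (mem_centralizer_iff.mpr fun u hu => by
    obtain ⟨k, hk⟩ := IsPGroup.iff_orderOf.mp hU.pgroup ⟨u, hu⟩
    rw [orderOf_mk] at hk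
    refine (hBs.comm u (hBs.mem_q u (hUB hu) fun hd => ?_) b hb).eq
    rw [hk] at hd
    exact hsq ((Nat.prime_dvd_prime_iff_eq hs hq).mp (hs.dvd_of_dvd_pow hd)))
  have hzn : z ≠ 1 := fun e => hp.ne_one (by rw [← hz, e, orderOf_one])
  rcases h.two_prime hL hLf hp hs hpA hsB hBs hBs1 hsL hzA hzL (k := 1) (by rw [hz, pow_one]) with
    ⟨S, hS1, hSBs, hBS, hzS⟩ | ⟨R, hRA, hRp, hR1, hBR, hzR⟩
  · have := h.symm.no_normal hBS (h.normalizer_ne_top hS1 (h.pgroup_ne_top (Bs.2.to_le hSBs)))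
      (Y := zpowers z) (g := 1) (fun a ha => centralizer_le_normalizer _ (mem_centralizer_iff.mpr fun w hw => by
        obtain ⟨m, rfl⟩ := mem_zpowers_iff.mp hw
        exact (Commute.zpow_left (hzc a ha : Commute z a) m).eq))
      (by rw [map_one, one_smul, zpowers_le]; exact hzS)
    exact hzn (zpowers_eq_bot.mp this)
  · have hzR := hzR hzc
    have hZR : zpowers z ≤ R := zpowers_le.mpr hzR
    have hfix : ∀ a ∈ A, MulAut.conj a • zpowers z = zpowers z := fun a ha => by
      refine conj_smul_eq_self_iff.mpr (centralizer_le_normalizer _ (mem_centralizer_iff.mpr fun w hw => ?_))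
      obtain ⟨m, rfl⟩ := mem_zpowers_iff.mp hw
      exact (Commute.zpow_left (hzc a ha : Commute z a) m).eq
    -- Matsuyama
    obtain ⟨P, hP⟩ := S0541.result p (zpowers z) (Bs : Subgroup G) fun g => by
      obtain ⟨b, hb, a, ha, rfl⟩ := h.prod.swap g (mem_top g)
      have hRb : IsPGroup p (MulAut.conj b • R : Subgroup G) := hRp.map _
      refine hRb.to_le (iSup₂_le fun y hy => ?_)
      rw [show y * (b * a) = b * ((b⁻¹ * y * b) * a) by group, map_mul, map_mul, mul_smul, mul_smul, hfix a ha]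
      refine map_mono ?_
      refine le_trans (map_mono hZR) (le_of_eq (conj_smul_eq_self_iff.mpr (hBR ?_)))
      simpa using (mem_normalizer_iff.mp (Subgroup.inv_mem _ (hBs.p_norm hb)) y).mp hy
    set W : Subgroup G := ⨆ g ∈ {g : G | MulAut.conj g • zpowers z ≤ (P : Subgroup G)}, MulAut.conj g • zpowers z
    obtain ⟨Qp, AP, hAP, -⟩ := h.exists_sylow hp hpA
    obtain ⟨c, hc⟩ := MulAction.exists_smul_eq G AP P
    have hcP : MulAut.conj c • (AP : Subgroup G) = (P : Subgroup G) := by rw [← hc, Sylow.coe_subgroup_smul]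
    have hWP : W ≤ P := iSup₂_le fun g hg => hg
    have hW1 : W ≠ ⊥ := by
      intro e
      have hmem : z ∈ (AP : Subgroup G) := hAP.mem_p z hzA 1 (by rw [hz, pow_one])
      have hle : MulAut.conj c • zpowers z ≤ (P : Subgroup G) := hcP ▸ map_mono (zpowers_le.mpr hmem)
      have : MulAut.conj c • zpowers z ≤ W := le_iSup₂_of_le c hle le_rfl
      rw [e, le_bot_iff] at this
      have h2 := conj_smul_inv_eq this
      rw [Subgroup.smul_bot] at h2
      exact hzn (zpowers_eq_bot.mp h2.symm)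
    have hWn : W ≠ ⊤ := h.pgroup_ne_top (P.2.to_le hWP)
    have hAc : ∀ a ∈ A, c * a * c⁻¹ ∈ normalizer (W : Set G) := fun a ha => by
      have hn : c * a * c⁻¹ ∈ normalizer ((P : Subgroup G) : Set G) := by
        rw [← hcP, normalizer_conj_smul]
        exact conj_mem_conj_smul (hAP.p_norm ha)
      refine conj_le_normalizer_of_le ?_
      rw [pointwise_smul_subset_iff]
      refine iSup₂_le fun g hg => ?_
      rw [← pointwise_smul_subset_iff, ← mul_smul, ← map_mul]
      refine le_iSup₂_of_le (c * a * c⁻¹ * g) ?_ le_rfl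
      show MulAut.conj (c * a * c⁻¹ * g) • zpowers z ≤ _
      rw [map_mul, mul_smul]
      exact (map_mono hg).trans (conj_smul_eq_self_iff.mpr hn).le
    have hXA : A ≤ MulAut.conj c⁻¹ • normalizer (W : Set G) := fun a ha => by
      rw [mem_conj_smul, inv_inv]; exact hAc a ha
    have hXtop : MulAut.conj c⁻¹ • normalizer (W : Set G) ≠ ⊤ := fun e => by
      apply h.normalizer_ne_top hW1 hWn
      have := conj_smul_inv_eq e
      rw [inv_inv] at this
      rw [← this]
      exact Subgroup.Normal.conj_smul_eq_self c ⊤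
    exact hBs1 (h.no_normal hXA hXtop hBs.p_norm (g := c⁻¹) (map_mono hP))

theorem exists_pow_prime {z : G} (hz : z ≠ 1) : ∃ m : ℕ, (orderOf (z ^ m)).Prime := by
  have hn : orderOf z ≠ 1 := by rwa [Ne, orderOf_eq_one_iff]
  obtain ⟨p, hp, hpd⟩ := Nat.exists_prime_and_dvd hn
  refine ⟨orderOf z / p, ?_⟩
  rwa [orderOf_pow_orderOf_div (orderOf_pos z).ne' hpd]

theorem central_eq (h : CE A B) {z : G} (hzA : z ∈ A) (hz : z ≠ 1)
    (hzc : ∀ a ∈ A, z * a = a * z) : centralizer ({z} : Set G) = A := by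
  obtain ⟨m, hm⟩ := exists_pow_prime hz
  have hbot := h.central_inf_aux (A.pow_mem hzA m) hm rfl fun a ha => (Commute.pow_left (hzc a ha : Commute z a) m).eq
  refine le_antisymm (fun g hg => ?_) fun a ha => mem_centralizer_singleton_iff.mpr (hzc a ha).symm
  obtain ⟨a, ha, b, hb, rfl⟩ := h.prod g (mem_top g)
  have hgz : Commute (a * b) z := mem_centralizer_singleton_iff.mp hg
  have hbz : Commute b z := by
    have hc : Commute z a := hzc a ha
    have := (hc.symm.inv_left).mul_left hgz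
    rwa [inv_mul_cancel_left] at this
  have : b ∈ centralizer ({z ^ m} : Set G) ⊓ B := ⟨mem_centralizer_singleton_iff.mpr (hbz.pow_right m).eq, hb⟩
  rw [hbot, mem_bot] at this
  rw [this, mul_one]
  exact ha

/-- `N(A)` is the largest proper overgroup of `A`. -/
theorem le_normalizer_A (h : CE A B) {X : Subgroup G} (hX : A ≤ X) (hXt : X ≠ ⊤) :
    X ≤ normalizer (A : Set G) := by
  obtain ⟨M, hM, hXM⟩ : ∃ M, IsCoatom M ∧ X ≤ M := by
    rcases eq_top_or_exists_le_coatom X with e | e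
    · exact absurd e hXt
    · exact e
  refine hXM.trans ?_
  have hAM : A ≤ M := hX.trans hXM
  have hMf := h.factor_of_le hAM
  haveI := h.ih M hM.1 hMf
  have hcardM : Nat.card M = Nat.card A * Nat.card (B ⊓ M : Subgroup G) := by
    refine card_prod hAM inf_le_right (fun g hg => ?_) (eq_bot_iff.mpr (h.inf_eq_bot ▸ inf_le_inf_left A inf_le_left))
    obtain ⟨a, ha, b, hb, e⟩ := hMf g hg
    exact ⟨a, ha.1, b, hb, e⟩
  have hleA : ∀ N : Subgroup M, N.Normal → (Nat.card N).Coprime (Nat.card B) → N.map M.subtype ≤ A := by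
    intro N hN hcop
    refine le_of_coprime_sup (d := Nat.card B) (Or.inl fun a ha => conj_le_normalizer_of_le ?_) ?_
      (by rw [card_map_of_injective M.subtype_injective]; exact hcop) h.cop
    · rintro _ ⟨_, ⟨y, hy, rfl⟩, rfl⟩
      exact ⟨_, hN.conj_mem y hy ⟨a, hAM ha⟩, rfl⟩
    · rw [← h.card_eq]; exact card_subgroup_dvd_card _
  have hpB : ∀ q : ℕ, q.Prime → q ∣ Nat.card B → Cfsg.pCore q M = ⊥ := by
    intro q hq hqB
    haveI := Fact.mk hq
    by_contra hne
    set S := (Cfsg.pCore q M).map M.subtype with hS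
    have hSp : IsPGroup q S := (pCore_isPGroup q).map _
    have hMS : M ≤ normalizer (S : Set G) := fun m hm => conj_le_normalizer_of_le (by
      rintro _ ⟨_, ⟨y, hy, rfl⟩, rfl⟩
      exact ⟨_, (pCore_normal q).conj_mem y hy ⟨m, hm⟩, rfl⟩)
    have hSK : S ≤ B ⊓ M := by
      refine le_of_coprime_sup (d := Nat.card A) (Or.inl (inf_le_right.trans hMS)) ?_ ?_
        (h.cop.symm.coprime_dvd_left (card_dvd_of_le inf_le_left))
      · rw [mul_comm, ← hcardM]
        exact card_dvd_of_le (sup_le (map_subtype_le _) inf_le_right)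
      · obtain ⟨k, hk⟩ := hSp.exists_card_eq
        rw [hk]
        exact ((hq.coprime_iff_not_dvd).mpr (h.symm.coprime_index hq hqB)).pow_left k
    have hS1 : S ≠ ⊥ := fun e => hne ((map_eq_bot_iff_of_injective _ M.subtype_injective).mp e)
    obtain ⟨w, hwB, hwo, hwc⟩ := h.symm.exists_central hq hqB
    have hwM : w ∈ M := by
      have hN : normalizer (S : Set G) = M :=
        (hM.le_iff.mp hMS).resolve_left (h.normalizer_ne_top hS1 (h.pgroup_ne_top hSp))
      rw [← hN]
      exact centralizer_le_normalizer _ (mem_centralizer_iff.mpr fun y hy => (hwc y (hSK hy).1).symm)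
    have hY : zpowers w = ⊥ := h.no_normal hAM hM.1 (g := 1) (fun b hb => centralizer_le_normalizer _
      (mem_centralizer_iff.mpr fun v hv => by
        obtain ⟨m, rfl⟩ := mem_zpowers_iff.mp hv
        exact (Commute.zpow_left (hwc b hb : Commute w b) m).eq)) (by rw [map_one, one_smul, zpowers_le]; exact hwM)
    rw [zpowers_eq_bot] at hY
    rw [hY, orderOf_one] at hwo
    exact hq.ne_one hwo.symm
  have hFA : (Cfsg.fittingSubgroup M).map M.subtype ≤ A := by
    rw [fittingSubgroup_eq_iSup_pCore, Subgroup.map_iSup]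
    refine iSup_le fun q => ?_
    haveI := Fact.mk q.2
    by_cases hqB : (q : ℕ) ∣ Nat.card B
    · rw [hpB q q.2 hqB, Subgroup.map_bot]; exact bot_le
    · refine hleA _ (pCore_normal _) ?_
      obtain ⟨k, hk⟩ := (pCore_isPGroup (G := M) (q : ℕ)).exists_card_eq
      rw [hk]
      exact ((q.2.coprime_iff_not_dvd).mpr hqB).pow_left k
  have hprime : ∀ r : ℕ, r.Prime → r ∣ Nat.card A → ∀ m ∈ M, ∀ a ∈ A, ¬ r ∣ orderOf a → m * a * m⁻¹ ∈ A := by
    intro r hr hrA
    haveI := Fact.mk hr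
    obtain ⟨z, hzA, hzo, hzc⟩ := h.exists_central hr hrA
    set zM : M := ⟨z, hAM hzA⟩
    have hzF : zM ∈ Cfsg.fittingSubgroup M := centralizer_fittingSubgroup_le (mem_centralizer_iff.mpr fun y hy =>
      Subtype.ext (hzc y (hFA ⟨y, hy, rfl⟩)).symm)
    obtain ⟨Qf, Pf, hPf⟩ := exists_parts (fittingSubgroup_isNilpotent (G := M)) r
    have hPfn : Pf.Normal := ⟨fun y hy g => by
      obtain ⟨k, hk⟩ := IsPGroup.iff_orderOf.mp hPf.pgroup ⟨y, hy⟩
      rw [orderOf_mk] at hk
      exact hPf.mem_p _ (fittingSubgroup_normal.conj_mem y (hPf.p_le hy) g) k ((orderOf_conj g y).trans hk)⟩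
    haveI := hPfn
    have hzR : zM ∈ Cfsg.pCore r M :=
      le_pCore hPf.pgroup (hPf.mem_p zM hzF 1 (by rw [Subgroup.orderOf_mk, hzo, pow_one]))
    set R := Cfsg.pCore r M
    set C := centralizer (R : Set M)
    haveI : C.Normal := normal_centralizer
    have hCA : C.map M.subtype ≤ A := by
      refine hleA C inferInstance ?_
      have hK : C ⊓ (B ⊓ M).subgroupOf M = ⊥ := (eq_bot_iff_forall _).mpr fun y hy => by
        have hz1 : z ≠ 1 := fun e => hr.ne_one (by rw [← hzo, e, orderOf_one])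
        have hy' : (y : G) ∈ centralizer ({z} : Set G) := mem_centralizer_singleton_iff.mpr
          (congrArg Subtype.val (mem_centralizer_iff.mp hy.1 zM hzR)).symm
        rw [h.central_eq hzA hz1 hzc] at hy'
        have : (y : G) ∈ A ⊓ B := ⟨hy', hy.2.1⟩
        rw [h.inf_eq_bot, mem_bot] at this
        exact Subtype.ext this
      have e := card_mul_card_eq_card_sup_mul_card_inf (N := C) (H := (B ⊓ M).subgroupOf M) le_normalizer_of_normal
      rw [hK, card_bot, mul_one, card_subgroupOf inf_le_right] at e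
      have hd : Nat.card C * Nat.card (B ⊓ M : Subgroup G) ∣ Nat.card A * Nat.card (B ⊓ M : Subgroup G) := by
        rw [← hcardM, e]
        exact card_subgroup_dvd_card _
      exact h.cop.coprime_dvd_left (Nat.dvd_of_mul_dvd_mul_right Nat.card_pos hd)
    intro m hm a ha har
    obtain ⟨Qa, Pa, hPa, -⟩ := h.exists_sylow hr hrA
    have hRA : R.map M.subtype ≤ (Pa : Subgroup G) := by
      rintro _ ⟨y, hy, rfl⟩
      obtain ⟨k, hk⟩ := IsPGroup.iff_orderOf.mp (pCore_isPGroup (G := M) r) ⟨y, hy⟩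
      rw [orderOf_mk] at hk
      exact hPa.mem_p _ (hFA ⟨y, pCore_le_fittingSubgroup r hy, rfl⟩) k (by rw [Subgroup.coe_subtype, orderOf_coe, hk])
    have haC : (⟨a, hAM ha⟩ : M) ∈ C := mem_centralizer_iff.mpr fun y hy => Subtype.ext
      ((hPa.comm a (hPa.mem_q a ha har) _ (hRA ⟨y, hy, rfl⟩)).eq.symm)
    exact hCA ⟨⟨m, hm⟩ * ⟨a, hAM ha⟩ * ⟨m, hm⟩⁻¹, Normal.conj_mem inferInstance _ haC _, rfl⟩
  intro m hm
  refine conj_le_normalizer_of_le ?_
  rintro _ ⟨a, ha, rfl⟩
  show m * a * m⁻¹ ∈ A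
  suffices a ∈ A.comap (MulAut.conj m).toMonoidHom from this
  refine le_of_prime_pow (T := A) (fun x hx q k hq hk => ?_) ha
  obtain ⟨r, hr, hrA, hrq⟩ := h.exists_other_prime q
  exact hprime r hr hrA m hm x hx fun hd => hrq ((Nat.prime_dvd_prime_iff_eq hr hq).mp (hr.dvd_of_dvd_pow (hk ▸ hd)))

theorem normalizer_A_ne_top (h : CE A B) : normalizer (A : Set G) ≠ ⊤ :=
  h.normalizer_ne_top h.ne_bot_left h.ne_top_left

theorem mem_A_of_coprime (h : CE A B) {x : G} (hx : x ∈ normalizer (A : Set G))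
    (hcop : (orderOf x).Coprime (Nat.card B)) : x ∈ A := by
  refine le_of_coprime_sup (N := zpowers x) (d := Nat.card B) (Or.inr (zpowers_le.mpr hx)) ?_ ?_ h.cop (mem_zpowers x)
  · rw [← h.card_eq]; exact card_subgroup_dvd_card _
  · rwa [Nat.card_zpowers]

/-- A nontrivial Sylow piece of `B` determines `B`. -/
theorem normalizer_part_le (h : CE A B) {U : Subgroup G} {r : ℕ} [Fact r.Prime] (hU : IsPGroup r U)
    (hU1 : U ≠ ⊥) (hn : A ≤ normalizer (U : Set G)) : normalizer (U : Set G) ≤ normalizer (A : Set G) :=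
  h.le_normalizer_A hn (h.normalizer_ne_top hU1 (h.pgroup_ne_top hU))

/-- weak closure of central elements -/
theorem mem_normalizer_of_conj (h : CE A B) {z : G} (hzA : z ∈ A) {p : ℕ} (hp : p.Prime) (hz : orderOf z = p)
    (hzc : ∀ a ∈ A, z * a = a * z) {g : G} (hg : g * z * g⁻¹ ∈ A) : g ∈ normalizer (A : Set G) := by
  haveI := Fact.mk hp
  obtain ⟨r, hr, hrA, hrp⟩ := h.exists_other_prime p
  haveI := Fact.mk hr
  obtain ⟨Qr, Ar, hAr, hAr1⟩ := h.exists_sylow hr hrA
  have hle : MulAut.conj g⁻¹ • (Ar : Subgroup G) ≤ Ar := by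
    rintro _ ⟨y, hy, rfl⟩
    have hq : g * z * g⁻¹ ∈ Qr := hAr.mem_q _ hg (by
      rw [orderOf_conj, hz]; exact fun hd => hrp ((Nat.prime_dvd_prime_iff_eq hr hp).mp hd))
    have hcy : g⁻¹ * y * g ∈ centralizer ({z} : Set G) := (centralizer_conj g z).mp
      (mem_centralizer_singleton_iff.mpr (hAr.comm _ hq y hy).eq.symm)
    have hz1 : z ≠ 1 := fun e => hp.ne_one (by rw [← hz, e, orderOf_one])
    rw [h.central_eq hzA hz1 hzc] at hcy
    show g⁻¹ * y * g⁻¹⁻¹ ∈ (Ar : Subgroup G)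
    rw [inv_inv]
    obtain ⟨k, hk⟩ := IsPGroup.iff_orderOf.mp Ar.2 ⟨y, hy⟩
    rw [orderOf_mk] at hk
    exact hAr.mem_p _ hcy k (by
      have := orderOf_conj g⁻¹ y
      rw [inv_inv] at this
      rw [this, hk])
  have := Subgroup.inv_mem _ (conj_le_normalizer_of_le hle)
  rw [inv_inv] at this
  exact h.normalizer_part_le Ar.2 hAr1 hAr.p_norm this

/-- No nontrivial subgroup of prime power order dividing `|A|` is normalized by a Sylow subgroup inside `B`. -/
theorem no_invariant (h : CE A B) {l : ℕ} (hl : l.Prime) (hlA : l ∣ Nat.card A) {R : Subgroup G}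
    (hR : IsPGroup l R) (hR1 : R ≠ ⊥) {s : ℕ} [Fact s.Prime] {Qs : Subgroup G} {Bs : Sylow s G}
    (hBs : IsParts s B Qs (Bs : Subgroup G)) (hBs1 : (Bs : Subgroup G) ≠ ⊥)
    (hn : (Bs : Subgroup G) ≤ normalizer (R : Set G)) : False := by
  haveI := Fact.mk hl
  obtain ⟨r, hr, hrA, hrl⟩ := h.exists_other_prime l
  haveI := Fact.mk hr
  obtain ⟨Ql, Al, hAl, -⟩ := h.exists_sylow hl hlA
  obtain ⟨Qr, Ar, hAr, hAr1⟩ := h.exists_sylow hr hrA
  obtain ⟨T, hT⟩ := hR.exists_le_sylow
  obtain ⟨g, rfl⟩ := MulAction.exists_smul_eq G Al T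
  set X := centralizer (R : Set G) with hX
  have hBX : (Bs : Subgroup G) ≤ normalizer (X : Set G) := fun b hb => Carter.normalizer_centralizer (hn hb)
  have hArX : MulAut.conj g • (Ar : Subgroup G) ≤ X := by
    rintro _ ⟨y, hy, rfl⟩
    refine mem_centralizer_iff.mpr fun x hx => ?_
    have hx' := hT hx
    rw [Sylow.coe_subgroup_smul] at hx'
    obtain ⟨w, hw, rfl⟩ := hx'
    have hyQ : y ∈ Ql := hAl.mem_q y (hAr.p_le hy) (by
      obtain ⟨k, hk⟩ := IsPGroup.iff_orderOf.mp Ar.2 ⟨y, hy⟩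
      rw [orderOf_mk] at hk
      rw [hk]
      exact fun hd => hrl ((Nat.prime_dvd_prime_iff_eq hl hr).mp (hl.dvd_of_dvd_pow hd)).symm)
    show g * w * g⁻¹ * (g * y * g⁻¹) = g * y * g⁻¹ * (g * w * g⁻¹)
    rw [show g * w * g⁻¹ * (g * y * g⁻¹) = g * (w * y) * g⁻¹ by group, ← (hAl.comm y hyQ w hw).eq]
    group
  have hinf : X ⊓ (Bs : Subgroup G) = ⊥ := by
    by_contra hne
    haveI := Bs.2.isNilpotent
    have hnorm : ((X ⊓ (Bs : Subgroup G)).subgroupOf (Bs : Subgroup G)).Normal :=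
      (normal_subgroupOf_iff_le_normalizer inf_le_right).mpr fun b hb =>
        Carter.conj_le_normalizer (hBX hb) (le_normalizer hb)
    haveI := hnorm
    have hne' : (X ⊓ (Bs : Subgroup G)).subgroupOf (Bs : Subgroup G) ≠ ⊥ := fun e => hne (by
      rw [← map_subgroupOf_eq_of_le (inf_le_right : X ⊓ (Bs : Subgroup G) ≤ Bs), e, Subgroup.map_bot])
    obtain ⟨w, hw1, hw2, hw3⟩ := LocalEvenB.exists_mem_center_ne_one _ hne'
    have hwc : ∀ b ∈ B, (w : G) * b = b * w := fun b hb => by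
      have hc : B ≤ centralizer ({(w : G)} : Set G) := by
        rw [← hBs.sup]
        exact sup_le (fun q hq => mem_centralizer_singleton_iff.mpr (hBs.comm q hq _ w.2).eq)
          fun x hx => mem_centralizer_singleton_iff.mpr (congrArg Subtype.val (mem_center_iff.mp hw2 ⟨x, hx⟩))
      exact (mem_centralizer_singleton_iff.mp (hc hb)).symm
    have hceq := h.symm.central_eq (hBs.p_le w.2) (fun e => hw3 (Subtype.ext e)) hwc
    apply hR1
    have hRB : R ≤ B := fun x hx => by
      rw [← hceq]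
      exact mem_centralizer_singleton_iff.mpr (mem_centralizer_iff.mp hw1.1 x hx)
    rw [← card_eq_one]
    obtain ⟨k, hk⟩ := hR.exists_card_eq
    refine Nat.eq_one_of_dvd_coprimes ?_ dvd_rfl (card_dvd_of_le hRB)
    rw [hk]
    exact ((hl.coprime_iff_not_dvd).mpr (h.coprime_index hl hlA)).pow_left k
  have hsX : ¬ s ∣ Nat.card X := by
    intro hd
    have e := card_mul_card_eq_card_sup_mul_card_inf hBX
    rw [hinf, card_bot, mul_one] at e
    obtain ⟨c, hc⟩ := hd
    have h2 : Nat.card (Bs : Subgroup G) * s ∣ Nat.card G := by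
      refine dvd_trans ⟨c, ?_⟩ ((card_subgroup_dvd_card (X ⊔ (Bs : Subgroup G))))
      rw [← e, hc]; ring
    apply Bs.not_dvd_index
    rw [← (Bs : Subgroup G).card_mul_index] at h2
    exact Nat.dvd_of_mul_dvd_mul_left Nat.card_pos h2
  obtain ⟨k, hk⟩ := Bs.2.exists_card_eq
  obtain ⟨S, hS, hBS⟩ := exists_invariant_isSylowIn (Bs : Subgroup G) X hBX (by
      rw [hk]; exact ((Fact.out : s.Prime).coprime_iff_not_dvd.mpr hsX).pow_left k)
    (Or.inl (isSolvable_of_isPGroup Bs.2)) r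
  have hArS : IsSylowIn r X (MulAut.conj g • (Ar : Subgroup G)) := by
    refine ⟨hArX, le_antisymm ?_ ?_⟩
    · obtain ⟨j, hj⟩ := (Ar.2.map ((MulAut.conj g).toMonoidHom)).exists_card_eq
      have hcc : Nat.card (MulAut.conj g • (Ar : Subgroup G) : Subgroup G) = r ^ j := hj
      rw [hcc]
      exact Nat.pow_le_pow_right hr.pos ((hr.pow_dvd_iff_le_factorization Nat.card_pos.ne').mp (hcc ▸ card_dvd_of_le hArX))
    · rw [card_conj_smul, Ar.card_eq_multiplicity]
      exact Nat.pow_le_pow_right hr.pos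
        ((Nat.factorization_le_iff_dvd Nat.card_pos.ne' Nat.card_pos.ne').mpr X.card_subgroup_dvd_card r)
  obtain ⟨c, -, rfl⟩ := hArS.exists_conj hS
  rw [← mul_smul, ← map_mul, normalizer_conj_smul] at hBS
  apply hBs1
  refine h.no_normal (le_normalizer : A ≤ normalizer (A : Set G)) h.normalizer_A_ne_top hBs.p_norm (g := (c * g)⁻¹) ?_
  have hle := map_mono (f := (MulAut.conj (c * g)⁻¹).toMonoidHom) hBS
  refine le_trans hle (le_trans (le_of_eq ?_) (h.normalizer_part_le Ar.2 hAr1 hAr.p_norm))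
  show MulAut.conj (c * g)⁻¹ • (MulAut.conj (c * g) • normalizer ((Ar : Subgroup G) : Set G)) = _
  rw [← mul_smul, ← map_mul, inv_mul_cancel, map_one, one_smul]

/-- Commuting elements: `x ∈ A`, `y ∈ B ∩ N(A)`. -/
theorem mem_normalizer_B (h : CE A B) {y : G} (hyB : y ∈ B) (hyA : y ∈ normalizer (A : Set G))
    {q : ℕ} (hq : q.Prime) (hy : orderOf y = q) {x : G} (hxA : x ∈ A) (hxy : x * y = y * x) :
    x ∈ normalizer (B : Set G) := by
  haveI := Fact.mk hq
  suffices hT : A ⊓ centralizer ({y} : Set G) ≤ normalizer (B : Set G) from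
    hT ⟨hxA, mem_centralizer_singleton_iff.mpr hxy⟩
  refine le_of_prime_pow fun x ⟨hxA, hxy⟩ p k hp hk => ?_
  rcases eq_or_ne x 1 with rfl | hx1
  · exact one_mem _
  haveI := Fact.mk hp
  have hk0 : k ≠ 0 := fun e => hx1 (orderOf_eq_one_iff.mp (by rw [hk, e, pow_zero]))
  have hpA : p ∣ Nat.card A := (dvd_pow_self p hk0).trans (hk ▸ orderOf_dvd_natCard A hxA)
  set U := zpowers y
  have hUp : IsPGroup q U := IsPGroup.of_card (n := 1) (by rw [Nat.card_zpowers, hy, pow_one])
  have hU1 : U ≠ ⊥ := fun e => by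
    rw [zpowers_eq_bot] at e
    rw [e, orderOf_one] at hy
    exact hq.ne_one hy.symm
  have hUB : U ≤ B := zpowers_le.mpr hyB
  set L := normalizer (U : Set G)
  have hcomm : ∀ a : G, a * y = y * a → a ∈ L := fun a ha => centralizer_le_normalizer _
    (mem_centralizer_iff.mpr fun w hw => by
      obtain ⟨m, rfl⟩ := mem_zpowers_iff.mp hw
      exact ((Commute.zpow_left (ha.symm : Commute y a) m)).eq)
  have hLf : Prod L (A ⊓ L) (B ⊓ L) := h.normalizer_factor hUB fun a ha hle => hcomm a (by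
    have h1 : a * y * a⁻¹ * y⁻¹ ∈ A ⊓ B := by
      refine ⟨?_, B.mul_mem (hle (conj_mem_conj_smul (mem_zpowers y))) (B.inv_mem hyB)⟩
      rw [show a * y * a⁻¹ * y⁻¹ = a * (y * a⁻¹ * y⁻¹) by group]
      exact A.mul_mem ha ((mem_normalizer_iff.mp hyA _).mp (A.inv_mem ha))
    rw [h.inf_eq_bot, mem_bot] at h1
    calc a * y = (a * y * a⁻¹ * y⁻¹) * (y * a) := by group
      _ = y * a := by rw [h1, one_mul])
  obtain ⟨s, hs, hsB, hsq⟩ := h.symm.exists_other_prime q
  haveI := Fact.mk hs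
  obtain ⟨Qs, Bs, hBs, hBs1⟩ := h.symm.exists_sylow hs hsB
  have hsL : (Bs : Subgroup G) ≤ L := fun b hb => hcomm b (hBs.comm y (hBs.mem_q y hyB (by
    rw [hy]; exact fun hd => hsq ((Nat.prime_dvd_prime_iff_eq hs hq).mp hd))) b hb).eq.symm
  rcases h.two_prime (h.normalizer_ne_top hU1 (h.pgroup_ne_top hUp)) hLf hp hs hpA hsB hBs hBs1 hsL hxA
      (hcomm x (mem_centralizer_singleton_iff.mp hxy)) hk with
    ⟨S, hS1, hSBs, hBS, hxS⟩ | ⟨R, -, hRp, hR1, hBR, -⟩
  · exact h.symm.normalizer_part_le (Bs.2.to_le hSBs) hS1 hBS hxS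
  · exact (h.no_invariant hp hpA hRp hR1 hBs hBs1 hBR).elim

/-- Centralizers of elements of `A ∩ N(B)`. -/
theorem centralizer_le_of_mem (h : CE A B) {a : G} (haA : a ∈ A) (haB : a ∈ normalizer (B : Set G))
    {p : ℕ} (hp : p.Prime) (ha : orderOf a = p) : centralizer ({a} : Set G) ≤ normalizer (A : Set G) := by
  intro g hg
  obtain ⟨u, hu, b, hb, rfl⟩ := h.prod g (mem_top g)
  have hg' : u * b * a = a * (u * b) := mem_centralizer_singleton_iff.mp hg
  have e : b * a * b⁻¹ = u⁻¹ * a * u := by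
    calc b * a * b⁻¹ = u⁻¹ * (u * b * a) * b⁻¹ := by group
      _ = u⁻¹ * (a * (u * b)) * b⁻¹ := by rw [hg']
      _ = u⁻¹ * a * u := by group
  have h1 : b * a * b⁻¹ * a⁻¹ ∈ A ⊓ B := by
    refine ⟨?_, ?_⟩
    · rw [e]; exact A.mul_mem (A.mul_mem (A.mul_mem (A.inv_mem hu) haA) hu) (A.inv_mem haA)
    · rw [show b * a * b⁻¹ * a⁻¹ = b * (a * b⁻¹ * a⁻¹) by group]
      exact B.mul_mem hb ((mem_normalizer_iff.mp haB _).mp (B.inv_mem hb))
  rw [h.inf_eq_bot, mem_bot] at h1
  have hba : b * a = a * b := by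
    calc b * a = (b * a * b⁻¹ * a⁻¹) * (a * b) := by group
      _ = a * b := by rw [h1, one_mul]
  exact mul_mem (le_normalizer hu) (h.symm.mem_normalizer_B haA haB hp ha hb hba)

/-- A centralizer of order prime to `|B|` lies in `A`. -/
theorem centralizer_le_of_coprime (h : CE A B) {x : G} (hxA : x ∈ A) {p : ℕ} (hp : p.Prime)
    (hxo : orderOf x = p) (hcop : (Nat.card (centralizer ({x} : Set G))).Coprime (Nat.card B)) :
    centralizer ({x} : Set G) ≤ A := by
  haveI := Fact.mk hp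
  set X := centralizer ({x} : Set G)
  have hpA : p ∣ Nat.card A := hxo ▸ orderOf_dvd_natCard A hxA
  suffices hcard : Nat.card X ∣ Nat.card (A ⊓ X : Subgroup G) from
    (eq_of_le_of_card_ge (inf_le_right : A ⊓ X ≤ X) (Nat.le_of_dvd Nat.card_pos hcard)).ge.trans inf_le_left
  rw [← Nat.factorization_le_iff_dvd Nat.card_pos.ne' Nat.card_pos.ne']
  intro r
  by_cases hr : r.Prime
  swap
  · simp [Nat.factorization_eq_zero_of_not_prime _ hr]
  by_cases hrX : r ∣ Nat.card X
  swap
  · simp [Nat.factorization_eq_zero_of_not_dvd hrX]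
  haveI := Fact.mk hr
  have hrA : r ∣ Nat.card A := by
    have := hrX.trans X.card_subgroup_dvd_card
    rw [h.card_eq, hr.dvd_mul] at this
    exact this.resolve_right fun hd => hr.ne_one (Nat.eq_one_of_dvd_coprimes hcop hrX hd)
  obtain ⟨Qr, Ar, hAr, hAr1⟩ := h.exists_sylow hr hrA
  by_cases hrp : r = p
  · subst hrp
    have hxP : x ∈ (Ar : Subgroup G) := hAr.mem_p x hxA 1 (by rw [hxo, pow_one])
    set P0 := (Ar : Subgroup G) ⊓ X
    have hP0p : IsPGroup r P0 := Ar.2.to_le inf_le_left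
    obtain ⟨T, hT⟩ := (hP0p.comap_of_injective X.subtype X.subtype_injective).exists_le_sylow
    set T' := (T : Subgroup X).map X.subtype
    have hle : P0 ≤ T' := fun y hy => ⟨⟨y, hy.2⟩, hT hy, rfl⟩
    have heq : T' = P0 := by
      by_contra hne
      have hTp : IsPGroup r T' := T.2.map _
      haveI := hTp.isNilpotent
      have hlt : P0.subgroupOf T' < ⊤ := by
        rw [lt_top_iff_ne_top, Ne, subgroupOf_eq_top]
        exact fun hh => hne (le_antisymm hh hle)
      obtain ⟨n, hn, hnn⟩ := SetLike.exists_of_lt (Group.normalizerCondition_of_isNilpotent (G := T') _ hlt)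
      apply hnn
      obtain ⟨z, hzA, hzo, hzc⟩ := h.exists_central hr hrA
      have hzP : z ∈ P0 := ⟨hAr.mem_p z hzA 1 (by rw [hzo, pow_one]),
        mem_centralizer_singleton_iff.mpr (hzc x hxA)⟩
      have hconj : (n : G) * z * (n : G)⁻¹ ∈ A :=
        hAr.p_le ((mem_normalizer_iff.mp hn ⟨z, hle hzP⟩).mp hzP).1
      have hnN := h.mem_normalizer_of_conj hzA hr hzo hzc hconj
      obtain ⟨j, hj⟩ := IsPGroup.iff_orderOf.mp hTp n
      have hnA := h.mem_A_of_coprime hnN (by
        show (orderOf (n : G)).Coprime _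
        rw [orderOf_coe, hj]
        exact ((hr.coprime_iff_not_dvd).mpr (h.coprime_index hr hrA)).pow_left j)
      exact ⟨hAr.mem_p _ hnA j (show orderOf (n : G) = r ^ j by rw [orderOf_coe, hj]), (map_subtype_le _) n.2⟩
    have hc : r ^ (Nat.card X).factorization r ∣ Nat.card (A ⊓ X : Subgroup G) := by
      rw [← T.card_eq_multiplicity, ← card_map_of_injective X.subtype_injective]
      exact card_dvd_of_le (heq.le.trans (inf_le_inf_right X hAr.p_le))
    exact (hr.pow_dvd_iff_le_factorization Nat.card_pos.ne').mp hc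
  · have hle : (Ar : Subgroup G) ≤ A ⊓ X := le_inf hAr.p_le fun y hy =>
      mem_centralizer_singleton_iff.mpr (hAr.comm x (hAr.mem_q x hxA (by
        rw [hxo]; exact fun hd => hrp ((Nat.prime_dvd_prime_iff_eq hr hp).mp hd))) y hy).eq.symm
    refine le_trans ((Nat.factorization_le_iff_dvd Nat.card_pos.ne' Nat.card_pos.ne').mpr X.card_subgroup_dvd_card r) ?_
    rw [← hr.pow_dvd_iff_le_factorization Nat.card_pos.ne', ← Ar.card_eq_multiplicity]
    exact card_dvd_of_le hle

/-- the odd side -/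
theorem centralizer_le_odd (h : CE A B) (hodd : ¬ 2 ∣ Nat.card B) {x : G} (hxB : x ∈ B) {q : ℕ}
    (hq : q.Prime) (hxo : orderOf x = q) : centralizer ({x} : Set G) ≤ normalizer (B : Set G) := by
  set X := centralizer ({x} : Set G) with hX
  set H := normalizer (B : Set G) with hH
  haveI : Fact q.Prime := ⟨hq⟩
  by_cases hcase : (Nat.card (X ⊓ H : Subgroup G)).Coprime (Nat.card A)
  swap
  · obtain ⟨p, hp, hp1, hp2⟩ := Nat.Prime.not_coprime_iff_dvd.mp hcase
    haveI := Fact.mk hp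
    obtain ⟨a, ha⟩ := exists_prime_orderOf_dvd_card' p hp1
    have haX : (a : G) ∈ X := a.2.1
    have haH : (a : G) ∈ H := a.2.2
    have hao : orderOf (a : G) = p := by rw [orderOf_coe, ha]
    -- move `a` into `A`
    obtain ⟨Q, AP, hAP, -⟩ := h.exists_sylow hp hp2
    have hHf := h.symm.factor_of_le (le_normalizer : B ≤ normalizer (B : Set G))
    haveI := h.nilA
    have hn : Group.IsNilpotent (A ⊓ H : Subgroup G) := by
      haveI : Group.IsNilpotent ((A ⊓ H).subgroupOf A) := inferInstance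
      exact Group.nilpotent_of_mulEquiv (Subgroup.subgroupOfEquivOfLe inf_le_left)
    obtain ⟨Qh, Ph, hPh⟩ := exists_parts hn p
    have hPhH : Ph ≤ H := hPh.p_le.trans inf_le_right
    have hcardH : Nat.card H = Nat.card B * Nat.card (A ⊓ H : Subgroup G) := by
      refine card_prod le_normalizer inf_le_right (fun g hg => ?_)
        (eq_bot_iff.mpr ((inf_comm A B ▸ h.inf_eq_bot) ▸ inf_le_inf_left B inf_le_left))
      obtain ⟨b, hb, a', ha', e⟩ := hHf g hg
      exact ⟨b, hb.1, a', ha', e⟩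
    have hPhS : Nat.card (Ph.subgroupOf H) = p ^ (Nat.card H).factorization p := by
      obtain ⟨k, hk⟩ := hPh.pgroup.exists_card_eq
      rw [card_subgroupOf hPhH, hcardH, hPh.card, Nat.factorization_mul Nat.card_pos.ne'
        (Nat.mul_ne_zero Nat.card_pos.ne' Nat.card_pos.ne'), Nat.factorization_mul Nat.card_pos.ne' Nat.card_pos.ne',
        Finsupp.add_apply, Finsupp.add_apply, Nat.factorization_eq_zero_of_not_dvd hPh.not_dvd,
        Nat.factorization_eq_zero_of_not_dvd (h.coprime_index hp hp2), hk, hp.factorization_pow,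
        Finsupp.single_eq_same, zero_add, zero_add]
    obtain ⟨T, hT⟩ := (IsPGroup.of_card (n := 1) (G := zpowers (⟨(a : G), haH⟩ : H))
      (by rw [Nat.card_zpowers, orderOf_mk, hao, pow_one])).exists_le_sylow
    obtain ⟨c, hc⟩ := MulAction.exists_smul_eq H T (Sylow.ofCard (Ph.subgroupOf H) hPhS)
    have hca : (c : G) * a * (c : G)⁻¹ ∈ Ph := by
      have h1 : c * ⟨(a : G), haH⟩ * c⁻¹ ∈ ((Sylow.ofCard (Ph.subgroupOf H) hPhS : Sylow p H) : Subgroup H) := by
        rw [← hc, Sylow.coe_subgroup_smul]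
        exact ⟨_, hT (mem_zpowers _), rfl⟩
      rw [Sylow.coe_ofCard] at h1
      exact h1
    set a' := (c : G) * a * (c : G)⁻¹
    set x' := (c : G) * x * (c : G)⁻¹
    have ha'A : a' ∈ A ⊓ H := hPh.p_le hca
    have hx'B : x' ∈ B := (mem_normalizer_iff.mp c.2 x).mp hxB
    have hcomm : x' * a' = a' * x' := by
      have e : a.1 * x = x * a.1 := mem_centralizer_singleton_iff.mp haX
      calc x' * a' = (c : G) * (x * a) * (c : G)⁻¹ := by simp only [x', a']; group
        _ = (c : G) * ((a : G) * x) * (c : G)⁻¹ := by rw [e]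
        _ = a' * x' := by simp only [x', a']; group
    have hxN := h.symm.mem_normalizer_B ha'A.1 ha'A.2 hp ((orderOf_conj _ _).trans hao) hx'B hcomm
    have hCx := h.symm.centralizer_le_of_mem hx'B hxN hq ((orderOf_conj _ _).trans hxo)
    intro g hg
    have h2 : (c : G) * g * (c : G)⁻¹ ∈ H := hCx (by
      rw [centralizer_conj]
      simpa [mul_assoc] using hg)
    simpa [mul_assoc] using H.mul_mem (H.mul_mem (H.inv_mem c.2) h2) c.2
  -- otherwise the centralizer is a `σ`-group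
  have hXH : X ⊓ H ≤ B := fun y hy => h.symm.mem_A_of_coprime hy.2 (hcase.coprime_dvd_left (orderOf_dvd_natCard _ hy))
  obtain ⟨s, hs, hsB, hsq⟩ := h.symm.exists_other_prime q
  haveI := Fact.mk hs
  have hs2 : s ≠ 2 := fun e => hodd (e ▸ hsB)
  obtain ⟨Qs, Bs, hBs, hBs1⟩ := h.symm.exists_sylow hs hsB
  have hBX : (Bs : Subgroup G) ≤ X := fun y hy => mem_centralizer_singleton_iff.mpr
    (hBs.comm x (hBs.mem_q x hxB (by rw [hxo]; exact fun hd => hsq ((Nat.prime_dvd_prime_iff_eq hs hq).mp hd))) y hy).eq.symm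
  refine (h.symm.centralizer_le_of_coprime hxB hq hxo ?_).trans le_normalizer
  set P : Sylow s X := Bs.subtype hBX
  set ZJ := Cfsg.centerThompsonOf s (P : Subgroup X)
  have hmap : ZJ.map X.subtype = Cfsg.centerThompsonOf s (Bs : Subgroup G) := by
    show (Cfsg.centerThompsonOf s _).map _ = _
    rw [← Transfer.ZJAb_prime, Transfer.map_ZJAb _ _ X.subtype_injective.injOn, Transfer.ZJAb_prime]
    congr 1
    exact map_subgroupOf_eq_of_le hBX
  set Z' := Cfsg.centerThompsonOf s (Bs : Subgroup G)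
  have hZ'p : IsPGroup s Z' := Bs.2.to_le (by rw [show Z' = _ from (Transfer.ZJAb_prime _).symm]; exact Transfer.ZJAb_le _)
  have hZ'1 : Z' ≠ ⊥ := by
    rw [show Z' = _ from (Transfer.ZJAb_prime _).symm]
    exact Transfer.ZJAb_ne_bot (Or.inr rfl) Bs.2 hBs1
  have hNZ : normalizer (Z' : Set G) ≤ H := by
    refine h.symm.normalizer_part_le hZ'p hZ'1 (hBs.p_norm.trans ?_)
    rw [show Z' = _ from (Transfer.ZJAb_prime _).symm]
    exact Transfer.normalizer_le_normalizer_ZJAb _
  haveI := h.nilB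
  haveI : Group.IsNilpotent (normalizer (ZJ : Set X)) := by
    have hle : (normalizer (ZJ : Set X)).map X.subtype ≤ B := by
      rintro _ ⟨n, hn, rfl⟩
      refine hXH ⟨n.2, hNZ ?_⟩
      rw [← conj_smul_eq_self_iff, ← hmap, Subgroup.coe_subtype,
        show (n : G) = X.subtype n from rfl, ← map_conj_smul, conj_smul_eq_self_iff.mpr hn]
    haveI : Group.IsNilpotent (((normalizer (ZJ : Set X)).map X.subtype).subgroupOf B) := inferInstance
    exact Group.nilpotent_of_mulEquiv ((Subgroup.subgroupOfEquivOfLe hle).trans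
      (equivMapOfInjective _ _ X.subtype_injective).symm)
  obtain ⟨P2, O, hOn, hOc⟩ := (S0117.result hs2 P).mpr (hasNormalPComplement_of_nilpotent s)
  have hOs : ¬ s ∣ Nat.card O := by
    rw [← hOc.index_eq_card]
    exact P2.not_dvd_index
  set O' := O.map X.subtype
  have hO'n : (Bs : Subgroup G) ≤ normalizer (O' : Set G) := fun b hb => conj_le_normalizer_of_le (by
    rintro _ ⟨_, ⟨y, hy, rfl⟩, rfl⟩
    exact ⟨_, hOn.conj_mem y hy ⟨b, hBX hb⟩, rfl⟩)
  obtain ⟨k, hk⟩ := Bs.2.exists_card_eq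
  have hO'c : Nat.card O' = Nat.card O := card_map_of_injective X.subtype_injective
  refine Nat.coprime_of_dvd fun l hl hlX hlA => ?_
  haveI := Fact.mk hl
  have hls : l ≠ s := fun e => h.symm.coprime_index hs hsB (e ▸ hlA)
  obtain ⟨j, hj⟩ := P2.2.exists_card_eq
  have hlO : l ∣ Nat.card O' := by
    rw [hO'c]
    rw [← hOc.card_mul_card, hl.dvd_mul] at hlX
    exact hlX.resolve_right fun hd => hls ((Nat.prime_dvd_prime_iff_eq hl hs).mp (hl.dvd_of_dvd_pow (hj ▸ hd)))
  obtain ⟨S, hS, hBS⟩ := exists_invariant_isSylowIn (Bs : Subgroup G) O' hO'n (by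
      rw [hk, hO'c]; exact (hs.coprime_iff_not_dvd.mpr hOs).pow_left k)
    (Or.inl (isSolvable_of_isPGroup Bs.2)) l
  refine h.no_invariant hl hlA hS.isPGroup (fun e => ?_) hBs hBs1 hBS
  have := hS.2
  rw [e, card_bot] at this
  exact (Nat.one_lt_pow (hl.factorization_pos_of_dvd Nat.card_pos.ne' hlO).ne' hl.one_lt).ne this

/-- the other side -/
theorem centralizer_le_other (h : CE A B)
    (hB : ∀ y ∈ B, (orderOf y).Prime → centralizer ({y} : Set G) ≤ normalizer (B : Set G))
    {x : G} (hxA : x ∈ A) {p : ℕ} (hp : p.Prime) (hxo : orderOf x = p) :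
    centralizer ({x} : Set G) ≤ normalizer (A : Set G) := by
  haveI := Fact.mk hp
  by_cases hcop : (Nat.card (centralizer ({x} : Set G))).Coprime (Nat.card B)
  · exact (h.centralizer_le_of_coprime hxA hp hxo hcop).trans le_normalizer
  obtain ⟨l, hl, hl1, hl2⟩ := Nat.Prime.not_coprime_iff_dvd.mp hcop
  haveI := Fact.mk hl
  obtain ⟨e, he⟩ := exists_prime_orderOf_dvd_card' l hl1
  have heo : orderOf (e : G) = l := by rw [orderOf_coe, he]
  have hpA : p ∣ Nat.card A := hxo ▸ orderOf_dvd_natCard A hxA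
  obtain ⟨Ql, Bl, hBl, -⟩ := h.symm.exists_sylow hl hl2
  obtain ⟨T, hT⟩ := (IsPGroup.of_card (n := 1) (G := zpowers (e : G))
    (by rw [Nat.card_zpowers, heo, pow_one])).exists_le_sylow
  obtain ⟨g, hg⟩ := MulAction.exists_smul_eq G T Bl
  have hgeB : g * e * g⁻¹ ∈ B := hBl.p_le (by
    rw [← hg, Sylow.coe_subgroup_smul]
    exact conj_mem_conj_smul (hT (mem_zpowers _)))
  have hgeo : orderOf (g * e * g⁻¹) = l := (orderOf_conj _ _).trans heo
  have hxH : g * x * g⁻¹ ∈ normalizer (B : Set G) := hB _ hgeB (hgeo.symm ▸ hl) (by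
    rw [centralizer_conj]
    have := mem_centralizer_singleton_iff.mp e.2
    rw [mem_centralizer_singleton_iff, show g⁻¹ * (g * x * g⁻¹) * g = x by group]
    exact this.symm)
  -- move it into `A`
  set H := normalizer (B : Set G)
  haveI := h.nilA
  have hHf := h.symm.factor_of_le (le_normalizer : B ≤ normalizer (B : Set G))
  have hn : Group.IsNilpotent (A ⊓ H : Subgroup G) := by
    haveI : Group.IsNilpotent ((A ⊓ H).subgroupOf A) := inferInstance
    exact Group.nilpotent_of_mulEquiv (Subgroup.subgroupOfEquivOfLe inf_le_left)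
  obtain ⟨Qh, Ph, hPh⟩ := exists_parts hn p
  have hPhH : Ph ≤ H := hPh.p_le.trans inf_le_right
  have hcardH : Nat.card H = Nat.card B * Nat.card (A ⊓ H : Subgroup G) := by
    refine card_prod le_normalizer inf_le_right (fun g hg => ?_)
      (eq_bot_iff.mpr ((inf_comm A B ▸ h.inf_eq_bot) ▸ inf_le_inf_left B inf_le_left))
    obtain ⟨b, hb, a', ha', e⟩ := hHf g hg
    exact ⟨b, hb.1, a', ha', e⟩
  have hPhS : Nat.card (Ph.subgroupOf H) = p ^ (Nat.card H).factorization p := by
    obtain ⟨k, hk⟩ := hPh.pgroup.exists_card_eq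
    rw [card_subgroupOf hPhH, hcardH, hPh.card, Nat.factorization_mul Nat.card_pos.ne'
      (Nat.mul_ne_zero Nat.card_pos.ne' Nat.card_pos.ne'), Nat.factorization_mul Nat.card_pos.ne' Nat.card_pos.ne',
      Finsupp.add_apply, Finsupp.add_apply, Nat.factorization_eq_zero_of_not_dvd hPh.not_dvd,
      Nat.factorization_eq_zero_of_not_dvd (h.coprime_index hp hpA), hk, hp.factorization_pow,
      Finsupp.single_eq_same, zero_add, zero_add]
  set x1 := g * x * g⁻¹
  have hx1o : orderOf x1 = p := (orderOf_conj _ _).trans hxo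
  obtain ⟨T1, hT1⟩ := (IsPGroup.of_card (n := 1) (G := zpowers (⟨x1, hxH⟩ : H))
    (by rw [Nat.card_zpowers, orderOf_mk, hx1o, pow_one])).exists_le_sylow
  obtain ⟨c, hc⟩ := MulAction.exists_smul_eq H T1 (Sylow.ofCard (Ph.subgroupOf H) hPhS)
  have hca : (c : G) * x1 * (c : G)⁻¹ ∈ Ph := by
    have h1 : c * ⟨x1, hxH⟩ * c⁻¹ ∈ ((Sylow.ofCard (Ph.subgroupOf H) hPhS : Sylow p H) : Subgroup H) := by
      rw [← hc, Sylow.coe_subgroup_smul]
      exact ⟨_, hT1 (mem_zpowers _), rfl⟩
    rw [Sylow.coe_ofCard] at h1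
    exact h1
  have hCx := h.centralizer_le_of_mem (hPh.p_le hca).1 (hPh.p_le hca).2 hp ((orderOf_conj _ _).trans hx1o)
  set d := (c : G) * g
  have hd : ∀ y ∈ centralizer ({x} : Set G), d * y * d⁻¹ ∈ normalizer (A : Set G) := fun y hy => hCx (by
    rw [show (c : G) * x1 * (c : G)⁻¹ = d * x * d⁻¹ by simp only [d, x1]; group, centralizer_conj]
    simpa [mul_assoc] using hy)
  obtain ⟨r, hr, hrA, hrp⟩ := h.exists_other_prime p
  haveI := Fact.mk hr
  obtain ⟨Qr, Ar, hAr, hAr1⟩ := h.exists_sylow hr hrA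
  have hdN : d ∈ normalizer ((Ar : Subgroup G) : Set G) := conj_le_normalizer_of_le (by
    rintro _ ⟨y, hy, rfl⟩
    obtain ⟨k, hk⟩ := IsPGroup.iff_orderOf.mp Ar.2 ⟨y, hy⟩
    rw [orderOf_mk] at hk
    have hy' : d * y * d⁻¹ ∈ normalizer (A : Set G) := hd y (mem_centralizer_singleton_iff.mpr
      (hAr.comm x (hAr.mem_q x hxA (by
        rw [hxo]; exact fun hdd => hrp ((Nat.prime_dvd_prime_iff_eq hr hp).mp hdd))) y hy).eq.symm)
    exact hAr.mem_p _ (h.mem_A_of_coprime hy' (by
      show (orderOf (d * y * d⁻¹)).Coprime _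
      rw [orderOf_conj, hk]
      exact ((hr.coprime_iff_not_dvd).mpr (h.coprime_index hr hrA)).pow_left k)) k ((orderOf_conj d y).trans hk))
  have hdA := h.normalizer_part_le Ar.2 hAr1 hAr.p_norm hdN
  intro y hy
  simpa [mul_assoc] using mul_mem (mul_mem (inv_mem hdA) (hd y hy)) hdA

/-- `A` is a TI subgroup with a large orbit. -/
theorem card_lt (h : CE A B)
    (hA : ∀ x ∈ A, (orderOf x).Prime → centralizer ({x} : Set G) ≤ normalizer (A : Set G)) :
    Nat.card A < Nat.card B := by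
  set M := normalizer (A : Set G) with hM
  obtain ⟨g, hg⟩ : ∃ g, g ∉ M := by
    by_contra hc
    push Not at hc
    exact h.normalizer_A_ne_top (eq_top_iff.mpr fun x _ => hc x)
  have hTI : ∀ a ∈ A, g⁻¹ * a * g ∈ M → a = 1 := by
    intro a ha hga
    by_contra ha1
    obtain ⟨m, hm⟩ := exists_pow_prime ha1
    set x := a ^ m
    have hxA : x ∈ A := A.pow_mem ha m
    have hx' : g⁻¹ * x * g ∈ M := by
      have := M.pow_mem hga m
      rwa [show (g⁻¹ * a * g) ^ m = g⁻¹ * x * g from by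
        have e := conj_pow (i := m) (a := g⁻¹) (b := a)
        rwa [inv_inv] at e] at this
    haveI := Fact.mk hm
    have hxA' : g⁻¹ * x * g ∈ A := h.mem_A_of_coprime hx' (by
      have := orderOf_conj g⁻¹ x
      rw [inv_inv] at this
      rw [this]
      exact (h.cop.coprime_dvd_left (orderOf_dvd_natCard A hxA)))
    obtain ⟨z, hzA, hzo, hzc⟩ := h.exists_central hm (orderOf_dvd_natCard A hxA)
    have hcz : g * z * g⁻¹ ∈ centralizer ({x} : Set G) := by
      rw [mem_centralizer_singleton_iff]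
      have e := hzc _ hxA'
      calc g * z * g⁻¹ * x = g * (z * (g⁻¹ * x * g)) * g⁻¹ := by group
        _ = g * (g⁻¹ * x * g * z) * g⁻¹ := by rw [e]
        _ = x * (g * z * g⁻¹) := by group
    have hzM := hA x hxA hm hcz
    have hzA' : g * z * g⁻¹ ∈ A := h.mem_A_of_coprime hzM (by
      rw [orderOf_conj]; exact h.cop.coprime_dvd_left (orderOf_dvd_natCard A hzA))
    exact hg (h.mem_normalizer_of_conj hzA hm hzo hzc hzA')
  have hne : ∀ a : A, (((a : G) * g : G) : G ⧸ M) ≠ ((1 : G) : G ⧸ M) := fun a e => by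
    rw [QuotientGroup.eq, mul_one] at e
    refine hg ?_
    have := M.inv_mem e
    rw [inv_inv] at this
    simpa [mul_assoc] using M.mul_mem (M.inv_mem (le_normalizer a.2)) this
  let f : A → {c : G ⧸ M // c ≠ ((1 : G) : G ⧸ M)} := fun a => ⟨((a : G) * g : G), hne a⟩
  have hinj : Function.Injective f := by
    intro a b e
    have e' := congrArg Subtype.val e
    change (((a : G) * g : G) : G ⧸ M) = (((b : G) * g : G) : G ⧸ M) at e'
    rw [QuotientGroup.eq] at e'
    have := hTI ((a : G)⁻¹ * b) (A.mul_mem (A.inv_mem a.2) b.2) (by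
      rw [show g⁻¹ * ((a : G)⁻¹ * b) * g = ((a : G) * g)⁻¹ * ((b : G) * g) by group]; exact e')
    exact Subtype.ext (inv_mul_eq_one.mp this)
  have h1 := Nat.card_le_card_of_injective f hinj
  have h2 : Nat.card {c : G ⧸ M // c ≠ ((1 : G) : G ⧸ M)} < Nat.card (G ⧸ M) :=
    Finite.card_subtype_lt (x := ((1 : G) : G ⧸ M)) (by simp)
  have h3 : M.index ∣ Nat.card B := by
    refine (index_dvd_of_le (le_normalizer : A ≤ M)).trans (dvd_of_eq ?_)
    refine Nat.eq_of_mul_eq_mul_left (Nat.card_pos (α := A)) ?_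
    rw [A.card_mul_index, h.card_eq]
  have h4 := Nat.le_of_dvd Nat.card_pos h3
  rw [index_eq_card] at h4
  omega

theorem false_of_odd (h : CE A B) (hodd : ¬ 2 ∣ Nat.card B) : False := by
  have hB : ∀ y ∈ B, (orderOf y).Prime → centralizer ({y} : Set G) ≤ normalizer (B : Set G) :=
    fun y hy hp => h.centralizer_le_odd hodd hy hp rfl
  have h1 := h.symm.card_lt hB
  have h2 := h.card_lt fun x hx hp => h.centralizer_le_other hB hx hp rfl
  omega

theorem false (h : CE A B) : False := by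
  by_cases h2 : 2 ∣ Nat.card B
  · exact h.symm.false_of_odd fun hd => h.coprime_index Nat.prime_two hd h2
  · exact h.false_of_odd h2

end CE

end Cfsg.Agent.Basics.KW
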