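import Cfsg.Agent.Lib.Basics.Cores
import Cfsg.Agent.Lib.Basics.SchurZassenhaus
import Cfsg.Agent.Lib.Basics.KWTools
import Cfsg.Agent.Lib.Basics.Tools
import Mathlib

/-!
Groups whose maximal subgroups are `p`-nilpotent or of prime index.
-/

set_option autoImplicit false
set_option linter.unusedSectionVars false
set_option linter.style.haveILetI false

open scoped Pointwise

namespace Cfsg.Agent.Basics.MaxPNilpotent

open Subgroup

universe u

/-- Every chief factor is a `p`-group or a `p'`-group. -/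
def Good (p : ℕ) (G : Type u) [Group G] : Prop :=
  ∀ N M : Subgroup G, N.Normal → M.Normal → N < M →
    (∀ K : Subgroup G, K.Normal → N ≤ K → K ≤ M → K = N ∨ K = M) →
      (∃ k, N.relIndex M = p ^ k) ∨ (N.relIndex M).Coprime p

/-- A normal series of shape `p'`, `p`, `p'`, `p`. -/
def Cls (p : ℕ) (G : Type u) [Group G] : Prop :=
  ∃ A B C : Subgroup G, A.Normal ∧ B.Normal ∧ C.Normal ∧ A ≤ B ∧ B ≤ C ∧
    (∀ x ∈ A, x ^ p = 1 → x = 1) ∧ (∀ x ∈ B, ∃ k, x ^ p ^ k ∈ A) ∧
    (∀ x ∈ C, x ^ p ∈ B → x ∈ B) ∧ ∀ x : G, ∃ k, x ^ p ^ k ∈ C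

/-- Every maximal subgroup is `p`-nilpotent or of prime index. -/
def Hyp (p : ℕ) (G : Type u) [Group G] : Prop :=
  ∀ M : Subgroup G, IsCoatom M → (∃ K : Subgroup G, K ≤ M ∧ M ≤ normalizer (K : Set G) ∧
    ¬ p ∣ Nat.card K ∧ ∀ x ∈ M, ∃ k, x ^ p ^ k ∈ K) ∨ M.index.Prime

variable {G : Type u} [Group G] [Finite G] {p : ℕ} [hp : Fact p.Prime]

theorem good_quot (h : Good p G) (L : Subgroup G) [L.Normal] : Good p (G ⧸ L) := by
  intro N M hN hM hlt hmin
  set π := QuotientGroup.mk' L
  have hs : Function.Surjective π := QuotientGroup.mk'_surjective L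
  have h' := h (N.comap π) (M.comap π) (hN.comap π) (hM.comap π)
    ((comap_lt_comap_of_surjective hs).mpr hlt) fun K hK h1 h2 => by
      have hker : π.ker ≤ K := (comap_mono (f := π) bot_le).trans h1
      have h1' : N ≤ K.map π := by rw [← map_comap_eq_self_of_surjective hs N]; exact map_mono h1
      have h2' : K.map π ≤ M := by rw [← map_comap_eq_self_of_surjective hs M]; exact map_mono h2
      rcases hmin (K.map π) (hK.map π hs) h1' h2' with e | e
      · left; rw [← e, comap_map_eq, sup_eq_left.mpr hker]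
      · right; rw [← e, comap_map_eq, sup_eq_left.mpr hker]
  rwa [relIndex_comap, map_comap_eq_self_of_surjective hs] at h'

theorem good_of_isPSolvable (h : Cfsg.IsPSolvable p G) : Good p G := by
  classical
  obtain ⟨n, H, h0, hl, hmono, hn, hstep⟩ := h
  intro N M hN hM hlt hmin
  have hex : ∃ i : Fin n, M ⊓ H i.castSucc ≤ N ∧ ¬ M ⊓ H i.succ ≤ N := by
    by_contra hcon
    push Not at hcon
    have hall : ∀ i : Fin (n + 1), M ⊓ H i ≤ N := by
      intro i
      induction i using Fin.induction with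
      | zero => rw [h0, inf_bot_eq]; exact bot_le
      | succ i ih => exact hcon i ih
    exact hlt.not_ge (by simpa [hl] using hall (Fin.last n))
  obtain ⟨i, hi1, hi2⟩ := hex
  haveI := hN; haveI := hM; haveI := hn i.succ
  have hsup : N ⊔ (M ⊓ H i.succ) = M :=
    (hmin _ inferInstance le_sup_left (sup_le hlt.le inf_le_left)).resolve_left
      fun e => hi2 (le_sup_right.trans e.le)
  have hd : N.relIndex M ∣ (H i.castSucc).relIndex (H i.succ) := by
    have e : N.relIndex M = N.relIndex (M ⊓ H i.succ) := by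
      conv_lhs => rw [← hsup, relIndex_sup_left]
    rw [e]
    refine (relIndex_dvd_of_le_left (M ⊓ H i.succ) hi1).trans ?_
    have e2 : (M ⊓ H i.castSucc).relIndex (M ⊓ H i.succ) = (H i.castSucc).relIndex (M ⊓ H i.succ) := by
      rw [← inf_relIndex_right, ← inf_relIndex_right (H := H i.castSucc)]
      congr 1
      refine le_antisymm ?_ ?_
      · exact inf_le_inf inf_le_right le_rfl
      · exact le_inf (le_inf (inf_le_right.trans inf_le_left) inf_le_left) inf_le_right
    rw [e2]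
    haveI := hn i.castSucc
    rw [← relIndex_sup_right (H := M ⊓ H i.succ) (K := H i.castSucc)]
    exact ⟨_, (relIndex_mul_relIndex _ _ _ le_sup_right
      (sup_le inf_le_right (hmono (Fin.castSucc_le_succ i)))).symm⟩
  rcases hstep i with ⟨m, hm⟩ | hm
  · rw [hm] at hd
    obtain ⟨k, -, hk⟩ := (Nat.dvd_prime_pow hp.out).mp hd
    exact Or.inl ⟨k, hk⟩
  · exact Or.inr (hm.coprime_dvd_left hd)

theorem good_of_isSolvable [Group.IsSolvable G] : Good p G := by
  intro N M hN hM hlt hmin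
  set π := QuotientGroup.mk' N
  have hs : Function.Surjective π := QuotientGroup.mk'_surjective N
  haveI := hM.map π hs
  have hne : M.map π ≠ ⊥ := fun e => hlt.not_ge (by
    rwa [Subgroup.map_eq_bot_iff, QuotientGroup.ker_mk'] at e)
  obtain ⟨-, q, hq, -, hMq⟩ := minimal_normal_solvable hne inferInstance fun K hK hKM => by
    have h1 : N ≤ K.comap π := (QuotientGroup.ker_mk' N).ge.trans (comap_mono bot_le)
    have h2 : K.comap π ≤ M := by
      refine (comap_mono hKM).trans (le_of_eq ?_)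
      rw [comap_map_eq, QuotientGroup.ker_mk', sup_eq_left.mpr hlt.le]
    have e0 := map_comap_eq_self_of_surjective hs K
    rcases hmin _ (hK.comap π) h1 h2 with e | e
    · left; rw [← e0, e, Subgroup.map_eq_bot_iff, QuotientGroup.ker_mk']
    · right; rw [← e0, e]
  haveI := Fact.mk hq
  obtain ⟨k, hk⟩ := hMq.exists_card_eq
  have e : N.relIndex M = q ^ k := by
    have := relIndex_ker (f := π) (K := M)
    rwa [hk, QuotientGroup.ker_mk'] at this
  by_cases hqp : q = p
  · exact Or.inl ⟨k, hqp ▸ e⟩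
  · exact Or.inr (e ▸ ((Nat.coprime_primes hq hp.out).mpr hqp).pow_left k)

theorem hyp_quot (h : Hyp p G) (L : Subgroup G) [L.Normal] : Hyp p (G ⧸ L) := by
  intro M hM
  set π := QuotientGroup.mk' L
  have hs : Function.Surjective π := QuotientGroup.mk'_surjective L
  have hM' : IsCoatom (M.comap π) := by
    refine ⟨fun e => hM.1 ?_, fun T hT => ?_⟩
    · rw [← map_comap_eq_self_of_surjective hs M, e, map_top_of_surjective _ hs]
    · have hker : π.ker ≤ T := (comap_mono (f := π) bot_le).trans hT.le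
      have e1 : T = (T.map π).comap π := by rw [comap_map_eq, sup_eq_left.mpr hker]
      have h2 : M < T.map π := by
        rw [← comap_lt_comap_of_surjective hs, ← e1]; exact hT
      rw [e1, hM.2 _ h2, comap_top]
  rcases h _ hM' with ⟨K, hKM, hn, hpK, hK⟩ | h
  · refine Or.inl ⟨K.map π, ?_, ?_, fun hd => hpK (hd.trans (K.card_map_dvd π)), ?_⟩
    · rw [← map_comap_eq_self_of_surjective hs M]; exact map_mono hKM
    · rw [← map_comap_eq_self_of_surjective hs M]
      exact (map_mono hn).trans (le_normalizer_map π)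
    · intro x hx
      obtain ⟨g, rfl⟩ := hs x
      obtain ⟨k, hk⟩ := hK g hx
      exact ⟨k, _, hk, map_pow π g _⟩
  · exact Or.inr (by rwa [index_comap_of_surjective _ hs] at h)

theorem eq_one_of_normal_pPrime (hN : ∀ N : Subgroup G, N.Normal → ¬ p ∣ Nat.card N → N = ⊥)
    {A : Subgroup G} (hA : A.Normal) (hAp : ∀ x ∈ A, x ^ p = 1 → x = 1) : A = ⊥ :=
  hN A hA fun hd => by
    obtain ⟨x, hx⟩ := exists_prime_orderOf_dvd_card' p hd
    have h1 : (x : G) = 1 := hAp x x.2 (congrArg Subtype.val (orderOf_dvd_iff_pow_eq_one.mp hx.dvd))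
    rw [show x = 1 from Subtype.ext h1, orderOf_one] at hx
    exact hp.out.ne_one hx.symm

theorem cls_step {n : ℕ}
    (IH : ∀ (H : Type u) [Group H] [Finite H], Nat.card H < n → Good p H → Hyp p H → Cls p H)
    (hn : Nat.card G ≤ n) (hg : Good p G) (hh : Hyp p G) : Cls p G := by
  classical
  rcases subsingleton_or_nontrivial G with hG | hG
  · exact ⟨⊥, ⊥, ⊥, inferInstance, inferInstance, inferInstance, le_rfl, le_rfl,
      fun x _ _ => Subsingleton.elim _ _, fun x _ => ⟨0, by simp [Subsingleton.elim x 1]⟩,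
      fun x hx _ => hx, fun x => ⟨0, by simp [Subsingleton.elim x 1]⟩⟩
  have hq : ∀ L : Subgroup G, ∀ [L.Normal], L ≠ ⊥ → Cls p (G ⧸ L) := fun L _ hL =>
    IH _ (lt_of_lt_of_le (card_quotient_lt hL) hn) (good_quot hg L) (hyp_quot hh L)
  by_cases hsd : ∃ N L : Subgroup G, N.Normal ∧ L.Normal ∧ N ≠ ⊥ ∧ L ≠ ⊥ ∧ N ⊓ L = ⊥
  · obtain ⟨N, L, hNn, hLn, hN, hL, hNL⟩ := hsd
    haveI := hNn; haveI := hLn
    obtain ⟨A1, B1, C1, a1, b1, c1, hab1, hbc1, pA1, pB1, pC1, pG1⟩ := hq N hN
    obtain ⟨A2, B2, C2, a2, b2, c2, hab2, hbc2, pA2, pB2, pC2, pG2⟩ := hq L hL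
    set π1 := QuotientGroup.mk' N
    set π2 := QuotientGroup.mk' L
    refine ⟨A1.comap π1 ⊓ A2.comap π2, B1.comap π1 ⊓ B2.comap π2, C1.comap π1 ⊓ C2.comap π2,
      inferInstance, inferInstance, inferInstance, inf_le_inf (comap_mono hab1) (comap_mono hab2),
      inf_le_inf (comap_mono hbc1) (comap_mono hbc2), ?_, ?_, ?_, ?_⟩
    · intro x hx e
      have h1 := pA1 _ hx.1 (by rw [← map_pow, e, map_one])
      have h2 := pA2 _ hx.2 (by rw [← map_pow, e, map_one])
      have : x ∈ N ⊓ L := ⟨(QuotientGroup.eq_one_iff x).mp h1, (QuotientGroup.eq_one_iff x).mp h2⟩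
      rwa [hNL, mem_bot] at this
    · intro x hx
      obtain ⟨i, hi⟩ := pB1 _ hx.1
      obtain ⟨j, hj⟩ := pB2 _ hx.2
      refine ⟨i + j, ?_, ?_⟩
      · show π1 (x ^ p ^ (i + j)) ∈ A1
        rw [map_pow, pow_add, pow_mul]; exact pow_mem hi _
      · show π2 (x ^ p ^ (i + j)) ∈ A2
        rw [map_pow, pow_add, mul_comm, pow_mul]; exact pow_mem hj _
    · intro x hx e
      exact ⟨pC1 _ hx.1 (by rw [← map_pow]; exact e.1), pC2 _ hx.2 (by rw [← map_pow]; exact e.2)⟩
    · intro x
      obtain ⟨i, hi⟩ := pG1 (π1 x)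
      obtain ⟨j, hj⟩ := pG2 (π2 x)
      refine ⟨i + j, ?_, ?_⟩
      · show π1 (x ^ p ^ (i + j)) ∈ C1
        rw [map_pow, pow_add, pow_mul]; exact pow_mem hi _
      · show π2 (x ^ p ^ (i + j)) ∈ C2
        rw [map_pow, pow_add, mul_comm, pow_mul]; exact pow_mem hj _
  push Not at hsd
  obtain ⟨N, hNn, -, hNne, hmin⟩ := exists_minimal_normal (N := (⊤ : Subgroup G)) top_ne_bot
  haveI := hNn
  obtain ⟨A', B', C', a', b', c', hab, hbc, pA, pB, pC, pG⟩ := hq N hNne
  set π := QuotientGroup.mk' N with hπ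
  have hs : Function.Surjective π := QuotientGroup.mk'_surjective N
  rcases hg ⊥ N inferInstance hNn (bot_lt_iff_ne_bot.mpr hNne) (fun K hK _ h => hmin K hK h) with ⟨k, hk⟩ | hN'
  swap
  · rw [relIndex_bot_left] at hN'
    refine ⟨A'.comap π, B'.comap π, C'.comap π, inferInstance, inferInstance, inferInstance, comap_mono hab,
      comap_mono hbc, fun x hx e => ?_, fun x hx => ?_, fun x hx e => pC _ hx (by rw [← map_pow]; exact e),
      fun x => ?_⟩
    · have hxN : x ∈ N := (QuotientGroup.eq_one_iff x).mp (pA (π x) hx (by rw [← map_pow, e, map_one]))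
      refine orderOf_eq_one_iff.mp (Nat.eq_one_of_dvd_coprimes hN' ?_ (orderOf_dvd_of_pow_eq_one e))
      exact orderOf_mk x hxN ▸ orderOf_dvd_natCard (⟨x, hxN⟩ : N)
    · obtain ⟨i, hi⟩ := pB _ hx; exact ⟨i, show π _ ∈ A' by rwa [map_pow]⟩
    · obtain ⟨i, hi⟩ := pG (π x); exact ⟨i, show π _ ∈ C' by rwa [map_pow]⟩
  rw [relIndex_bot_left] at hk
  have hNp : IsPGroup p N := IsPGroup.of_card hk
  haveI : Group.IsNilpotent N := hNp.isNilpotent
  have hNs : Group.IsSolvable N := inferInstance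
  obtain ⟨hNab, -⟩ := minimal_normal_solvable hNne hNs hmin
  have hcore : ∀ L : Subgroup G, L.Normal → ¬ p ∣ Nat.card L → L = ⊥ := by
    intro L hL hLp
    by_contra hne
    refine hne (eq_bot_iff.mpr ?_)
    exfalso
    refine hsd N L hNn hL hNne hne (disjoint_iff.mp (disjoint_of_coprime_natCard ?_))
    rw [hk]; exact (hp.out.coprime_iff_not_dvd.mpr hLp).pow_left k
  by_cases hF : ∀ M : Subgroup G, IsCoatom M → N ≤ M
  · -- Frattini case
    have hA'bot : A' = ⊥ := by
      set A := A'.comap π with hA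
      have hNA : N ≤ A := (QuotientGroup.ker_mk' N).ge.trans (comap_mono bot_le)
      have hcop : (Nat.card N).Coprime ((N.subgroupOf A).index) := by
        rw [hk]
        refine Nat.Coprime.pow_left _ (hp.out.coprime_iff_not_dvd.mpr fun hd => ?_)
        have e : (N.subgroupOf A).index = Nat.card A' := by
          have := relIndex_ker (f := π) (K := A)
          rwa [hA, map_comap_eq_self_of_surjective hs, hπ, QuotientGroup.ker_mk'] at this
        rw [e] at hd
        obtain ⟨x, hx⟩ := exists_prime_orderOf_dvd_card' p hd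
        have h1 := pA (x : G ⧸ N) x.2 (congrArg Subtype.val (orderOf_dvd_iff_pow_eq_one.mp hx.dvd))
        rw [show x = 1 from Subtype.ext h1, orderOf_one] at hx
        exact hp.out.ne_one hx.symm
      obtain ⟨U0, hU0⟩ := exists_right_complement'_of_coprime (N := N.subgroupOf A)
        (by rwa [card_subgroupOf hNA])
      set U := U0.map A.subtype with hU
      have hUA : U ≤ A := map_subtype_le _
      have hsup : N ⊔ U = A := by
        have := congrArg (Subgroup.map A.subtype) hU0.sup_eq_top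
        rwa [Subgroup.map_sup, map_subgroupOf_eq_of_le hNA, ← MonoidHom.range_eq_map, Subgroup.range_subtype] at this
      have hUc : (Nat.card N).Coprime (Nat.card U) := by
        rw [hU, card_map_of_injective A.subtype_injective, ← hU0.symm.index_eq_card]; exact hcop
      have hfr : N ⊔ normalizer (U : Set G) = ⊤ := by
        rw [eq_top_iff]
        intro g _
        have hgA : MulAut.conj g • U ≤ N ⊔ U := by
          rw [hsup, ← Normal.conj_smul_eq_self g A]
          exact pointwise_smul_le_pointwise_smul_iff.mpr hUA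
        obtain ⟨m, hm, e⟩ := exists_conj_eq_of_coprime N U (MulAut.conj g • U) le_normalizer_of_normal hUc hgA
          (card_conj_smul g U) (Or.inl hNs)
        have hn' : m⁻¹ * g ∈ normalizer (U : Set G) := by
          rw [← conj_smul_eq_self_iff, map_mul, mul_smul, ← e, ← mul_smul, ← map_mul, inv_mul_cancel, map_one, one_smul]
        have := mul_mem (mem_sup_left (T := normalizer (U : Set G)) hm) (mem_sup_right (S := N) hn')
        rwa [mul_inv_cancel_left] at this
      have hUn : U.Normal := by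
        rw [← normalizer_eq_top_iff]
        by_contra hne
        obtain ⟨M, hM, hUM⟩ := (eq_top_or_exists_le_coatom _).resolve_left hne
        exact hM.1 (top_le_iff.mp (hfr.ge.trans (sup_le (hF M hM) hUM)))
      have hU1 : U = ⊥ := hcore U hUn fun hd => by
        rcases eq_or_ne k 0 with rfl | hk0
        · exact hNne (card_eq_one.mp (by rw [hk, pow_zero]))
        · exact hp.out.ne_one (Nat.eq_one_of_dvd_coprimes hUc (hk ▸ dvd_pow_self p hk0) hd)
      rw [← map_comap_eq_self_of_surjective hs A', ← hA, ← hsup, hU1, sup_bot_eq, Subgroup.map_eq_bot_iff,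
        hπ, QuotientGroup.ker_mk']
    refine ⟨⊥, B'.comap π, C'.comap π, inferInstance, inferInstance, inferInstance, bot_le,
      comap_mono hbc, fun x hx _ => mem_bot.mp hx, fun x hx => ?_,
      fun x hx e => pC _ hx (by rw [← map_pow]; exact e),
      fun x => ?_⟩
    · obtain ⟨i, hi⟩ := pB _ hx
      rw [hA'bot, mem_bot, ← map_pow] at hi
      obtain ⟨j, hj⟩ := hNp ⟨_, (QuotientGroup.eq_one_iff _).mp hi⟩
      refine ⟨i + j, mem_bot.mpr ?_⟩
      rw [pow_add, pow_mul]
      exact congrArg Subtype.val hj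
    · obtain ⟨i, hi⟩ := pG (π x); exact ⟨i, show π _ ∈ C' by rwa [map_pow]⟩
  push Not at hF
  obtain ⟨M, hM, hNM⟩ := hF
  have hsup : N ⊔ M = ⊤ := hM.2 _ (lt_of_le_of_ne le_sup_right fun e => hNM (le_sup_left.trans e.ge))
  have hmem : ∀ x : G, ∃ a ∈ N, ∃ m ∈ M, x = a * m := fun x => by
    have hx : x ∈ N ⊔ M := by rw [hsup]; exact mem_top x
    rw [mem_sup_of_normal_left] at hx
    obtain ⟨a, ha, m, hm, e⟩ := hx
    exact ⟨a, ha, m, hm, e.symm⟩
  have hcN : ∀ a ∈ N, ∀ b ∈ N, a * b = b * a := fun a ha b hb =>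
    congrArg Subtype.val (hNab.is_comm.comm ⟨a, ha⟩ ⟨b, hb⟩)
  have hcard : Nat.card N = M.index := by
    have hd : (N ⊓ M).Normal := by
      rw [← normalizer_eq_top_iff, eq_top_iff, ← hsup]
      refine sup_le (fun a ha => mem_normalizer_iff.mpr fun y => ?_) fun m hm => mem_normalizer_iff.mpr fun y => ?_
      · constructor
        · intro hy; rw [hcN a ha y hy.1, mul_inv_cancel_right]; exact hy
        · intro hy
          have hyN : y ∈ N := by
            have := hNn.conj_mem _ hy.1 a⁻¹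
            rwa [inv_inv, show a⁻¹ * (a * y * a⁻¹) * a = y by group] at this
          rwa [hcN a ha y hyN, mul_inv_cancel_right] at hy
      · constructor
        · intro hy; exact ⟨hNn.conj_mem y hy.1 m, M.mul_mem (M.mul_mem hm hy.2) (M.inv_mem hm)⟩
        · intro hy
          have h1 := hNn.conj_mem _ hy.1 m⁻¹
          have h2 := M.mul_mem (M.mul_mem (M.inv_mem hm) hy.2) hm
          rw [inv_inv] at h1
          rw [show m⁻¹ * (m * y * m⁻¹) * m = y by group] at h1 h2
          exact ⟨h1, h2⟩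
    have hbot : N ⊓ M = ⊥ := (hmin _ hd inf_le_left).resolve_right fun e => hNM (e.ge.trans inf_le_right)
    have e := card_mul_card_eq_card_sup_mul_card_inf (le_normalizer_of_normal : M ≤ normalizer (N : Set G))
    rw [hsup, hbot, card_top, card_bot, mul_one, ← M.card_mul_index] at e
    exact (Nat.eq_of_mul_eq_mul_left Nat.card_pos (by linarith : Nat.card M * Nat.card N = Nat.card M * M.index))
  obtain ⟨K, hKM, hKn, hKp, hK⟩ : ∃ K : Subgroup G, K ≤ M ∧ M ≤ normalizer (K : Set G) ∧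
      ¬ p ∣ Nat.card K ∧ ∀ x ∈ M, ∃ k, x ^ p ^ k ∈ K := by
    rcases hh M hM with h | h
    · exact h
    -- prime index: `M` acts faithfully on a cyclic group, hence is commutative
    haveI : Fact M.index.Prime := ⟨h⟩
    haveI : IsCyclic N := isCyclic_of_prime_card (p := M.index) hcard
    obtain ⟨g, hgen⟩ := IsCyclic.exists_generator (α := N)
    have hCbot : M ⊓ centralizer (N : Set G) = ⊥ := by
      by_contra hne
      have hCn : (M ⊓ centralizer (N : Set G)).Normal := by
        refine ⟨fun y hy x => ?_⟩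
        obtain ⟨a, ha, m, hm, rfl⟩ := hmem x
        have h1 : m * y * m⁻¹ ∈ centralizer (N : Set G) :=
          (inferInstance : (centralizer (N : Set G)).Normal).conj_mem y hy.2 m
        have h2 : a * (m * y * m⁻¹) * a⁻¹ = m * y * m⁻¹ := by
          rw [mem_centralizer_iff.mp h1 a ha, mul_inv_cancel_right]
        rw [show a * m * y * (a * m)⁻¹ = a * (m * y * m⁻¹) * a⁻¹ by group, h2]
        exact ⟨M.mul_mem (M.mul_mem hm hy.1) (M.inv_mem hm), h1⟩
      refine hsd N _ hNn hCn hNne hne ((hmin _ inferInstance inf_le_left).resolve_right fun e => hNM ?_)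
      exact e.ge.trans (inf_le_right.trans inf_le_left)
    have hcomm : ∀ x ∈ M, ∀ y ∈ M, x * y = y * x := by
      intro x hx y hy
      have hpw : ∀ z : G, ∃ i : ℤ, z * g * z⁻¹ = (g : G) ^ i := fun z => by
        obtain ⟨i, hi⟩ := mem_zpowers_iff.mp (hgen ⟨_, hNn.conj_mem g g.2 z⟩)
        exact ⟨i, by simpa using (congrArg Subtype.val hi).symm⟩
      obtain ⟨i, hi⟩ := hpw x
      obtain ⟨j, hj⟩ := hpw y
      have hcom : (x * y) * g * (x * y)⁻¹ = (y * x) * g * (y * x)⁻¹ := by
        calc x * y * g * (x * y)⁻¹ = x * (y * g * y⁻¹) * x⁻¹ := by group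
          _ = ((g : G) ^ i) ^ j := by rw [hj, ← conj_zpow, hi]
          _ = ((g : G) ^ j) ^ i := by rw [← zpow_mul, mul_comm, zpow_mul]
          _ = y * (x * g * x⁻¹) * y⁻¹ := by rw [← hj, conj_zpow, hi]
          _ = y * x * g * (y * x)⁻¹ := by group
      have hc : (y * x)⁻¹ * (x * y) ∈ M ⊓ centralizer (N : Set G) := by
        refine ⟨M.mul_mem (M.inv_mem (M.mul_mem hy hx)) (M.mul_mem hx hy), mem_centralizer_iff.mpr fun z hz => ?_⟩
        obtain ⟨i, hi⟩ := mem_zpowers_iff.mp (hgen ⟨z, hz⟩)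
        have hz' : (g : G) ^ i = z := by simpa using congrArg Subtype.val hi
        rw [← hz']
        refine ((Commute.zpow_left ?_ i).eq)
        show (g : G) * ((y * x)⁻¹ * (x * y)) = (y * x)⁻¹ * (x * y) * g
        symm
        calc (y * x)⁻¹ * (x * y) * g = (y * x)⁻¹ * (x * y * g * (x * y)⁻¹) * (x * y) := by group
          _ = (y * x)⁻¹ * (y * x * g * (y * x)⁻¹) * (x * y) := by rw [hcom]
          _ = g * ((y * x)⁻¹ * (x * y)) := by group
      rw [hCbot, mem_bot, inv_mul_eq_one] at hc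
      exact hc.symm
    haveI : IsMulCommutative M := ⟨⟨fun a b => Subtype.ext (hcomm a a.2 b b.2)⟩⟩
    obtain ⟨Q, P, hQP⟩ := KW.exists_parts (C := M) (isNilpotent_of_commutator_le (M := M) (D := ⊥)
      (commutator_self_eq_bot_iff.mpr inferInstance).le fun a _ => mem_centralizer_iff.mpr fun x hx => by
        rw [mem_bot.mp hx, one_mul, mul_one]) p
    refine ⟨Q, hQP.q_le, hQP.q_norm, hQP.not_dvd, fun x hx => ?_⟩
    rw [← hQP.sup, mem_sup_of_le_normalizer (hQP.p_le.trans hQP.q_norm)] at hx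
    obtain ⟨q, hq', y, hy, rfl⟩ := hx
    obtain ⟨i, hi⟩ := hQP.pgroup ⟨y, hy⟩
    refine ⟨i, ?_⟩
    rw [(hQP.comm q hq' y hy).mul_pow, show y ^ p ^ i = 1 from congrArg Subtype.val hi, mul_one]
    exact pow_mem hq' _
  have hNK : (N ⊔ K).Normal := by
    rw [← normalizer_eq_top_iff, eq_top_iff, ← hsup]
    refine sup_le (le_sup_left.trans le_normalizer) fun m hm => ?_
    refine conj_smul_eq_self_iff.mp ?_
    rw [Subgroup.smul_sup, Normal.conj_smul_eq_self, conj_smul_eq_self_iff.mpr (hKn hm)]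
  refine ⟨⊥, N, N ⊔ K, inferInstance, hNn, hNK, bot_le, le_sup_left, fun x hx _ => mem_bot.mp hx,
    fun x hx => ?_, fun x hx e => ?_, fun x => ?_⟩
  · obtain ⟨i, hi⟩ := hNp ⟨x, hx⟩
    exact ⟨i, mem_bot.mpr (congrArg Subtype.val hi)⟩
  · rw [mem_sup_of_normal_left] at hx
    obtain ⟨a, ha, m, hm, rfl⟩ := hx
    have e1 : π m ^ p = 1 := by
      have := (QuotientGroup.eq_one_iff _).mpr e
      rw [← QuotientGroup.mk'_apply, ← hπ, map_pow, map_mul, show π a = 1 from (QuotientGroup.eq_one_iff a).mpr ha,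
        one_mul] at this
      exact this
    have h1 : orderOf (π m) = 1 := Nat.eq_one_of_dvd_coprimes
      (hp.out.coprime_iff_not_dvd.mpr hKp) (orderOf_dvd_of_pow_eq_one e1)
      ((orderOf_map_dvd π m).trans (orderOf_mk m hm ▸ orderOf_dvd_natCard (⟨m, hm⟩ : K)))
    exact N.mul_mem ha ((QuotientGroup.eq_one_iff m).mp (orderOf_eq_one_iff.mp h1))
  · obtain ⟨a, ha, m, hm, rfl⟩ := hmem x
    obtain ⟨i, hi⟩ := hK m hm
    refine ⟨i, ?_⟩
    have : π ((a * m) ^ p ^ i) ∈ K.map π := by
      rw [map_pow, map_mul, show π a = 1 from (QuotientGroup.eq_one_iff a).mpr ha, one_mul, ← map_pow]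
      exact mem_map_of_mem _ hi
    have := mem_comap.mpr this
    rwa [comap_map_eq, hπ, QuotientGroup.ker_mk', sup_comm] at this

theorem cls : ∀ (n : ℕ) (G : Type u) [Group G] [Finite G], Nat.card G < n → Good p G → Hyp p G → Cls p G
  | 0 => fun _ _ _ h => absurd h (Nat.not_lt_zero _)
  | n + 1 => fun _ _ _ h hg hh => cls_step (fun H _ _ => cls n H) (Nat.lt_succ_iff.mp h) hg hh

theorem hyp_of_template (hmax : ∀ M : Subgroup G, IsCoatom M →
    (∃ K : Subgroup M, K.Normal ∧ ¬ p ∣ Nat.card K ∧ ∃ k : ℕ, K.index = p ^ k) ∨ (M.index).Prime) :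
    Hyp p G := fun M hM => (hmax M hM).imp_left fun ⟨K, hKn, hKp, k, hk⟩ => by
  refine ⟨K.map M.subtype, map_subtype_le _, fun m hm => KW.conj_le_normalizer_of_le ?_,
    by rwa [card_map_of_injective M.subtype_injective], fun x hx => ⟨k, ?_⟩⟩
  · rintro _ ⟨_, ⟨y, hy, rfl⟩, rfl⟩
    exact ⟨_, hKn.conj_mem y hy ⟨m, hm⟩, rfl⟩
  · exact ⟨_, hk ▸ pow_index_mem K (⟨x, hx⟩ : M), rfl⟩

theorem quot_props {A B : Subgroup G} [A.Normal] (hB : ∀ x ∈ B, ∃ k, x ^ p ^ k ∈ A) :
    ∃ k, A.relIndex B = p ^ k := by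
  have e := relIndex_ker (f := QuotientGroup.mk' A) (K := B)
  rw [QuotientGroup.ker_mk'] at e
  have : IsPGroup p (B.map (QuotientGroup.mk' A)) := by
    rintro ⟨_, x, hx, rfl⟩
    obtain ⟨k, hk⟩ := hB x hx
    exact ⟨k, Subtype.ext (by
      show (QuotientGroup.mk' A x) ^ p ^ k = 1
      rw [← map_pow]; exact (QuotientGroup.eq_one_iff _).mpr hk)⟩
  rw [e]
  exact this.exists_card_eq

theorem quot_props' {B C : Subgroup G} [B.Normal] (hC : ∀ x ∈ C, x ^ p ∈ B → x ∈ B) :
    ¬ p ∣ B.relIndex C := by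
  intro hd
  have e := relIndex_ker (f := QuotientGroup.mk' B) (K := C)
  rw [QuotientGroup.ker_mk'] at e
  rw [e] at hd
  obtain ⟨⟨_, x, hx, rfl⟩, ho⟩ := exists_prime_orderOf_dvd_card' p hd
  have h1 : (QuotientGroup.mk' B x) ^ p = 1 :=
    congrArg Subtype.val (orderOf_dvd_iff_pow_eq_one.mp ho.dvd)
  rw [← map_pow] at h1
  have h2 : QuotientGroup.mk' B x = 1 :=
    (QuotientGroup.eq_one_iff x).mpr (hC x hx ((QuotientGroup.eq_one_iff _).mp h1))
  have ho' : orderOf (QuotientGroup.mk' B x) = p := (orderOf_mk _ _).symm.trans ho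
  rw [h2, orderOf_one] at ho'
  exact hp.out.ne_one ho'.symm

theorem series_of_hyp (hg : Good p G) (hh : Hyp p G) :
    ∃ A B C : Subgroup G, A.Normal ∧ B.Normal ∧ C.Normal ∧ A ≤ B ∧ B ≤ C ∧ ¬ p ∣ Nat.card A ∧
      (∃ k, A.relIndex B = p ^ k) ∧ ¬ p ∣ B.relIndex C ∧ ∃ k, C.index = p ^ k := by
  obtain ⟨A, B, C, hA, hB, hC, hab, hbc, pA, pB, pC, pG⟩ := cls _ G (Nat.lt_succ_self _) hg hh
  refine ⟨A, B, C, hA, hB, hC, hab, hbc, fun hd => ?_, quot_props pB, quot_props' pC, ?_⟩
  · obtain ⟨x, hx⟩ := exists_prime_orderOf_dvd_card' p hd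
    have h1 : (x : G) = 1 := pA x x.2 (congrArg Subtype.val (orderOf_dvd_iff_pow_eq_one.mp hx.dvd))
    rw [show x = 1 from Subtype.ext h1, orderOf_one] at hx
    exact hp.out.ne_one hx.symm
  · obtain ⟨k, hk⟩ := quot_props (A := C) (B := ⊤) fun x _ => pG x
    exact ⟨k, by rwa [relIndex_top_right] at hk⟩

end Cfsg.Agent.Basics.MaxPNilpotent
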