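import Cfsg.Agent.Lib.Basics.KegelWielandt
import Cfsg.Agent.Lib.LocalEvenB.Basic
import Mathlib

/-!
A product of two nilpotent proper subgroups has a proper normal subgroup containing a factor.
-/

set_option autoImplicit false
set_option linter.unusedSectionVars false
set_option linter.style.haveILetI false

open scoped Pointwise

namespace Cfsg.Agent.Basics.KW

open Subgroup

universe u

theorem normal_of_nilpotent_coatom {G : Type*} [Group G] [Finite G] [Group.IsNilpotent G]
    {A : Subgroup G} (hA : A ≠ ⊤) : ∃ N : Subgroup G, N.Normal ∧ N ≠ ⊤ ∧ A ≤ N := by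
  obtain ⟨N, hN, hAN⟩ := (eq_top_or_exists_le_coatom A).resolve_left hA
  exact ⟨N, ((Group.isNilpotent_of_finite_tfae (G := G)).out 0 2 rfl rfl).mp inferInstance N hN, hN.1, hAN⟩

theorem normal_factor_step {n : ℕ} {G : Type u} [Group G] [Finite G]
    (IH : ∀ (H : Type u) [Group H] [Finite H], Nat.card H < n → ∀ A B : Subgroup H,
      Group.IsNilpotent A → Group.IsNilpotent B → Prod ⊤ A B → (A ≠ ⊤ ∨ B ≠ ⊤) →
      ∃ N : Subgroup H, N.Normal ∧ N ≠ ⊤ ∧ (A ≤ N ∨ B ≤ N))
    (hn : Nat.card G ≤ n) (A B : Subgroup G)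
    (hA : Group.IsNilpotent A) (hB : Group.IsNilpotent B) (hAB : Prod ⊤ A B) (hne : A ≠ ⊤ ∨ B ≠ ⊤) :
    ∃ N : Subgroup G, N.Normal ∧ N ≠ ⊤ ∧ (A ≤ N ∨ B ≤ N) := by
  classical
  by_cases hG : Group.IsNilpotent G
  · rcases hne with h | h
    · obtain ⟨N, h1, h2, h3⟩ := normal_of_nilpotent_coatom h
      exact ⟨N, h1, h2, Or.inl h3⟩
    · obtain ⟨N, h1, h2, h3⟩ := normal_of_nilpotent_coatom h
      exact ⟨N, h1, h2, Or.inr h3⟩
  have htop : ∀ X : Subgroup G, Group.IsNilpotent X → X ≠ ⊤ := by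
    rintro X hX rfl
    exact hG (Group.nilpotent_of_mulEquiv (topEquiv : (⊤ : Subgroup G) ≃* G))
  by_cases hM : ∃ M : Subgroup G, M.Normal ∧ M ≠ ⊥ ∧ (A ⊔ M ≠ ⊤ ∨ B ⊔ M ≠ ⊤)
  · obtain ⟨M, hMn, hMne, hor⟩ := hM
    haveI := hMn
    set π := QuotientGroup.mk' M with hπ
    have hmap : ∀ X : Subgroup G, X ⊔ M ≠ ⊤ → X.map π ≠ ⊤ := fun X h e => h (by
      have := congrArg (comap π) e
      rwa [comap_map_eq, hπ, QuotientGroup.ker_mk', comap_top] at this)
    obtain ⟨N, hN, hNt, hle⟩ := IH (G ⧸ M) (lt_of_lt_of_le (card_quotient_lt hMne) hn) (A.map π) (B.map π)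
      (nilpotent_map _ hA) (nilpotent_map _ hB) (fun g _ => by
        obtain ⟨g, rfl⟩ := QuotientGroup.mk'_surjective M g
        obtain ⟨a, ha, b, hb, rfl⟩ := hAB g (mem_top g)
        exact ⟨_, mem_map_of_mem _ ha, _, mem_map_of_mem _ hb, map_mul _ a b⟩)
      (hor.imp (hmap A) (hmap B))
    refine ⟨N.comap π, hN.comap π, fun e => hNt ?_, hle.imp (fun h => ?_) fun h => ?_⟩
    · rw [← map_comap_eq_self_of_surjective (QuotientGroup.mk'_surjective M) N, e,
        map_top_of_surjective _ (QuotientGroup.mk'_surjective M)]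
    · exact map_le_iff_le_comap.mp h
    · exact map_le_iff_le_comap.mp h
  · exfalso
    push Not at hM
    haveI : Group.IsSolvable G := isSolvable_of_product A B hA hB fun g => hAB g (mem_top g)
    haveI : Nontrivial G := by
      by_contra h
      haveI := not_nontrivial_iff_subsingleton.mp h
      exact hG inferInstance
    obtain ⟨M, hMn, -, hMne, hmin⟩ := exists_minimal_normal (N := (⊤ : Subgroup G)) top_ne_bot
    haveI := hMn
    obtain ⟨hab, p, hp, -, hMp⟩ := minimal_normal_solvable hMne inferInstance hmin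
    haveI := Fact.mk hp
    have hMc : ∀ x ∈ M, ∀ y ∈ M, x * y = y * x := fun x hx y hy =>
      congrArg Subtype.val (hab.is_comm.comm ⟨x, hx⟩ ⟨y, hy⟩)
    have hnor : ∀ (X K : Subgroup G), X ⊔ M = ⊤ → X ≤ normalizer (K : Set G) →
        (∀ x ∈ M, ∀ y ∈ K, x * y = y * x) → K.Normal := fun X K hX hK hc =>
      normalizer_eq_top_iff.mp (top_le_iff.mp (hX.ge.trans (sup_le hK fun x hx => by
        refine mem_normalizer_iff.mpr fun y => ⟨fun hy => by rw [hc x hx y hy, mul_inv_cancel_right]; exact hy,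
          fun hy => ?_⟩
        have := hc x hx _ hy
        rw [show x * y * x⁻¹ * x = x * y by group] at this
        rwa [mul_left_cancel this] at hy)))
    have hinf : ∀ X : Subgroup G, Group.IsNilpotent X → X ⊔ M = ⊤ → X ⊓ M = ⊥ := by
      intro X hX hXM
      haveI : (X ⊓ M).Normal := hnor X _ hXM
        (fun a ha => mem_normalizer_iff.mpr fun y => ⟨fun hy => ⟨X.mul_mem (X.mul_mem ha hy.1) (X.inv_mem ha),
            hMn.conj_mem y hy.2 a⟩, fun hy => by
          have h1 := mul_mem (mul_mem (inv_mem ha) hy.1) ha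
          have h2 := hMn.conj_mem _ hy.2 a⁻¹
          rw [inv_inv] at h2
          rw [show a⁻¹ * (a * y * a⁻¹) * a = y by group] at h1 h2
          exact ⟨h1, h2⟩⟩)
        fun x hx y hy => hMc x hx y hy.2
      refine (hmin _ inferInstance inf_le_right).resolve_right fun e => htop X hX ?_
      rwa [sup_eq_left.mpr (inf_eq_right.mp e)] at hXM
    obtain ⟨hAM, hBM⟩ := hM M hMn hMne
    have hcard : ∀ X : Subgroup G, Group.IsNilpotent X → X ⊔ M = ⊤ →
        Nat.card X * Nat.card M = Nat.card G := by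
      intro X hX hXM
      have e := card_mul_card_eq_card_sup_mul_card_inf
        (le_normalizer_of_normal : X ≤ normalizer (M : Set G))
      rw [sup_comm, hXM, inf_comm, hinf X hX hXM, card_top, card_bot, mul_one] at e
      rw [← e, mul_comm]
    obtain ⟨Q0, P0, hP0⟩ := exists_parts hA p
    have hcent : ∀ x ∈ M, ∀ y ∈ P0, x * y = y * x := by
      haveI hCn : (M ⊓ centralizer (P0 : Set G)).Normal := by
        refine hnor A _ hAM (fun a ha => mem_normalizer_iff.mpr fun y => ?_) fun x hx y hy => hMc x hx y hy.1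
        have hc : ∀ {a : G}, a ∈ A → ∀ {y : G}, y ∈ M ⊓ centralizer (P0 : Set G) →
            a * y * a⁻¹ ∈ M ⊓ centralizer (P0 : Set G) := by
          intro a ha y hy
          refine ⟨hMn.conj_mem y hy.1 a, mem_centralizer_iff.mpr fun z hz => ?_⟩
          have h1 : a⁻¹ * z * a ∈ P0 := by
            have := (mem_normalizer_iff.mp (hP0.p_norm (inv_mem ha)) z).mp hz
            rwa [inv_inv] at this
          have h2 := mem_centralizer_iff.mp hy.2 _ h1
          calc z * (a * y * a⁻¹) = a * (a⁻¹ * z * a * y) * a⁻¹ := by group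
            _ = a * (y * (a⁻¹ * z * a)) * a⁻¹ := by rw [h2]
            _ = a * y * a⁻¹ * z := by group
        refine ⟨fun hy => hc ha hy, fun hy => ?_⟩
        have := hc (inv_mem ha) hy
        rwa [inv_inv, show a⁻¹ * (a * y * a⁻¹) * a = y by group] at this
      rcases hmin _ hCn inf_le_left with h | h
      · exfalso
        haveI := (hMp.to_sup_of_normal_left hP0.pgroup : IsPGroup p (M ⊔ P0 : Subgroup G)).isNilpotent
        obtain ⟨z, hz1, hz2, hz3⟩ := LocalEvenB.exists_mem_center_ne_one (M.subgroupOf (M ⊔ P0)) (by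
          rw [Ne, subgroupOf_eq_bot, disjoint_iff, inf_eq_left.mpr le_sup_left]; exact hMne)
        have : (z : G) ∈ M ⊓ centralizer (P0 : Set G) := ⟨hz1, mem_centralizer_iff.mpr fun y hy =>
          congrArg Subtype.val (mem_center_iff.mp hz2 ⟨y, mem_sup_right hy⟩)⟩
        rw [h, mem_bot] at this
        exact hz3 (Subtype.ext this)
      · exact fun x hx y hy => (mem_centralizer_iff.mp (h.ge hx).2 y hy).symm
    have hP0n : P0.Normal := hnor A P0 hAM hP0.p_norm hcent
    have hP0bot : P0 = ⊥ := by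
      by_contra h
      have := (hM P0 hP0n h).1
      rw [sup_eq_left.mpr hP0.p_le] at this
      exact htop A hA this
    have hcop : (Nat.card A).Coprime A.index := by
      have hi : A.index = Nat.card M :=
        Nat.eq_of_mul_eq_mul_left (Nat.card_pos (α := A)) (by rw [A.card_mul_index, hcard A hA hAM])
      obtain ⟨k, hk⟩ := hMp.exists_card_eq
      rw [hi, hk, hP0.card, hP0bot, card_bot, mul_one]
      exact (((hp.coprime_iff_not_dvd).mpr hP0.not_dvd).symm).pow_right k
    obtain ⟨g, hg⟩ := hall_conj (K := B) hcop (Nat.eq_of_mul_eq_mul_right (Nat.card_pos (α := M))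
      ((hcard B hB hBM).trans (hcard A hA hAM).symm))
    have hperm : Perm B A := fun a ha b hb => by
      obtain ⟨b', hb', a', ha', e⟩ := hAB.swap (a * b) (mem_top _)
      exact ⟨b', hb', a', ha', e⟩
    have hsup : B ⊔ A = ⊤ := eq_top_iff.mpr fun x hx => by
      obtain ⟨a, ha, b, hb, rfl⟩ := hAB x hx
      exact mul_mem (mem_sup_right ha) (mem_sup_left hb)
    have := sup_eq_top_of_conj hperm hsup g⁻¹
    rw [← hg, ← mul_smul, ← map_mul, inv_mul_cancel, map_one, one_smul, sup_idem] at this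
    exact htop A hA this

theorem normal_factor_of_card_lt : ∀ (n : ℕ) (G : Type u) [Group G] [Finite G], Nat.card G < n →
    ∀ A B : Subgroup G, Group.IsNilpotent A → Group.IsNilpotent B → Prod ⊤ A B → (A ≠ ⊤ ∨ B ≠ ⊤) →
      ∃ N : Subgroup G, N.Normal ∧ N ≠ ⊤ ∧ (A ≤ N ∨ B ≤ N)
  | 0 => fun _ _ _ h => absurd h (Nat.not_lt_zero _)
  | n + 1 => fun _ _ _ h A B hA hB hAB hne =>
    normal_factor_step (fun H _ _ => normal_factor_of_card_lt n H) (Nat.lt_succ_iff.mp h) A B hA hB hAB hne

end Cfsg.Agent.Basics.KW
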