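import Cfsg.Agent.Lib.Basics.CoprimeAction

/-!
Subgroups of coprime index; Wielandt's three subgroup solvability criterion.
-/

set_option autoImplicit false
set_option linter.style.haveILetI false
set_option linter.unusedSectionVars false

open scoped Pointwise

namespace Cfsg.Agent.Basics

variable {G : Type*} [Group G] [Finite G]

theorem index_inf_of_coprime {H K : Subgroup G} (h : H.index.Coprime K.index) :
    (H ⊓ K).index = H.index * K.index := by
  refine le_antisymm (Subgroup.index_inf_le (H := H) (K := K)) (Nat.le_of_dvd ?_ ?_)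
  · exact Nat.pos_of_ne_zero Subgroup.index_ne_zero_of_finite
  · exact h.mul_dvd_of_dvd_of_dvd (Subgroup.index_dvd_of_le inf_le_left)
      (Subgroup.index_dvd_of_le inf_le_right)

theorem exists_mul_of_coprime_index {H K : Subgroup G} (h : H.index.Coprime K.index) (g : G) :
    ∃ x ∈ H, ∃ y ∈ K, g = x * y := by
  let f : K ⧸ H.subgroupOf K → G ⧸ H := fun q =>
    Quotient.liftOn' q (fun k => ((k : G) : G ⧸ H)) (fun a b hab => by
      rw [QuotientGroup.leftRel_apply] at hab
      exact QuotientGroup.eq.mpr hab)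
  have hf : Function.Injective f := by
    intro q r
    induction q using QuotientGroup.induction_on with
    | H a =>
      induction r using QuotientGroup.induction_on with
      | H b =>
        intro hab
        exact QuotientGroup.eq.mpr (QuotientGroup.eq.mp hab : (a : G)⁻¹ * b ∈ H)
  have hrel : H.relIndex K = H.index := by
    have h1 := index_inf_of_coprime h
    rw [← Subgroup.relIndex_mul_index (inf_le_right : H ⊓ K ≤ K), Subgroup.inf_relIndex_right] at h1
    exact Nat.eq_of_mul_eq_mul_right (Nat.pos_of_ne_zero Subgroup.index_ne_zero_of_finite) h1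
  have hcard : Nat.card (K ⧸ H.subgroupOf K) = Nat.card (G ⧸ H) := by
    rw [← Subgroup.index_eq_card, ← Subgroup.index_eq_card]
    exact hrel
  obtain ⟨q, hq⟩ := ((Nat.bijective_iff_injective_and_card f).mpr ⟨hf, hcard⟩).2
    ((g⁻¹ : G) : G ⧸ H)
  induction q using QuotientGroup.induction_on with
  | H k =>
    have h1 : (k : G)⁻¹ * g⁻¹ ∈ H := QuotientGroup.eq.mp hq
    refine ⟨((k : G)⁻¹ * g⁻¹)⁻¹, inv_mem h1, (k : G)⁻¹, inv_mem k.2, by group⟩

universe u

private theorem three_aux : ∀ (k : ℕ) (G : Type u) [Group G] [Finite G] (H₁ H₂ H₃ : Subgroup G),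
    Nat.card G ≤ k → Group.IsSolvable H₁ → Group.IsSolvable H₂ → Group.IsSolvable H₃ →
    (∀ g : G, ∃ x ∈ H₁, ∃ y ∈ H₂, g = x * y) → (∀ g : G, ∃ x ∈ H₁, ∃ y ∈ H₃, g = x * y) →
    H₂.index.Coprime H₃.index → Group.IsSolvable G := by
  intro k
  induction k with
  | zero =>
    intro G _ _ _ _ _ hk
    exact absurd hk (Nat.not_le.mpr Nat.card_pos)
  | succ k ih =>
    intro G _ _ H₁ H₂ H₃ hk h1 h2 h3 h12 h13 hcop
    rcases eq_or_ne H₁ ⊥ with hb | hb
    · have : H₂ = ⊤ := by
        rw [eq_top_iff]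
        intro g _
        obtain ⟨x, hx, y, hy, rfl⟩ := h12 g
        rw [hb, Subgroup.mem_bot] at hx
        simpa [hx] using hy
      rw [this] at h2
      exact Group.isSolvable_of_surjective (f := (Subgroup.topEquiv (G := G)).toMonoidHom)
        (Subgroup.topEquiv (G := G)).surjective
    haveI := H₁.nontrivial_iff_ne_bot.mpr hb
    obtain ⟨p, E, hp, hEn, hEne, hEp⟩ := exists_normal_pGroup (G := H₁)
    haveI : Fact p.Prime := ⟨hp⟩
    set A := E.map H₁.subtype with hA
    have hA1 : H₁ ≤ Subgroup.normalizer (A : Set G) := by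
      rw [← Subgroup.normal_subgroupOf_iff_le_normalizer (Subgroup.map_subtype_le _)]
      rwa [Subgroup.subgroupOf, Subgroup.comap_map_eq_self_of_injective H₁.subtype_injective]
    have key : ∀ H : Subgroup G, Group.IsSolvable H → (∀ g : G, ∃ x ∈ H₁, ∃ y ∈ H, g = x * y) →
        ¬ p ∣ H.index → ∃ N : Subgroup G, N.Normal ∧ N ≠ ⊥ ∧ Group.IsSolvable N := by
      intro H hH hmul hpH
      let P : Sylow p H := default
      set S := (P : Subgroup H).map H.subtype with hS
      have hSH : S ≤ H := Subgroup.map_subtype_le _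
      have hScard : Nat.card S = p ^ (Nat.card G).factorization p := by
        rw [hS, Subgroup.card_map_of_injective H.subtype_injective, P.card_eq_multiplicity,
          ← H.card_mul_index, Nat.factorization_mul Nat.card_pos.ne'
          Subgroup.index_ne_zero_of_finite, Finsupp.add_apply,
          Nat.factorization_eq_zero_of_not_dvd hpH, add_zero]
      obtain ⟨Q, hQ⟩ := (hEp.map H₁.subtype).exists_le_sylow
      obtain ⟨g, rfl⟩ := MulAction.exists_smul_eq G (Sylow.ofCard S hScard) Q
      rw [Sylow.coe_subgroup_smul, Sylow.coe_ofCard] at hQ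
      have hAH : A ≤ H := by
        obtain ⟨x, hx, y, hy, rfl⟩ := hmul g
        have hQ' : A ≤ MulAut.conj (x * y) • H :=
          hQ.trans (Subgroup.pointwise_smul_le_pointwise_smul_iff.mpr hSH)
        rw [← conj_smul_conj_smul, Subgroup.conj_smul_eq_self_of_mem hy] at hQ'
        rw [← conj_smul_eq_self_iff.mpr (hA1 (inv_mem hx))]
        refine (Subgroup.pointwise_smul_le_pointwise_smul_iff.mpr hQ').trans ?_
        rw [conj_smul_conj_smul, inv_mul_cancel, conj_smul_one]
      refine ⟨Subgroup.normalClosure (A : Set G), Subgroup.normalClosure_normal, ?_, ?_⟩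
      · intro h
        have h' : A ≤ ⊥ := h ▸ Subgroup.le_normalClosure
        exact hEne ((Subgroup.map_eq_bot_iff_of_injective E H₁.subtype_injective).mp
          (le_bot_iff.mp h'))
      · refine isSolvable_of_le ?_ hH
        refine (Subgroup.closure_le H).mpr fun z hz => ?_
        obtain ⟨a, ha, hconj⟩ := Group.mem_conjugatesOfSet_iff.mp hz
        obtain ⟨g', rfl⟩ := isConj_iff.mp hconj
        obtain ⟨x, hx, y, hy, hxy⟩ := hmul g'⁻¹
        have hg' : g' = y⁻¹ * x⁻¹ := by
          rw [← inv_inv g', hxy, mul_inv_rev]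
        have hxa : x⁻¹ * a * x ∈ H := by
          refine hAH ?_
          simpa using (conj_mem_iff_of_mem_normalizer (hA1 (inv_mem hx))).mpr ha
        have := mul_mem (mul_mem (inv_mem hy) hxa) hy
        simpa [hg', mul_assoc] using this
    obtain ⟨N, hNn, hNne, hNs⟩ : ∃ N : Subgroup G, N.Normal ∧ N ≠ ⊥ ∧ Group.IsSolvable N := by
      by_cases hd : p ∣ H₂.index
      · exact key H₃ h3 h13 fun h => hp.not_dvd_one (hcop ▸ Nat.dvd_gcd hd h)
      · exact key H₂ h2 h12 hd
    haveI := hNn
    set π := QuotientGroup.mk' N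
    have hmap : ∀ A B : Subgroup G, (∀ g : G, ∃ x ∈ A, ∃ y ∈ B, g = x * y) →
        ∀ q : G ⧸ N, ∃ x ∈ A.map π, ∃ y ∈ B.map π, q = x * y := by
      intro A B h q
      obtain ⟨g, rfl⟩ := QuotientGroup.mk'_surjective N q
      obtain ⟨x, hx, y, hy, rfl⟩ := h g
      exact ⟨π x, Subgroup.mem_map_of_mem π hx, π y, Subgroup.mem_map_of_mem π hy, map_mul π x y⟩
    have hQ : Group.IsSolvable (G ⧸ N) :=
      ih (G ⧸ N) (H₁.map π) (H₂.map π) (H₃.map π)
        (Nat.lt_succ_iff.mp ((card_quotient_lt hNne).trans_le hk))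
        (isSolvable_map π h1) (isSolvable_map π h2) (isSolvable_map π h3) (hmap _ _ h12)
        (hmap _ _ h13)
        (Nat.Coprime.of_dvd (H₂.index_map_dvd (QuotientGroup.mk'_surjective N))
          (H₃.index_map_dvd (QuotientGroup.mk'_surjective N)) hcop)
    exact (Group.isSolvable_iff_subgroup_quotient N).mpr ⟨hNs, hQ⟩

/-- Wielandt's criterion in product form. -/
theorem isSolvable_of_three {G : Type u} [Group G] [Finite G] (H₁ H₂ H₃ : Subgroup G)
    (h₁ : Group.IsSolvable H₁) (h₂ : Group.IsSolvable H₂) (h₃ : Group.IsSolvable H₃)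
    (h12 : ∀ g : G, ∃ x ∈ H₁, ∃ y ∈ H₂, g = x * y)
    (h13 : ∀ g : G, ∃ x ∈ H₁, ∃ y ∈ H₃, g = x * y)
    (hcop : H₂.index.Coprime H₃.index) : Group.IsSolvable G :=
  three_aux _ G H₁ H₂ H₃ le_rfl h₁ h₂ h₃ h12 h13 hcop

end Cfsg.Agent.Basics
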