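import Cfsg.Agent.Lib.Basics.Solvability
import Cfsg.Agent.Lib.Basics.Hall
import Cfsg.Prelude.Def_SolvableStructure

/-!
Hall complement systems and system normalisers.
-/

set_option autoImplicit false
set_option linter.style.haveILetI false
set_option linter.unusedSectionVars false

open scoped Pointwise commutatorElement

namespace Cfsg.Agent.Basics

variable {G : Type*} [Group G] [Finite G]

/-- The primes dividing `|G|`, as a finset of `Nat.Primes`. -/
noncomputable def primesOf (G : Type*) [Group G] : Finset Nat.Primes :=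
  (Nat.card G).primeFactors.attach.map
    ⟨fun p => ⟨p.1, Nat.prime_of_mem_primeFactors p.2⟩, fun a b h => by
      apply Subtype.ext
      exact congrArg (fun q : Nat.Primes => (q : ℕ)) h⟩

theorem mem_primesOf {p : Nat.Primes} : p ∈ primesOf G ↔ (p : ℕ) ∣ Nat.card G := by
  simp only [primesOf, Finset.mem_map, Finset.mem_attach, Function.Embedding.coeFn_mk, true_and]
  constructor
  · rintro ⟨⟨q, hq⟩, rfl⟩
    exact (Nat.mem_primeFactors.mp hq).2.1
  · intro h
    exact ⟨⟨p, Nat.mem_primeFactors.mpr ⟨p.2, h, Nat.card_pos.ne'⟩⟩, rfl⟩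

theorem prime_pow_coprime {p q : Nat.Primes} (h : p ≠ q) (a b : ℕ) :
    ((p : ℕ) ^ a).Coprime ((q : ℕ) ^ b) :=
  Nat.Coprime.pow a b ((Nat.coprime_primes p.2 q.2).mpr fun e => h (Subtype.ext e))

theorem prod_card_eq : ∏ p ∈ primesOf G, (p : ℕ) ^ (Nat.card G).factorization p = Nat.card G := by
  rw [primesOf, Finset.prod_map]
  exact (Finset.prod_attach (Nat.card G).primeFactors
    (fun p => p ^ (Nat.card G).factorization p)).trans
    (Nat.prod_factorization_pow_eq_self Nat.card_pos.ne')

/-- Intersections of subgroups of pairwise coprime index. -/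
theorem index_iInf_finset {ι : Type*} [DecidableEq ι] (H : ι → Subgroup G) (s : Finset ι)
    (h : (s : Set ι).Pairwise fun i j => (H i).index.Coprime (H j).index) :
    (⨅ i ∈ s, H i).index = ∏ i ∈ s, (H i).index := by
  induction s using Finset.induction_on with
  | empty => simp
  | @insert a s ha ih =>
    have ih' := ih (h.mono (Finset.coe_subset.mpr (Finset.subset_insert a s)))
    rw [Finset.iInf_insert, Finset.prod_insert ha, index_inf_of_coprime, ih']
    rw [ih']
    exact Nat.Coprime.prod_right fun i hi => h (Finset.mem_insert_self a s)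
      (Finset.mem_insert_of_mem hi) (fun e => ha (e ▸ hi))

/-- Chinese remainder theorem for left cosets of subgroups of pairwise coprime index. -/
theorem exists_mem_cosets {ι : Type*} [DecidableEq ι] (H : ι → Subgroup G) (s : Finset ι)
    (h : (s : Set ι).Pairwise fun i j => (H i).index.Coprime (H j).index) (g : ι → G) :
    ∃ x : G, ∀ i ∈ s, (g i)⁻¹ * x ∈ H i := by
  induction s using Finset.induction_on with
  | empty => exact ⟨1, by simp⟩
  | @insert a s ha ih =>
    have hs := h.mono (Finset.coe_subset.mpr (Finset.subset_insert a s))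
    obtain ⟨x, hx⟩ := ih hs
    have hc : (⨅ i ∈ s, H i).index.Coprime (H a).index := by
      rw [index_iInf_finset H s hs]
      exact Nat.Coprime.prod_left fun i hi => h (Finset.mem_insert_of_mem hi)
        (Finset.mem_insert_self a s) (fun e => ha (e ▸ hi))
    obtain ⟨d, hd, k, hk, hdk⟩ := exists_mul_of_coprime_index hc (x⁻¹ * g a)
    refine ⟨x * d, fun i hi => ?_⟩
    rcases Finset.mem_insert.mp hi with rfl | hi
    · have : g i = x * d * k := by rw [mul_assoc, ← hdk]; group
      rw [this]
      convert inv_mem hk using 1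
      group
    · have hdi : d ∈ H i := (iInf₂_le i hi : (⨅ j ∈ s, H j) ≤ H i) hd
      simpa [mul_assoc] using mul_mem (hx i hi) hdi

variable {K L : Nat.Primes → Subgroup G}

theorem system_pairwise (hK : Cfsg.IsComplementSystem K) (s : Finset Nat.Primes) :
    (s : Set Nat.Primes).Pairwise fun p q => (K p).index.Coprime (K q).index :=
  fun p _ q _ hpq => by
    show (K p).index.Coprime (K q).index
    rw [hK p, hK q]; exact prime_pow_coprime hpq _ _

theorem system_eq_top (hK : Cfsg.IsComplementSystem K) {p : Nat.Primes} (hp : p ∉ primesOf G) :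
    K p = ⊤ := by
  rw [mem_primesOf] at hp
  rw [← Subgroup.index_eq_one, hK p, Nat.factorization_eq_zero_of_not_dvd hp, pow_zero]

theorem system_card_factorization (hK : Cfsg.IsComplementSystem K) (p : Nat.Primes) :
    (Nat.card (K p)).factorization p = 0 ∧
      Nat.card (K p) = Nat.card G / (p : ℕ) ^ (Nat.card G).factorization p := by
  have h := (K p).card_mul_index
  rw [hK p] at h
  refine ⟨?_, (Nat.div_eq_of_eq_mul_left (pow_pos p.2.pos _) h.symm).symm⟩
  have h1 := congrArg (fun n => n.factorization (p : ℕ)) h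
  rw [Nat.factorization_mul Nat.card_pos.ne' (pow_pos p.2.pos _).ne', p.2.factorization_pow,
    Finsupp.add_apply, Finsupp.single_eq_same] at h1
  omega

theorem system_not_dvd (hK : Cfsg.IsComplementSystem K) (p : Nat.Primes) :
    ¬ (p : ℕ) ∣ Nat.card (K p) := fun h =>
  (p.2.factorization_pos_of_dvd Nat.card_pos.ne' h).ne' (system_card_factorization hK p).1

theorem exists_complementSystem [Group.IsSolvable G] :
    ∃ K : Nat.Primes → Subgroup G, Cfsg.IsComplementSystem K := by
  have : ∀ p : Nat.Primes, ∃ H : Subgroup G,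
      H.index = (p : ℕ) ^ (Nat.card G).factorization p := by
    intro p
    have hG : Nat.card G = (Nat.card G / (p : ℕ) ^ (Nat.card G).factorization p) *
        (p : ℕ) ^ (Nat.card G).factorization p := by
      rw [mul_comm]
      exact (Nat.ordProj_mul_ordCompl_eq_self _ _).symm
    obtain ⟨H, hH⟩ := exists_hall_of_card hG
      ((Nat.coprime_ordCompl p.2 Nat.card_pos.ne').symm.pow_right _)
    exact ⟨H, index_eq_of_card hG hH⟩
  choose K hK using this
  exact ⟨K, hK⟩

/-- Simultaneous conjugacy of two complement systems. -/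
theorem complementSystem_conj [Group.IsSolvable G] (hK : Cfsg.IsComplementSystem K)
    (hL : Cfsg.IsComplementSystem L) : ∃ g : G, ∀ p, MulAut.conj g • K p = L p := by
  classical
  have hc : ∀ p : Nat.Primes, ∃ g : G, MulAut.conj g • K p = L p := fun p => by
    refine hall_conj ?_ ?_
    · rw [hK p]
      exact ((Nat.Prime.coprime_iff_not_dvd p.2).mpr (system_not_dvd hK p)).symm.pow_right _
    · rw [(system_card_factorization hK p).2, (system_card_factorization hL p).2]
  choose g hg using hc
  obtain ⟨x, hx⟩ := exists_mem_cosets K (primesOf G) (system_pairwise hK _) g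
  refine ⟨x, fun p => ?_⟩
  by_cases hp : p ∈ primesOf G
  · have h := hx p hp
    rw [← mul_inv_cancel_left (g p) x, ← conj_smul_conj_smul,
      Subgroup.conj_smul_eq_self_of_mem h, hg p]
  · rw [system_eq_top hK hp, system_eq_top hL hp]
    exact Subgroup.Normal.conj_smul_eq_self x ⊤

/-- The Sylow subgroup of a complement system. -/
noncomputable def systemSylow (K : Nat.Primes → Subgroup G) (p : Nat.Primes) : Subgroup G :=
  ⨅ q ∈ (primesOf G).erase p, K q

theorem index_iInf_system (hK : Cfsg.IsComplementSystem K) (s : Finset Nat.Primes) :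
    (⨅ q ∈ s, K q).index = ∏ q ∈ s, (q : ℕ) ^ (Nat.card G).factorization q := by
  rw [index_iInf_finset K s (system_pairwise hK s)]
  exact Finset.prod_congr rfl fun q _ => hK q

theorem card_systemSylow (hK : Cfsg.IsComplementSystem K) (p : Nat.Primes) :
    Nat.card (systemSylow K p) = (p : ℕ) ^ (Nat.card G).factorization p := by
  have h := (systemSylow K p).card_mul_index
  rw [systemSylow, index_iInf_system hK] at h
  have hpos : 0 < ∏ q ∈ (primesOf G).erase p, (q : ℕ) ^ (Nat.card G).factorization q :=
    Finset.prod_pos fun q _ => pow_pos q.2.pos _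
  apply Nat.eq_of_mul_eq_mul_right hpos
  rw [systemSylow, h]
  by_cases hp : p ∈ primesOf G
  · conv_lhs => rw [← prod_card_eq (G := G)]
    exact (Finset.mul_prod_erase _ (fun q : Nat.Primes => (q : ℕ) ^ (Nat.card G).factorization q) hp).symm
  · rw [Finset.erase_eq_of_notMem hp, prod_card_eq]
    rw [mem_primesOf] at hp
    rw [Nat.factorization_eq_zero_of_not_dvd hp, pow_zero, one_mul]

theorem conj_systemSylow_of_mem {g : G} (hg : g ∈ Cfsg.systemNormalizer K) (p : Nat.Primes) :
    MulAut.conj g • systemSylow K p = systemSylow K p := by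
  have hg' : ∀ q, MulAut.conj g • K q = K q := fun q =>
    conj_smul_eq_self_iff.mpr (Subgroup.mem_iInf.mp hg q)
  ext x
  simp only [mem_conj_smul, systemSylow, Subgroup.mem_iInf]
  constructor
  · intro h q hq
    rw [← hg' q, mem_conj_smul]
    exact h q hq
  · intro h q hq
    have := h q hq
    rwa [← hg' q, mem_conj_smul] at this

/-- System normalisers are nilpotent. -/
theorem systemNormalizer_isNilpotent (hK : Cfsg.IsComplementSystem K) :
    Group.IsNilpotent (Cfsg.systemNormalizer K) := by
  set D := Cfsg.systemNormalizer K with hD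
  refine ((Group.isNilpotent_of_finite_tfae (G := D)).out 0 3 :).mpr ?_
  intro p hp P
  let S : Sylow p G := Sylow.ofCard (systemSylow K ⟨p, hp.out⟩) (card_systemSylow hK _)
  have hS : ∀ d : D, (d : G) ∈ Subgroup.normalizer ((S : Subgroup G) : Set G) := by
    intro d
    rw [← conj_smul_eq_self_iff]
    exact conj_systemSylow_of_mem d.2 _
  have hle : (P : Subgroup D).map D.subtype ≤ S := by
    have h1 : (P : Subgroup D).map D.subtype ≤ Subgroup.normalizer ((S : Subgroup G) : Set G) := by
      rintro _ ⟨d, -, rfl⟩
      exact hS d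
    have h2 := (P.isPGroup'.map D.subtype).inf_normalizer_sylow S
    have h3 : (P : Subgroup D).map D.subtype ≤ Subgroup.normalizer (S : Set G) := h1
    rw [inf_eq_left.mpr h3] at h2
    exact inf_eq_left.mp h2.symm
  have hP : (P : Subgroup D) = (S : Subgroup G).subgroupOf D :=
    (P.is_maximal' (S.isPGroup'.comap_subtype) (fun d hd => hle ⟨d, hd, rfl⟩)).symm
  rw [hP]
  constructor
  intro x hx d
  exact (conj_mem_iff_of_mem_normalizer (hS d)).mpr hx

variable (N : Subgroup G) [N.Normal]

theorem isComplementSystem_map (hK : Cfsg.IsComplementSystem K) :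
    Cfsg.IsComplementSystem (fun p => (K p).map (QuotientGroup.mk' N)) := by
  intro p
  set π := QuotientGroup.mk' N
  obtain ⟨k, -, hk⟩ := (Nat.dvd_prime_pow p.2).mp
    (hK p ▸ (K p).index_map_dvd (QuotientGroup.mk'_surjective N))
  have hnd : ¬ (p : ℕ) ∣ Nat.card ((K p).map π) :=
    fun h => system_not_dvd hK p (h.trans ((K p).card_map_dvd π))
  have h := congrArg (fun n => n.factorization (p : ℕ)) ((K p).map π).card_mul_index
  rw [hk, Nat.factorization_mul Nat.card_pos.ne' (pow_pos p.2.pos _).ne', p.2.factorization_pow,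
    Finsupp.add_apply, Finsupp.single_eq_same, Nat.factorization_eq_zero_of_not_dvd hnd,
    zero_add] at h
  show ((K p).map π).index = _
  rw [hk, h]

theorem map_systemNormalizer_le :
    (Cfsg.systemNormalizer K).map (QuotientGroup.mk' N) ≤
      Cfsg.systemNormalizer (fun p => (K p).map (QuotientGroup.mk' N)) := by
  rintro _ ⟨g, hg, rfl⟩
  rw [Cfsg.systemNormalizer, Subgroup.mem_iInf]
  intro p
  rw [← conj_smul_eq_self_iff, ← map_conj_smul,
    conj_smul_eq_self_iff.mpr (Subgroup.mem_iInf.mp hg p)]

/-- System normalisers map onto system normalisers. -/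
theorem systemNormalizer_map [Group.IsSolvable G] (hK : Cfsg.IsComplementSystem K) :
    Cfsg.systemNormalizer (fun p => (K p).map (QuotientGroup.mk' N)) =
      (Cfsg.systemNormalizer K).map (QuotientGroup.mk' N) := by
  classical
  set π := QuotientGroup.mk' N with hπ
  refine le_antisymm ?_ (map_systemNormalizer_le N)
  intro y hy
  obtain ⟨g, rfl⟩ := QuotientGroup.mk'_surjective N y
  have hc : ∀ p, ∃ n : N, MulAut.conj (n : G) • K p = MulAut.conj g • K p := by
    intro p
    set M := N ⊔ K p
    have hgM : MulAut.conj g • K p ≤ M := by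
      have h1 := (Subgroup.mem_iInf.mp hy p)
      rw [← conj_smul_eq_self_iff, ← map_conj_smul] at h1
      have h2 := Subgroup.map_le_iff_le_comap.mp h1.le
      rwa [Subgroup.comap_map_eq, QuotientGroup.ker_mk', sup_comm] at h2
    have hcop : (Nat.card ((K p).subgroupOf M)).Coprime ((K p).subgroupOf M).index := by
      rw [card_subgroupOf le_sup_right]
      refine Nat.Coprime.coprime_dvd_right (Subgroup.relIndex_dvd_index_of_le le_sup_right) ?_
      rw [hK p]
      exact ((Nat.Prime.coprime_iff_not_dvd p.2).mpr (system_not_dvd hK p)).symm.pow_right _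
    obtain ⟨m, hm⟩ := hall_conj hcop (K := (MulAut.conj g • K p).subgroupOf M)
      (by rw [card_subgroupOf hgM, card_subgroupOf le_sup_right, card_conj_smul])
    have h1 := congrArg (Subgroup.map M.subtype) hm
    rw [map_conj_smul, Subgroup.map_subgroupOf_eq_of_le le_sup_right,
      Subgroup.map_subgroupOf_eq_of_le hgM] at h1
    obtain ⟨n, hn, k, hk, hnk⟩ :=
      (mem_sup_of_le_normalizer (Subgroup.le_normalizer_of_normal (H := N))).mp m.2
    refine ⟨⟨n, hn⟩, ?_⟩
    change MulAut.conj (m : G) • K p = _ at h1
    rwa [hnk, ← conj_smul_conj_smul, Subgroup.conj_smul_eq_self_of_mem hk] at h1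
  choose n hn using hc
  have hpair : (primesOf G : Set Nat.Primes).Pairwise fun p q =>
      ((K p).subgroupOf N).index.Coprime ((K q).subgroupOf N).index := by
    intro p hp q hq hpq
    have key : ∀ r : Nat.Primes, ((K r).subgroupOf N).index ∣ (K r).index := by
      intro r
      have h1 := card_mul_card_eq_card_sup_mul_card_inf
        (Subgroup.le_normalizer_of_normal : K r ≤ Subgroup.normalizer (N : Set G))
      have h2 := Subgroup.card_mul_index ((K r).subgroupOf N)
      rw [← Subgroup.inf_subgroupOf_right, card_subgroupOf inf_le_right,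
        Subgroup.inf_subgroupOf_right] at h2
      have h3 := Subgroup.card_mul_index ((K r).subgroupOf (N ⊔ K r))
      rw [card_subgroupOf le_sup_right] at h3
      rw [← h2, ← h3, inf_comm N (K r)] at h1
      have h4 : ((K r).subgroupOf N).index = ((K r).subgroupOf (N ⊔ K r)).index := by
        apply Nat.eq_of_mul_eq_mul_left
          (Nat.mul_pos (Nat.card_pos (α := (K r ⊓ N : Subgroup G))) (Nat.card_pos (α := K r)))
        linarith
      rw [h4]
      exact Subgroup.relIndex_dvd_index_of_le le_sup_right
    exact Nat.Coprime.of_dvd (key p) (key q) (system_pairwise hK _ hp hq hpq)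
  obtain ⟨x, hx⟩ := exists_mem_cosets (fun p => (K p).subgroupOf N) (primesOf G) hpair n
  refine ⟨(x : G)⁻¹ * g, ?_, ?_⟩
  · rw [SetLike.mem_coe, Cfsg.systemNormalizer, Subgroup.mem_iInf]
    intro p
    rw [← conj_smul_eq_self_iff]
    by_cases hp : p ∈ primesOf G
    · have h : (n p : G)⁻¹ * x ∈ K p := hx p hp
      rw [← conj_smul_conj_smul, ← hn p]
      apply conj_smul_inv_eq
      conv_lhs => rw [← mul_inv_cancel_left ((n p : G)) (x : G)]
      rw [← conj_smul_conj_smul, Subgroup.conj_smul_eq_self_of_mem h]
    · rw [system_eq_top hK hp]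
      exact Subgroup.Normal.conj_smul_eq_self _ ⊤
  · rw [map_mul, map_inv]
    have : π (x : G) = 1 := (QuotientGroup.eq_one_iff _).mpr x.2
    rw [this, inv_one, one_mul]

omit N in
/-- The product set of two permutable subgroups. -/
theorem coe_sup_of_mul_comm {H M : Subgroup G}
    (h : (H : Set G) * (M : Set G) = (M : Set G) * (H : Set G)) :
    ((H ⊔ M : Subgroup G) : Set G) = (H : Set G) * (M : Set G) := by
  rw [Subgroup.sup_eq_closure_mul]
  refine Set.Subset.antisymm (fun x hx => ?_) Subgroup.subset_closure
  induction hx using Subgroup.closure_induction'' with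
  | one => exact ⟨1, one_mem _, 1, one_mem _, mul_one 1⟩
  | mem _ hx => exact hx
  | inv_mem x hx =>
    obtain ⟨a, ha, b, hb, rfl⟩ := hx
    rw [h]
    exact ⟨b⁻¹, inv_mem hb, a⁻¹, inv_mem ha, (mul_inv_rev a b).symm⟩
  | mul x y _ _ hx hy =>
    obtain ⟨a, ha, b, hb, rfl⟩ := hx
    obtain ⟨c, hc, d, hd, rfl⟩ := hy
    obtain ⟨c', hc', b', hb', hcb⟩ : b * c ∈ (H : Set G) * (M : Set G) := h ▸ ⟨b, hb, c, hc, rfl⟩
    refine ⟨a * c', mul_mem ha hc', b' * d, mul_mem hb' hd, ?_⟩
    change c' * b' = b * c at hcb
    change a * c' * (b' * d) = a * b * (c * d)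
    calc a * c' * (b' * d) = a * (c' * b') * d := by group
    _ = a * (b * c) * d := by rw [hcb]
    _ = a * b * (c * d) := by group

theorem card_mul_of_disjoint {H M : Subgroup G} (h : Disjoint H M) :
    Nat.card ((H : Set G) * (M : Set G) : Set G) = Nat.card H * Nat.card M := by
  rw [← Nat.card_prod]
  let f : H × M → ((H : Set G) * (M : Set G) : Set G) :=
    fun x => ⟨(x.1 : G) * x.2, Set.mul_mem_mul x.1.2 x.2.2⟩
  refine (Nat.card_congr (Equiv.ofBijective f ⟨fun x y hxy => ?_, ?_⟩)).symm
  · exact Subgroup.mul_injective_of_disjoint h (congrArg Subtype.val hxy)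
  · rintro ⟨_, a, ha, b, hb, rfl⟩
    exact ⟨(⟨a, ha⟩, ⟨b, hb⟩), rfl⟩

/-- The Sylow subgroups of a complement system permute. -/
theorem systemSylow_mul_comm (hK : Cfsg.IsComplementSystem K) (p q : Nat.Primes) :
    (systemSylow K p : Set G) * (systemSylow K q : Set G) =
      (systemSylow K q : Set G) * (systemSylow K p : Set G) := by
  classical
  rcases eq_or_ne p q with rfl | hpq
  · rfl
  set M := ⨅ r ∈ ((primesOf G).erase p).erase q, K r with hM
  have hcard : Nat.card M ≤ Nat.card (systemSylow K p) * Nat.card (systemSylow K q) := by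
    have h := M.card_mul_index
    have hprod : Nat.card G ∣ (p : ℕ) ^ (Nat.card G).factorization p *
        (q : ℕ) ^ (Nat.card G).factorization q *
          ∏ r ∈ ((primesOf G).erase p).erase q, (r : ℕ) ^ (Nat.card G).factorization r := by
      have : ∏ r ∈ insert p (insert q (((primesOf G).erase p).erase q)),
          (r : ℕ) ^ (Nat.card G).factorization r =
          (p : ℕ) ^ (Nat.card G).factorization p * (q : ℕ) ^ (Nat.card G).factorization q *
          ∏ r ∈ ((primesOf G).erase p).erase q, (r : ℕ) ^ (Nat.card G).factorization r := by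
        rw [Finset.prod_insert (by simp [hpq]), Finset.prod_insert (by simp), mul_assoc]
      rw [← this]
      conv_lhs => rw [← prod_card_eq (G := G)]
      refine Finset.prod_dvd_prod_of_subset _ _ _ fun r hr => ?_
      simp only [Finset.mem_insert, Finset.mem_erase]
      tauto
    rw [hM, index_iInf_system hK, ← hM] at h
    rw [card_systemSylow hK, card_systemSylow hK]
    have hle := Nat.le_of_dvd (Nat.mul_pos (Nat.mul_pos (pow_pos p.2.pos _) (pow_pos q.2.pos _))
      (Finset.prod_pos fun r _ => pow_pos r.2.pos _)) hprod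
    exact Nat.le_of_mul_le_mul_right (h.le.trans hle)
      (Finset.prod_pos fun (r : Nat.Primes) _ => pow_pos r.2.pos _)
  have hdis : ∀ a b : Nat.Primes, a ≠ b → Disjoint (systemSylow K a) (systemSylow K b) := by
    intro a b hab
    apply Subgroup.disjoint_of_coprime_natCard
    rw [card_systemSylow hK, card_systemSylow hK]
    exact prime_pow_coprime hab _ _
  have key : ∀ a b : Nat.Primes, a ≠ b → systemSylow K a ≤ M → systemSylow K b ≤ M →
      Nat.card M ≤ Nat.card (systemSylow K a) * Nat.card (systemSylow K b) →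
      (systemSylow K a : Set G) * (systemSylow K b : Set G) = (M : Set G) := by
    intro a b hab ha hb hc
    refine Set.eq_of_subset_of_ncard_le (Subgroup.mul_subset ha hb) ?_ (Set.toFinite _)
    rw [← Nat.card_coe_set_eq, ← Nat.card_coe_set_eq, card_mul_of_disjoint (hdis a b hab)]
    exact hc
  have hp : systemSylow K p ≤ M := biInf_mono fun r hr => Finset.mem_of_mem_erase hr
  have hq : systemSylow K q ≤ M := biInf_mono fun r hr => by
    simp only [Finset.mem_erase] at hr ⊢
    exact ⟨hr.1, hr.2.2⟩
  rw [key p q hpq hp hq hcard, key q p hpq.symm hq hp (by rwa [mul_comm])]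

end Cfsg.Agent.Basics
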